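import Cfsg.Agent.Lib.BC78.Central
import Cfsg.Agent.Lib.Characters.Linear
import Cfsg.Agent.Lib.Characters.Kernel
import Cfsg.Agent.Lib.Characters.Degree
import Mathlib.GroupTheory.PGroup
import Mathlib.GroupTheory.SpecificGroups.Cyclic
import Mathlib.RingTheory.IntegralDomain

/-!
# Nonlinear characters of `p`-groups

* central scalars, `degree ^ 2 * |Z| ≤ |G|`, vanishing off the centre;
* when all nonlinear characters of equal degree are Galois conjugate, the centre is cyclic and
  the derived subgroup has order `p`.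
-/

namespace Cfsg.Agent.Lib.Chars82.PGroupChars

open scoped ComplexConjugate
open scoped commutatorElement
open Cfsg.Agent.Lib.Induced.Basic Cfsg.Agent.Lib.Characters.Basic
open Cfsg.Agent.Lib.Characters.Complete Cfsg.Agent.Lib.Characters.Linear

universe u

variable {G : Type u} [Group G] [Finite G]

theorem mul_center (χ : Cfsg.IrrCharacter G) {z : G} (hz : z ∈ Subgroup.center G) (g : G) :
    (χ : G → ℂ) (z * g) = (χ : G → ℂ) z / (χ : G → ℂ) 1 * (χ : G → ℂ) g :=
  Cfsg.Agent.Lib.BC78.Central.char_mul_central χ.2 hz g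

/-- The central scalar of an irreducible character. -/
noncomputable def omegaZ (χ : Cfsg.IrrCharacter G) : Subgroup.center G →* ℂ where
  toFun z := (χ : G → ℂ) z / (χ : G → ℂ) 1
  map_one' := div_self (apply_one_ne_zero χ)
  map_mul' a b := by rw [Subgroup.coe_mul, mul_center χ a.2, mul_div_assoc]

theorem apply_center (χ : Cfsg.IrrCharacter G) (z : Subgroup.center G) :
    (χ : G → ℂ) z = omegaZ χ z * (χ : G → ℂ) 1 :=
  (div_mul_cancel₀ _ (apply_one_ne_zero χ)).symm

theorem norm_omegaZ (χ : Cfsg.IrrCharacter G) (z : Subgroup.center G) : ‖omegaZ χ z‖ = 1 :=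
  Complex.norm_eq_one_of_pow_eq_one
    (show omegaZ χ z ^ orderOf z = 1 by rw [← map_pow, pow_orderOf_eq_one, map_one])
    (orderOf_pos z).ne'

/-- The degree squared times the order of the centre is at most the group order, with equality
for characters vanishing off the centre. -/
theorem degree_sq_mul_le (χ : Cfsg.IrrCharacter G) {d : ℕ} (hd : (χ : G → ℂ) 1 = d) :
    d ^ 2 * Nat.card (Subgroup.center G) ≤ Nat.card G ∧
      ((∀ g ∉ Subgroup.center G, (χ : G → ℂ) g = 0) →
        d ^ 2 * Nat.card (Subgroup.center G) = Nat.card G) := by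
  classical
  have := Fintype.ofFinite G
  have hs := classInner_self_irr χ
  rw [Cfsg.classInner, inv_mul_eq_iff_eq_mul₀ natCard_ne_zero, mul_one] at hs
  simp only [Complex.mul_conj'] at hs
  have hs' : ∑ g : G, ‖(χ : G → ℂ) g‖ ^ 2 = (Nat.card G : ℝ) := by exact_mod_cast hs
  have hZ : ∀ g ∈ Finset.univ.filter (fun g : G => g ∈ Subgroup.center G),
      ‖(χ : G → ℂ) g‖ ^ 2 = (d : ℝ) ^ 2 := by
    intro g hg
    rw [apply_center χ ⟨g, (Finset.mem_filter.mp hg).2⟩, norm_mul, norm_omegaZ, one_mul, hd,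
      Complex.norm_natCast]
  have hcard : (Finset.univ.filter (fun g : G => g ∈ Subgroup.center G)).card =
      Nat.card (Subgroup.center G) := by
    rw [← Fintype.card_subtype, Nat.card_eq_fintype_card]
  have hsum : ∑ g ∈ Finset.univ.filter (fun g : G => g ∈ Subgroup.center G), ‖(χ : G → ℂ) g‖ ^ 2 =
      ((d ^ 2 * Nat.card (Subgroup.center G) : ℕ) : ℝ) := by
    rw [Finset.sum_congr rfl hZ, Finset.sum_const, hcard, nsmul_eq_mul]
    push_cast
    ring
  rw [← Finset.sum_filter_add_sum_filter_not Finset.univ (fun g : G => g ∈ Subgroup.center G),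
    hsum] at hs'
  refine ⟨?_, fun hv => ?_⟩
  · have : (0 : ℝ) ≤ ∑ g ∈ Finset.univ.filter (fun g : G => ¬ g ∈ Subgroup.center G),
        ‖(χ : G → ℂ) g‖ ^ 2 := Finset.sum_nonneg fun g _ => sq_nonneg _
    exact_mod_cast (by linarith : ((d ^ 2 * Nat.card (Subgroup.center G) : ℕ) : ℝ) ≤ Nat.card G)
  · rw [Finset.sum_eq_zero (s := Finset.univ.filter (fun g : G => ¬ g ∈ Subgroup.center G))
      (fun g hg => by rw [hv g (Finset.mem_filter.mp hg).2, norm_zero, sq, zero_mul]), add_zero] at hs'
    exact_mod_cast hs'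

omit [Finite G] in
/-- A linear character is trivial on commutators. -/
theorem linear_commutator {χ : G → ℂ} (h : Cfsg.IsCharacter G χ) (h1 : χ 1 = 1) {c : G}
    (hc : c ∈ commutator G) : χ c = 1 := by
  rw [← degOneHom_apply h h1, Abelianization.commutator_subset_ker (degOneHom h h1) hc,
    Units.val_one]

/-- With a central derived subgroup of prime order, nonlinear characters vanish off the centre
and restrict faithfully to the derived subgroup. -/
theorem prime_derived {p : ℕ} [hp : Fact p.Prime] (hc : Nat.card (commutator G) = p)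
    (hle : commutator G ≤ Subgroup.center G) (χ : Cfsg.IrrCharacter G)
    (hχ : (χ : G → ℂ) 1 ≠ 1) :
    (∀ c ∈ commutator G, (χ : G → ℂ) c = (χ : G → ℂ) 1 → c = 1) ∧
      ∀ g ∉ Subgroup.center G, (χ : G → ℂ) g = 0 := by
  have hnot : ¬ ∀ c ∈ commutator G, (χ : G → ℂ) c = (χ : G → ℂ) 1 := by
    intro hall
    obtain ⟨φ, hφc, hφ, hirr⟩ := Cfsg.Agent.Lib.Characters.Kernel.exists_descend (commutator G)
      (isCharacter_irr χ) hall
    apply hχ
    rw [← hφ, Function.comp_apply, map_one]
    refine Cfsg.Agent.Lib.BC78.Central.irr_of_comm_degree (fun a b => ?_) (hirr χ.2)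
    induction a using QuotientGroup.induction_on with
    | _ a =>
      induction b using QuotientGroup.induction_on with
      | _ b =>
        refine QuotientGroup.eq.mpr ?_
        have : (a * b)⁻¹ * (b * a) = ⁅b⁻¹, a⁻¹⁆ := by rw [commutatorElement_def]; group
        rw [this]
        exact Subgroup.commutator_mem_commutator (Subgroup.mem_top _) (Subgroup.mem_top _)
  have hfaith : ∀ c ∈ commutator G, (χ : G → ℂ) c = (χ : G → ℂ) 1 → c = 1 := by
    intro c hcG hcv
    by_contra hne
    refine hnot fun c' hc' => ?_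
    let C : Subgroup G := Cfsg.Agent.Lib.Characters.Kernel.charKer (isCharacter_irr χ) ⊓ commutator G
    have hCp : Nat.card C = p := by
      have hd : Nat.card C ∣ p := hc ▸ Subgroup.card_dvd_of_le inf_le_right
      refine (hp.out.eq_one_or_self_of_dvd _ hd).resolve_left fun h1 => hne ?_
      rw [Subgroup.card_eq_one] at h1
      have : c ∈ C := ⟨hcv, hcG⟩
      rw [h1] at this
      exact Subgroup.mem_bot.mp this
    have : C = commutator G := Subgroup.eq_of_le_of_card_ge inf_le_right (by rw [hCp, hc])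
    rw [← this] at hc'
    exact hc'.1
  refine ⟨hfaith, fun g hg => ?_⟩
  obtain ⟨y, hy⟩ : ∃ y : G, y * g ≠ g * y := by
    by_contra hall
    push Not at hall
    exact hg (Subgroup.mem_center_iff.mpr hall)
  have hcG : ⁅y, g⁆ ∈ commutator G :=
    Subgroup.commutator_mem_commutator (Subgroup.mem_top _) (Subgroup.mem_top _)
  have hne : ⁅y, g⁆ ≠ 1 := fun h => hy (commutatorElement_eq_one_iff_mul_comm.mp h)
  have h1 : (χ : G → ℂ) (⁅y, g⁆ * g) = (χ : G → ℂ) g := by
    rw [show ⁅y, g⁆ * g = y * g * y⁻¹ by rw [commutatorElement_def]; group]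
    exact isClassFunction_irr χ g y
  rw [mul_center χ (hle hcG)] at h1
  by_contra h0
  have h2 := mul_left_eq_self₀.mp h1
  rcases h2 with h2 | h2
  · rw [div_eq_one_iff_eq (apply_one_ne_zero χ)] at h2
    exact hne (hfaith _ hcG h2)
  · exact h0 h2

/-- A faithful irreducible character forces a cyclic centre. -/
theorem isCyclic_center_of_faithful (χ : Cfsg.IrrCharacter G)
    (h : ∀ z ∈ Subgroup.center G, (χ : G → ℂ) z = (χ : G → ℂ) 1 → z = 1) :
    IsCyclic (Subgroup.center G) := by
  refine isCyclic_of_subgroup_isDomain (omegaZ χ) ((injective_iff_map_eq_one _).mpr fun z hz => ?_)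
  refine Subtype.ext (h z z.2 ?_)
  rw [apply_center χ z, hz, one_mul]

/-- Equal-degree nonlinear characters are Galois conjugate. -/
def SameDegConj (G : Type u) [Group G] : Prop :=
  ∀ χ ψ : Cfsg.IrrCharacter G, (χ : G → ℂ) 1 ≠ 1 → (χ : G → ℂ) 1 = (ψ : G → ℂ) 1 →
    ∃ k : ℕ, Nat.Coprime k (Nat.card G) ∧ ∀ g : G, (ψ : G → ℂ) g = (χ : G → ℂ) (g ^ k)

theorem sameDegConj_quotient (h : SameDegConj G) (N : Subgroup G) [N.Normal] :
    SameDegConj (G ⧸ N) := by
  intro χ ψ hne heq
  obtain ⟨k, hk, hkg⟩ := h (Cfsg.Agent.Lib.Characters.Kernel.inflateEquiv N χ).1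
    (Cfsg.Agent.Lib.Characters.Kernel.inflateEquiv N ψ).1
    (by rw [Cfsg.Agent.Lib.Characters.Kernel.inflateEquiv_apply, QuotientGroup.mk_one]; exact hne)
    (by rw [Cfsg.Agent.Lib.Characters.Kernel.inflateEquiv_apply,
      Cfsg.Agent.Lib.Characters.Kernel.inflateEquiv_apply, QuotientGroup.mk_one]; exact heq)
  refine ⟨k, hk.coprime_dvd_right (Subgroup.card_quotient_dvd_card N), fun q => ?_⟩
  induction q using QuotientGroup.induction_on with
  | _ g =>
    have := hkg g
    rw [Cfsg.Agent.Lib.Characters.Kernel.inflateEquiv_apply,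
      Cfsg.Agent.Lib.Characters.Kernel.inflateEquiv_apply, QuotientGroup.mk_pow] at this
    exact this

theorem ker_subset (h : SameDegConj G) {χ ψ : Cfsg.IrrCharacter G} (hne : (χ : G → ℂ) 1 ≠ 1)
    (heq : (χ : G → ℂ) 1 = (ψ : G → ℂ) 1) {g : G} (hg : (χ : G → ℂ) g = (χ : G → ℂ) 1) :
    (ψ : G → ℂ) g = (ψ : G → ℂ) 1 := by
  obtain ⟨k, -, hkg⟩ := h χ ψ hne heq
  rw [hkg g, ← heq]
  exact pow_mem (show g ∈ Cfsg.Agent.Lib.Characters.Kernel.charKer (isCharacter_irr χ) from hg) k

theorem mem_commutator_of_ker (h : SameDegConj G) {χ : Cfsg.IrrCharacter G}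
    (hne : (χ : G → ℂ) 1 ≠ 1) {g : G} (hg : (χ : G → ℂ) g = (χ : G → ℂ) 1) :
    g ∈ commutator G := by
  by_contra hn
  obtain ⟨φ, hφ⟩ := CommGroup.exists_apply_ne_one_of_hasEnoughRootsOfUnity (Abelianization G) ℂ
    (a := Abelianization.of g) (fun e => hn ((QuotientGroup.eq_one_iff _).mp e))
  let ψ : Cfsg.IrrCharacter G := ⟨(linChar (φ.comp Abelianization.of) : G → ℂ) * (χ : G → ℂ),
    isIrrCharacter_linear_mul (isCharacter_irr _) (by simp [linChar_apply]) χ.2⟩
  have hψ := ker_subset h (ψ := ψ) hne (by simp [ψ, linChar_apply]) hg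
  simp only [ψ, Pi.mul_apply, linChar_apply, map_one, Units.val_one, one_mul, hg] at hψ
  exact hφ (Units.ext ((mul_eq_right₀ (apply_one_ne_zero χ)).mp hψ))

theorem exists_nonlinear_of_ne_one {c : G} (hc : c ∈ commutator G) (h1 : c ≠ 1) :
    ∃ χ : Cfsg.IrrCharacter G, (χ : G → ℂ) 1 ≠ 1 ∧ (χ : G → ℂ) c ≠ (χ : G → ℂ) 1 := by
  obtain ⟨χ, hχ⟩ := Cfsg.Agent.Lib.Characters.Kernel.exists_apply_ne_degree h1
  refine ⟨χ, fun hd => hχ ?_, hχ⟩
  rw [hd]
  exact linear_commutator (isCharacter_irr χ) hd hc

omit [Finite G] in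
/-- Powers in a commutator with central value. -/
theorem commutator_pow (x y : G) (n : ℕ) (h : ⁅x, y⁆ ∈ Subgroup.center G) :
    ⁅x ^ n, y⁆ = ⁅x, y⁆ ^ n := by
  induction n with
  | zero => simp
  | succ n ih =>
    have e : ⁅x ^ (n + 1), y⁆ = x * ⁅x ^ n, y⁆ * x⁻¹ * ⁅x, y⁆ := by
      simp only [commutatorElement_def]; group
    have hz : x * ⁅x, y⁆ ^ n = ⁅x, y⁆ ^ n * x := Subgroup.mem_center_iff.mp (pow_mem h n) x
    rw [e, ih, hz, mul_inv_cancel_right, pow_succ]

omit [Finite G] in
theorem card_map_mk (N H : Subgroup G) [N.Normal] (hle : N ≤ H) :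
    Nat.card (H.map (QuotientGroup.mk' N)) * Nat.card N = Nat.card H := by
  have h1 : (H.map (QuotientGroup.mk' N)) = ((QuotientGroup.mk' N).comp H.subtype).range := by
    rw [MonoidHom.range_eq_map, ← Subgroup.map_map, ← MonoidHom.range_eq_map, Subgroup.range_subtype]
  have h2 : ((QuotientGroup.mk' N).comp H.subtype).ker = N.subgroupOf H := by
    rw [← MonoidHom.comap_ker, QuotientGroup.ker_mk', Subgroup.comap_subtype]
  rw [h1, ← Subgroup.index_ker, h2, ← Nat.card_congr (Subgroup.subgroupOfEquivOfLe hle).toEquiv,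
    Subgroup.index_mul_card]

omit [Finite G] in
theorem commutator_quotient (N : Subgroup G) [N.Normal] :
    commutator (G ⧸ N) = (commutator G).map (QuotientGroup.mk' N) := by
  rw [commutator_def, commutator_def, Subgroup.map_commutator,
    Subgroup.map_top_of_surjective _ (QuotientGroup.mk'_surjective N)]

variable {p : ℕ} [hp : Fact p.Prime]

/-- A central subgroup generated by an element of order `p`. -/
theorem exists_central_order_p (hG : IsPGroup p G) {N : Subgroup G} [hN : N.Normal] (hne : N ≠ ⊥) :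
    ∃ c ∈ N, c ∈ Subgroup.center G ∧ orderOf c = p := by
  by_contra hcon
  push Not at hcon
  have h1 : N ⊓ Subgroup.center G = ⊥ := by
    by_contra h0
    obtain ⟨k, hk⟩ := (hG.to_subgroup (N ⊓ Subgroup.center G)).exists_card_eq
    have hd : p ∣ Nat.card (N ⊓ Subgroup.center G : Subgroup G) := by
      rw [hk]
      refine dvd_pow_self p fun h => h0 (Subgroup.card_eq_one.mp ?_)
      rw [hk, h, pow_zero]
    obtain ⟨c, hc⟩ := exists_prime_orderOf_dvd_card' p hd
    exact hcon c.1 c.2.1 c.2.2 (by rw [Subgroup.orderOf_coe, hc])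
  have : Nontrivial N := (Subgroup.nontrivial_iff_ne_bot N).mpr hne
  obtain ⟨k, hk⟩ := (hG.to_subgroup N).exists_card_eq
  have hdvd : p ∣ Nat.card N := by
    rw [hk]
    refine dvd_pow_self p fun h => ?_
    rw [h, pow_zero] at hk
    exact Finite.one_lt_card.ne' hk
  have hG' : IsPGroup p (ConjAct G) := hG
  obtain ⟨b, hb, hb1⟩ := hG'.exists_fixed_point_of_prime_dvd_card_of_fixed_point
    (α := N) hdvd (a := 1) (fun g => by simp)
  apply hb1
  have hbc : (b : G) ∈ Subgroup.center G := Subgroup.mem_center_iff.mpr fun g => by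
    have h2 := congrArg Subtype.val (hb (ConjAct.toConjAct g))
    rw [ConjAct.Subgroup.val_conj_smul, ConjAct.toConjAct_smul, mul_inv_eq_iff_eq_mul] at h2
    exact h2
  have : (b : G) ∈ N ⊓ Subgroup.center G := ⟨b.2, hbc⟩
  rw [h1, Subgroup.mem_bot] at this
  exact (Subtype.ext this).symm

omit [Finite G] in
theorem normal_of_le_center {N : Subgroup G} (h : N ≤ Subgroup.center G) : N.Normal :=
  ⟨fun a ha g => by
    rw [Subgroup.mem_center_iff.mp (h ha) g, mul_inv_cancel_right]
    exact ha⟩

theorem le_center_of_card_prime (hG : IsPGroup p G) {N : Subgroup G} [N.Normal]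
    (hc : Nat.card N = p) : N ≤ Subgroup.center G := by
  obtain ⟨c, hcN, hcz, hco⟩ := exists_central_order_p hG (N := N) (fun h => by
    rw [h, Subgroup.card_bot] at hc; exact hp.out.one_lt.ne hc)
  have : Subgroup.zpowers c = N :=
    Subgroup.eq_of_le_of_card_ge (Subgroup.zpowers_le.mpr hcN) (by rw [Nat.card_zpowers, hco, hc])
  rw [← this]
  exact Subgroup.zpowers_le.mpr hcz

theorem isCyclic_center_of_prime (hG : IsPGroup p G) (h : SameDegConj G)
    (hc : Nat.card (commutator G) = p) : IsCyclic (Subgroup.center G) := by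
  obtain ⟨c, hcG, -, hco⟩ := exists_central_order_p hG (N := commutator G) (fun e => by
    rw [e, Subgroup.card_bot] at hc; exact hp.out.one_lt.ne hc)
  obtain ⟨χ, hne, -⟩ := exists_nonlinear_of_ne_one hcG
    (fun e => by rw [e, orderOf_one] at hco; exact hp.out.one_lt.ne hco)
  refine isCyclic_center_of_faithful χ fun z _ hv => ?_
  exact (prime_derived hc (le_center_of_card_prime hG hc) χ hne).1 z
    (mem_commutator_of_ker h hne hv) hv

/-- In a cyclic `p`-group one of two elements is a power of the other. -/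
theorem mem_zpowers_or {C : Type u} [Group C] [Finite C] [IsCyclic C] (hC : IsPGroup p C)
    (a b : C) : a ∈ Subgroup.zpowers b ∨ b ∈ Subgroup.zpowers a := by
  have key : ∀ a b : C, orderOf a ∣ orderOf b → a ∈ Subgroup.zpowers b := by
    intro a b hd
    obtain ⟨g, hg⟩ := IsCyclic.exists_generator (α := C)
    obtain ⟨i, rfl⟩ := (Submonoid.mem_powers_iff _ _).mp (mem_powers_iff_mem_zpowers.mpr (hg a))
    obtain ⟨j, rfl⟩ := (Submonoid.mem_powers_iff _ _).mp (mem_powers_iff_mem_zpowers.mpr (hg b))
    set n := orderOf g with hn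
    rw [orderOf_pow, orderOf_pow] at hd
    have hgi : n.gcd j ∣ n.gcd i := by
      obtain ⟨x, hx⟩ := Nat.gcd_dvd_left n i
      obtain ⟨y, hy⟩ := Nat.gcd_dvd_left n j
      have ha : 0 < n.gcd i := Nat.gcd_pos_of_pos_left _ (orderOf_pos g)
      have hb : 0 < n.gcd j := Nat.gcd_pos_of_pos_left _ (orderOf_pos g)
      have e1 : n / n.gcd i = x := Nat.div_eq_of_eq_mul_right ha hx
      have e2 : n / n.gcd j = y := Nat.div_eq_of_eq_mul_right hb hy
      rw [e1, e2] at hd
      obtain ⟨t, ht⟩ := hd
      refine ⟨t, ?_⟩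
      have hx0 : 0 < x := by
        refine Nat.pos_of_ne_zero fun h0 => ?_
        rw [h0, mul_zero] at hx
        exact (orderOf_pos g).ne' hx
      refine Nat.eq_of_mul_eq_mul_right hx0 ?_
      rw [← hx, mul_assoc, mul_comm t x, ← ht, ← hy]
    have h1 : g ^ n.gcd j ∈ Subgroup.zpowers (g ^ j) := by
      refine Subgroup.mem_zpowers_iff.mpr ⟨Nat.gcdB n j, ?_⟩
      calc (g ^ j) ^ Nat.gcdB n j = (g ^ n) ^ Nat.gcdA n j * (g ^ j) ^ Nat.gcdB n j := by
            rw [pow_orderOf_eq_one, one_zpow, one_mul]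
        _ = g ^ ((n : ℤ) * Nat.gcdA n j + (j : ℤ) * Nat.gcdB n j) := by
            rw [zpow_add, zpow_mul, zpow_mul, zpow_natCast, zpow_natCast]
        _ = g ^ n.gcd j := by rw [← Nat.gcd_eq_gcd_ab, zpow_natCast]
    obtain ⟨t, ht⟩ := hgi.trans (Nat.gcd_dvd_right n i)
    rw [ht, pow_mul]
    exact pow_mem h1 t
  obtain ⟨m, hm⟩ := IsPGroup.iff_orderOf.mp hC a
  obtain ⟨n, hn⟩ := IsPGroup.iff_orderOf.mp hC b
  rcases le_total m n with hmn | hmn
  · exact Or.inl (key a b (by rw [hm, hn]; exact pow_dvd_pow p hmn))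
  · exact Or.inr (key b a (by rw [hm, hn]; exact pow_dvd_pow p hmn))

/-- The degree data of the quotient by a central subgroup of order `p` with derived quotient of
order `p`. -/
theorem quotient_data (hG : IsPGroup p G) (h : SameDegConj G) (K : Subgroup G) [K.Normal]
    (hK : K ≤ commutator G) (hKc : Nat.card K = p) (hc : Nat.card (commutator G) = p ^ 2) :
    IsCyclic (Subgroup.center (G ⧸ K)) ∧ ∃ (χ : Cfsg.IrrCharacter G) (d : ℕ),
      (χ : G → ℂ) 1 = d ∧ d ≠ 1 ∧
      (∀ g, (χ : G → ℂ) g = (χ : G → ℂ) 1 ↔ g ∈ K) ∧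
      d ^ 2 * Nat.card (Subgroup.center (G ⧸ K)) * p = Nat.card G := by
  have hq : Nat.card (commutator (G ⧸ K)) = p := by
    have h1 := card_map_mk K (commutator G) hK
    rw [← commutator_quotient, hKc, hc, pow_two] at h1
    exact Nat.eq_of_mul_eq_mul_right hp.out.pos h1
  have hQ : IsPGroup p (G ⧸ K) := hG.to_quotient K
  refine ⟨isCyclic_center_of_prime hQ (sameDegConj_quotient h K) hq, ?_⟩
  obtain ⟨c, hcQ, -, hco⟩ := exists_central_order_p hQ (N := commutator (G ⧸ K)) (fun e => by
    rw [e, Subgroup.card_bot] at hq; exact hp.out.one_lt.ne hq)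
  obtain ⟨φ, hne, -⟩ := exists_nonlinear_of_ne_one hcQ
    (fun e => by rw [e, orderOf_one] at hco; exact hp.out.one_lt.ne hco)
  obtain ⟨d, hd0, hd⟩ := exists_degree_pos φ
  set χ := (Cfsg.Agent.Lib.Characters.Kernel.inflateEquiv K φ).1 with hχ
  have hχ1 : (χ : G → ℂ) 1 = d := by
    rw [hχ, Cfsg.Agent.Lib.Characters.Kernel.inflateEquiv_apply, QuotientGroup.mk_one, hd]
  have hd1 : d ≠ 1 := fun e => hne (by rw [hd, e, Nat.cast_one])
  refine ⟨χ, d, hχ1, hd1, fun g => ⟨fun hg => ?_,
    fun hg => (Cfsg.Agent.Lib.Characters.Kernel.inflateEquiv K φ).2 g hg⟩, ?_⟩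
  · have hgc : g ∈ commutator G :=
      mem_commutator_of_ker h (by rw [hχ1]; exact_mod_cast hd1) hg
    have h1 := (prime_derived hq (le_center_of_card_prime hQ hq) φ hne).1 (g : G ⧸ K)
      (by rw [commutator_quotient]; exact ⟨g, hgc, rfl⟩)
      (by
        rw [hχ, Cfsg.Agent.Lib.Characters.Kernel.inflateEquiv_apply,
          Cfsg.Agent.Lib.Characters.Kernel.inflateEquiv_apply, QuotientGroup.mk_one] at hg
        exact hg)
    exact (QuotientGroup.eq_one_iff g).mp h1
  · have h1 := (degree_sq_mul_le φ hd).2 (prime_derived hq (le_center_of_card_prime hQ hq) φ hne).2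
    rw [h1, ← hKc]
    exact (Subgroup.card_eq_card_quotient_mul_card_subgroup K).symm

theorem sum_pow_lt {q : ℕ} (hq : 2 ≤ q) : ∀ a : ℕ,
    ∑ e ∈ Finset.Icc 1 a, q ^ (2 * e + 2) < q ^ (2 * a + 3) := by
  intro a
  induction a with
  | zero => simp; exact pow_pos (by omega) _
  | succ a ih =>
    rw [Finset.sum_Icc_succ_top (by omega)]
    have h2 : q + 1 ≤ q * q := by nlinarith
    calc _ < q ^ (2 * a + 3) + q ^ (2 * (a + 1) + 2) := by omega
      _ = q ^ (2 * a + 3) * (q + 1) := by ring
      _ ≤ q ^ (2 * a + 3) * (q * q) := Nat.mul_le_mul_left _ h2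
      _ = _ := by ring

/-- The derived subgroup cannot have order `p ^ 2`. -/
theorem card_commutator_ne_sq (hG : IsPGroup p G) (h : SameDegConj G) :
    Nat.card (commutator G) ≠ p ^ 2 := by
  classical
  intro hc
  obtain ⟨n, hn⟩ := hG.exists_card_eq
  obtain ⟨c, hcG, hcz, hco⟩ := exists_central_order_p hG (N := commutator G) (fun e => by
    rw [e, Subgroup.card_bot] at hc
    exact (Nat.one_lt_pow two_ne_zero hp.out.one_lt).ne hc)
  set K := Subgroup.zpowers c with hKdef
  have hKle : K ≤ commutator G := Subgroup.zpowers_le.mpr hcG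
  have hKz : K ≤ Subgroup.center G := Subgroup.zpowers_le.mpr hcz
  haveI : K.Normal := normal_of_le_center hKz
  have hKc : Nat.card K = p := by rw [hKdef, Nat.card_zpowers, hco]
  obtain ⟨hcyc, χK, dK, hdK, hdK1, hkerK, hcardK⟩ := quotient_data hG h K hKle hKc hc
  have hdKne : (χK : G → ℂ) 1 ≠ 1 := by rw [hdK]; exact_mod_cast hdK1
  have hWp : IsPGroup p (Subgroup.center (G ⧸ K)) := (hG.to_quotient K).to_subgroup _
  -- membership in the preimage of the centre
  have hW : ∀ (N : Subgroup G) [N.Normal] (x : G),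
      (x : G ⧸ N) ∈ Subgroup.center (G ⧸ N) ↔ ∀ y : G, ⁅x, y⁆ ∈ N := by
    intro N _ x
    rw [Subgroup.mem_center_iff]
    constructor
    · intro hx y
      rw [← QuotientGroup.eq_one_iff]
      show QuotientGroup.mk' N ⁅x, y⁆ = 1
      rw [map_commutatorElement, commutatorElement_eq_one_iff_mul_comm]
      exact (hx (y : G ⧸ N)).symm
    · intro hx q
      induction q using QuotientGroup.induction_on with
      | _ y =>
        have := hx y
        rw [← QuotientGroup.eq_one_iff] at this
        change QuotientGroup.mk' N ⁅x, y⁆ = 1 at this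
        rw [map_commutatorElement, commutatorElement_eq_one_iff_mul_comm] at this
        exact this.symm
  by_cases huniq : ∀ c' ∈ commutator G, c' ∈ Subgroup.center G → c' ^ p = 1 → c' ∈ K
  · -- a unique central subgroup of order `p` inside the derived subgroup
    have hker : ∀ χ : Cfsg.IrrCharacter G, (χ : G → ℂ) 1 ≠ 1 → (χ : G → ℂ) c ≠ (χ : G → ℂ) 1 →
        ∀ g, (χ : G → ℂ) g = (χ : G → ℂ) 1 → g = 1 := by
      intro χ hne hcχ g hg
      by_contra hg1
      apply hcχ
      set Kχ := Cfsg.Agent.Lib.Characters.Kernel.charKer (isCharacter_irr χ)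
      haveI := Cfsg.Agent.Lib.Characters.Kernel.charKer_normal (isCharacter_irr χ)
      obtain ⟨e, he, hez, heo⟩ := exists_central_order_p hG (N := Kχ) (fun hb => hg1 (by
        have : g ∈ Kχ := hg
        rw [hb] at this
        exact Subgroup.mem_bot.mp this))
      have heK : e ∈ K := huniq e (mem_commutator_of_ker h hne he) hez (by rw [← heo]; exact pow_orderOf_eq_one e)
      have hle : K ≤ Kχ := by
        have : Subgroup.zpowers e = K := Subgroup.eq_of_le_of_card_ge (Subgroup.zpowers_le.mpr heK)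
          (le_of_eq (by rw [hKc, Nat.card_zpowers, heo]))
        rw [← this]
        exact Subgroup.zpowers_le.mpr he
      exact hle (Subgroup.mem_zpowers c)
    by_cases hcen : commutator G ≤ Subgroup.center G
    · -- central derived subgroup
      obtain ⟨x, y, hxy⟩ : ∃ x y : G, ⁅x, y⁆ ∉ K := by
        by_contra hall
        push Not at hall
        have hle : commutator G ≤ K := by
          rw [commutator_def, Subgroup.commutator_le]
          exact fun a _ b _ => hall a b
        have := Subgroup.card_dvd_of_le hle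
        rw [hc, hKc, pow_two] at this
        exact absurd (Nat.le_of_dvd hp.out.pos this) (by nlinarith [hp.out.one_lt])
      have hcomm : ∀ a b : G, ⁅a, b⁆ ∈ commutator G := fun a b =>
        Subgroup.commutator_mem_commutator (Subgroup.mem_top _) (Subgroup.mem_top _)
      have hne1 : ⁅x, y⁆ ^ p ≠ 1 := fun e => hxy (huniq _ (hcomm x y) (hcen (hcomm x y)) e)
      have hpK : ∀ e ∈ commutator G, e ^ p ∈ K := by
        intro e he
        by_cases h1 : e ^ p = 1
        · rw [h1]; exact one_mem K
        · refine huniq _ (pow_mem he p) (pow_mem (hcen he) p) ?_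
          rw [← pow_mul, ← pow_two, ← hc]
          exact congrArg Subtype.val (pow_card_eq_one' (x := (⟨e, he⟩ : commutator G)))
      have hmem : ∀ a : G, ((a ^ p : G) : G ⧸ K) ∈ Subgroup.center (G ⧸ K) := fun a =>
        (hW K _).mpr fun b => by rw [commutator_pow a b p (hcen (hcomm a b))]; exact hpK _ (hcomm a b)
      have hkill : ∀ a b : G, ((a ^ p : G) : G ⧸ K) ∈ Subgroup.zpowers ((b ^ p : G) : G ⧸ K) →
          ⁅a, b⁆ ^ p = 1 := by
        intro a b hab
        obtain ⟨i, hi⟩ := Subgroup.mem_zpowers_iff.mp hab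
        rw [← QuotientGroup.mk_zpow, QuotientGroup.eq] at hi
        rw [← commutator_pow a b p (hcen (hcomm a b)), commutatorElement_eq_one_iff_mul_comm]
        have he : a ^ p = (b ^ p) ^ i * (((b ^ p) ^ i)⁻¹ * a ^ p) := by group
        rw [he]
        exact (Commute.mul_left (((Commute.refl b).pow_left p).zpow_left i)
          (Subgroup.mem_center_iff.mp (hKz hi) b).symm).eq
      rcases mem_zpowers_or hWp ⟨_, hmem x⟩ ⟨_, hmem y⟩ with h1 | h1
      · obtain ⟨i, hi⟩ := Subgroup.mem_zpowers_iff.mp h1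
        exact hne1 (hkill x y (Subgroup.mem_zpowers_iff.mpr ⟨i, congrArg Subtype.val hi⟩))
      · obtain ⟨i, hi⟩ := Subgroup.mem_zpowers_iff.mp h1
        have h2 := hkill y x (Subgroup.mem_zpowers_iff.mpr ⟨i, congrArg Subtype.val hi⟩)
        rw [← commutatorElement_inv, inv_pow, inv_eq_one] at h2
        exact hne1 h2
    · -- noncentral derived subgroup
      obtain ⟨d₀, hd₀, hd₀z⟩ := SetLike.not_le_iff_exists.mp hcen
      have hqc : Nat.card (commutator (G ⧸ K)) = p := by
        have h1 := card_map_mk K (commutator G) hKle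
        rw [← commutator_quotient, hKc, hc, pow_two] at h1
        exact Nat.eq_of_mul_eq_mul_right hp.out.pos h1
      have hqz := le_center_of_card_prime (hG.to_quotient K) hqc
      have hcomm : ∀ a b : G, ⁅a, b⁆ ∈ commutator G := fun a b =>
        Subgroup.commutator_mem_commutator (Subgroup.mem_top _) (Subgroup.mem_top _)
      have hd₀q : (d₀ : G ⧸ K) ∈ Subgroup.center (G ⧸ K) :=
        hqz (by rw [commutator_quotient]; exact ⟨d₀, hd₀, rfl⟩)
      -- the centre is `K`
      have hZ : Subgroup.center G = K := by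
        refine le_antisymm (fun z hz => ?_) hKz
        by_contra hzK
        have hzq : (z : G ⧸ K) ∈ Subgroup.center (G ⧸ K) := (hW K z).mpr fun y => by
          rw [commutatorElement_eq_one_iff_mul_comm.mpr (Subgroup.mem_center_iff.mp hz y).symm]
          exact one_mem K
        rcases mem_zpowers_or hWp ⟨_, hd₀q⟩ ⟨_, hzq⟩ with h1 | h1
        · obtain ⟨i, hi⟩ := Subgroup.mem_zpowers_iff.mp h1
          have hi' := congrArg Subtype.val hi
          simp only [Subgroup.coe_zpow, ← QuotientGroup.mk_zpow, QuotientGroup.eq] at hi'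
          apply hd₀z
          have he : d₀ = z ^ i * ((z ^ i)⁻¹ * d₀) := by group
          rw [he]
          exact mul_mem (zpow_mem hz i) (hKz hi')
        · obtain ⟨i, hi⟩ := Subgroup.mem_zpowers_iff.mp h1
          have hi' := congrArg Subtype.val hi
          simp only [Subgroup.coe_zpow, ← QuotientGroup.mk_zpow, QuotientGroup.eq] at hi'
          have he : z = d₀ ^ i * ((d₀ ^ i)⁻¹ * z) := by group
          have hzc : z ∈ commutator G := he ▸ mul_mem (zpow_mem hd₀ i) (hKle hi')
          have hCK : Subgroup.center G ⊓ commutator G = K := by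
            refine (Subgroup.eq_of_le_of_card_ge (le_inf hKz hKle) ?_).symm
            have hd : Nat.card (Subgroup.center G ⊓ commutator G : Subgroup G) ∣ p ^ 2 :=
              hc ▸ Subgroup.card_dvd_of_le inf_le_right
            obtain ⟨j, hj, hje⟩ := (Nat.dvd_prime_pow hp.out).mp hd
            rw [hKc, hje]
            rcases Nat.lt_or_ge j 2 with hj2 | hj2
            · exact (pow_le_pow_right₀ hp.out.one_le (by omega : j ≤ 1)).trans (pow_one p).le
            · exfalso
              have hj2' : j = 2 := by omega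
              have heq : Subgroup.center G ⊓ commutator G = commutator G :=
                Subgroup.eq_of_le_of_card_ge inf_le_right (by rw [hje, hj2', hc])
              exact hd₀z (heq.symm ▸ hd₀ : d₀ ∈ Subgroup.center G ⊓ commutator G).1
          have hz' : z ∈ Subgroup.center G ⊓ commutator G := ⟨hz, hzc⟩
          rw [hCK] at hz'
          exact hzK hz'
      -- the centre of the quotient has order `p`
      have hWcard : Nat.card (Subgroup.center (G ⧸ K)) = p := by
        obtain ⟨g₀, hg₀⟩ := IsCyclic.exists_generator (α := Subgroup.center (G ⧸ K))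
        obtain ⟨w, hw⟩ := QuotientGroup.mk_surjective (g₀ : G ⧸ K)
        have hwK : ∀ y, ⁅w, y⁆ ∈ K := (hW K w).mp (hw ▸ g₀.2)
        have hwp : w ^ p ∈ K := by
          rw [← hZ, Subgroup.mem_center_iff]
          intro y
          refine (commutatorElement_eq_one_iff_mul_comm.mp ?_).symm
          rw [commutator_pow w y p (hKz (hwK y)), ← hKc]
          exact congrArg Subtype.val (pow_card_eq_one' (x := (⟨_, hwK y⟩ : K)))
        have hord : orderOf g₀ ∣ p := by
          refine orderOf_dvd_of_pow_eq_one (Subtype.ext ?_)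
          rw [Subgroup.coe_pow, ← hw, ← QuotientGroup.mk_pow]
          exact (QuotientGroup.eq_one_iff _).mpr hwp
        rw [orderOf_eq_card_of_forall_mem_zpowers hg₀] at hord
        exact (hp.out.eq_one_or_self_of_dvd _ hord).resolve_left fun h1 => by
          have := Subgroup.card_le_card_group (commutator (G ⧸ K))
          have hd := Subgroup.card_dvd_of_le hqz
          rw [hqc, h1] at hd
          exact hp.out.one_lt.ne' (Nat.dvd_one.mp hd)
      have hqeq : commutator (G ⧸ K) = Subgroup.center (G ⧸ K) :=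
        Subgroup.eq_of_le_of_card_ge hqz (by rw [hWcard, hqc])
      -- exponent at most `p ^ 3`
      have hexp : ∀ x : G, x ^ p ^ 3 = 1 := by
        intro x
        have hx : ((x ^ p : G) : G ⧸ K) ∈ Subgroup.center (G ⧸ K) := by
          refine Subgroup.mem_center_iff.mpr fun q => ?_
          have hcq : ⁅(x : G ⧸ K), q⁆ ∈ commutator (G ⧸ K) :=
            Subgroup.commutator_mem_commutator (Subgroup.mem_top _) (Subgroup.mem_top _)
          refine (commutatorElement_eq_one_iff_mul_comm.mp ?_).symm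
          rw [QuotientGroup.mk_pow, commutator_pow _ _ p (hqz hcq), ← hqc]
          exact congrArg Subtype.val (pow_card_eq_one' (x := (⟨_, hcq⟩ : commutator (G ⧸ K))))
        rw [← hqeq, commutator_quotient] at hx
        obtain ⟨e, he, hex⟩ := hx
        have hxc : x ^ p ∈ commutator G := by
          have h1 : e⁻¹ * x ^ p ∈ K := QuotientGroup.eq.mp hex
          have := mul_mem he (hKle h1)
          rwa [mul_inv_cancel_left] at this
        rw [pow_succ', pow_mul, ← hc]
        exact congrArg Subtype.val (pow_card_eq_one' (x := (⟨_, hxc⟩ : commutator G)))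
      -- counting
      obtain ⟨a, -, ha⟩ := (Nat.dvd_prime_pow hp.out).mp
        (show dK ∣ p ^ n by
          rw [← hn, ← hcardK, pow_two, mul_assoc, mul_assoc]
          exact dvd_mul_right _ _)
      have hGcard : Nat.card G = p ^ (2 * a + 2) := by
        rw [← hcardK, hWcard, ha]; ring
      have := Fintype.ofFinite (Cfsg.IrrCharacter G)
      have := Fintype.ofFinite (Cfsg.IrrCharacter (G ⧸ K))
      choose d hd0 hdvd hd using fun χ : Cfsg.IrrCharacter G =>
        Cfsg.Agent.Lib.Characters.Degree.exists_degree_dvd χ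
      set S := Finset.univ.filter fun χ : Cfsg.IrrCharacter G => ¬ ∀ g ∈ K, (χ : G → ℂ) g = (χ : G → ℂ) 1
        with hS
      have htot : ∑ χ : Cfsg.IrrCharacter G, d χ ^ 2 = Nat.card G := by
        have h1 := finsum_degree_sq (G := G)
        rw [finsum_eq_sum_of_fintype] at h1
        simp only [hd] at h1
        exact_mod_cast h1
      have hquot : ∑ χ ∈ Finset.univ.filter
          (fun χ : Cfsg.IrrCharacter G => ∀ g ∈ K, (χ : G → ℂ) g = (χ : G → ℂ) 1), d χ ^ 2 =
          Nat.card (G ⧸ K) := by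
        have h1 := finsum_degree_sq (G := G ⧸ K)
        rw [finsum_eq_sum_of_fintype] at h1
        have h2 : ∀ φ : Cfsg.IrrCharacter (G ⧸ K), (φ : G ⧸ K → ℂ) 1 =
            (d (Cfsg.Agent.Lib.Characters.Kernel.inflateEquiv K φ).1 : ℂ) := fun φ => by
          rw [← hd, Cfsg.Agent.Lib.Characters.Kernel.inflateEquiv_apply, QuotientGroup.mk_one]
        simp only [h2] at h1
        rw [Finset.sum_subtype (p := fun χ : Cfsg.IrrCharacter G =>
          ∀ g ∈ K, (χ : G → ℂ) g = (χ : G → ℂ) 1) _ (fun χ => by simp) (fun χ => d χ ^ 2),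
          ← Equiv.sum_comp (Cfsg.Agent.Lib.Characters.Kernel.inflateEquiv K)]
        exact_mod_cast h1
      have hSsum : ∑ χ ∈ S, d χ ^ 2 + p ^ (2 * a + 1) = p ^ (2 * a + 2) := by
        have h2 : Nat.card (G ⧸ K) = p ^ (2 * a + 1) := by
          have := Subgroup.card_eq_card_quotient_mul_card_subgroup K
          rw [hGcard, hKc, pow_succ] at this
          exact Nat.eq_of_mul_eq_mul_right hp.out.pos this.symm
        rw [← h2, ← hquot, ← hGcard, ← htot, hS, add_comm]
        exact Finset.sum_filter_add_sum_filter_not _ _ _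
      have hS1 : ∀ χ ∈ S, (χ : G → ℂ) 1 ≠ 1 ∧ (χ : G → ℂ) c ≠ (χ : G → ℂ) 1 := by
        intro χ hχ
        have hχ' := (Finset.mem_filter.mp hχ).2
        refine ⟨fun h1 => hχ' fun g hg => ?_, fun h1 => hχ' fun g hg => ?_⟩
        · rw [h1]; exact linear_commutator (isCharacter_irr χ) h1 (hKle hg)
        · exact (Subgroup.zpowers_le (H := Cfsg.Agent.Lib.Characters.Kernel.charKer
            (isCharacter_irr χ))).mpr h1 hg
      have hSdeg : ∀ χ ∈ S, ∃ e ∈ Finset.Icc 1 (a - 1), d χ = p ^ e := by
        intro χ hχ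
        obtain ⟨hne, hcχ⟩ := hS1 χ hχ
        obtain ⟨e, -, he⟩ := (Nat.dvd_prime_pow hp.out).mp (hn ▸ hdvd χ)
        refine ⟨e, Finset.mem_Icc.mpr ⟨?_, ?_⟩, he⟩
        · by_contra h0
          obtain rfl : e = 0 := by omega
          exact hne (by rw [hd, he, pow_zero, Nat.cast_one])
        · have h1 := (degree_sq_mul_le χ (hd χ)).1
          rw [hZ, hKc, hGcard, he, ← pow_mul, ← pow_succ, Nat.pow_le_pow_iff_right hp.out.one_lt] at h1
          have hea : e ≠ a := by
            intro hea
            subst hea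
            apply hcχ
            have h2 := ker_subset h (χ := χK) (ψ := χ) hdKne (by rw [hdK, hd, ha, he])
              ((hkerK c).mpr (Subgroup.mem_zpowers c))
            exact h2
          omega
      have hcount : ∀ e, (S.filter fun χ : Cfsg.IrrCharacter G => d χ = p ^ e).card ≤ p ^ 2 * (p - 1) := by
        intro e
        by_cases he : (S.filter fun χ : Cfsg.IrrCharacter G => d χ = p ^ e) = ∅
        · simp [he]
        obtain ⟨χ₀, hχ₀⟩ := Finset.nonempty_iff_ne_empty.mpr he
        obtain ⟨hχ₀S, hχ₀d⟩ := Finset.mem_filter.mp hχ₀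
        have hcyc : ∀ ψ ∈ (S.filter fun χ : Cfsg.IrrCharacter G => d χ = p ^ e),
            ∃ k ∈ (Finset.range (p ^ 3)).filter (fun k => Nat.Coprime (p ^ 3) k),
              ∀ g, (ψ : G → ℂ) g = (χ₀ : G → ℂ) (g ^ k) := by
          intro ψ hψ
          obtain ⟨k, hk, hkg⟩ := h χ₀ ψ (hS1 χ₀ hχ₀S).1
            (by rw [hd, hd, hχ₀d, (Finset.mem_filter.mp hψ).2])
          refine ⟨k % p ^ 3, Finset.mem_filter.mpr ⟨Finset.mem_range.mpr
            (Nat.mod_lt _ (pow_pos hp.out.pos _)), ?_⟩, fun g => ?_⟩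
          · rw [Nat.Coprime, Nat.gcd_comm, ← Nat.gcd_rec]
            rw [hGcard] at hk
            exact (Nat.Coprime.pow_right 3 ((Nat.coprime_pow_right_iff (by omega) _ _).mp hk)).symm
          · rw [hkg, ← pow_eq_pow_mod k (hexp g)]
        choose! f hf hfv using hcyc
        calc _ ≤ ((Finset.range (p ^ 3)).filter (fun k => Nat.Coprime (p ^ 3) k)).card := by
              refine Finset.card_le_card_of_injOn f hf fun x hx y hy hxy => ?_
              exact Subtype.ext (funext fun g => by rw [hfv x hx, hfv y hy, hxy])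
          _ = Nat.totient (p ^ 3) := rfl
          _ = p ^ 2 * (p - 1) := Nat.totient_prime_pow hp.out (by omega)
      have hbound : ∑ χ ∈ S, d χ ^ 2 ≤ (p - 1) * ∑ e ∈ Finset.Icc 1 (a - 1), p ^ (2 * e + 2) := by
        have hsub : ∑ χ ∈ S, d χ ^ 2 ≤ ∑ e ∈ Finset.Icc 1 (a - 1),
            ∑ χ ∈ S.filter (fun χ : Cfsg.IrrCharacter G => d χ = p ^ e), d χ ^ 2 := by
          rw [Finset.sum_congr rfl fun e _ => Finset.sum_filter _ _, Finset.sum_comm]
          refine Finset.sum_le_sum fun χ hχ => ?_
          obtain ⟨e, he, hde⟩ := hSdeg χ hχ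
          exact le_trans (by rw [if_pos hde]) (Finset.single_le_sum
            (f := fun e => if d χ = p ^ e then d χ ^ 2 else 0) (fun _ _ => Nat.zero_le _) he)
        refine hsub.trans ?_
        rw [Finset.mul_sum]
        refine Finset.sum_le_sum fun e _ => ?_
        rw [Finset.sum_congr rfl fun χ hχ => by rw [(Finset.mem_filter.mp hχ).2], Finset.sum_const,
          smul_eq_mul]
        refine (Nat.mul_le_mul_right _ (hcount e)).trans (le_of_eq ?_)
        ring
      have ha1 : 1 ≤ a := by
        by_contra h0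
        obtain rfl : a = 0 := by omega
        exact hdK1 (by rw [ha, pow_zero])
      have hlt := sum_pow_lt hp.out.two_le (a - 1)
      have h3 : (p - 1) * ∑ e ∈ Finset.Icc 1 (a - 1), p ^ (2 * e + 2) <
          (p - 1) * p ^ (2 * (a - 1) + 3) :=
        Nat.mul_lt_mul_of_pos_left hlt (by have := hp.out.two_le; omega)
      rw [show 2 * (a - 1) + 3 = 2 * a + 1 by omega] at h3
      have h4 : p ^ (2 * a + 2) = (p - 1) * p ^ (2 * a + 1) + p ^ (2 * a + 1) := by
        conv_lhs => rw [pow_succ']
        rw [← Nat.succ_mul, Nat.succ_eq_add_one, Nat.sub_add_cancel hp.out.one_le]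
      omega
  · -- two central subgroups of order `p`
    push Not at huniq
    obtain ⟨c', hc'G, hc'z, hc'p, hc'K⟩ := huniq
    set K' := Subgroup.zpowers c' with hK'def
    have hK'le : K' ≤ commutator G := Subgroup.zpowers_le.mpr hc'G
    have hK'z : K' ≤ Subgroup.center G := Subgroup.zpowers_le.mpr hc'z
    haveI : K'.Normal := normal_of_le_center hK'z
    have hc'1 : c' ≠ 1 := fun e => hc'K (e ▸ one_mem K)
    have hK'c : Nat.card K' = p := by
      rw [hK'def, Nat.card_zpowers, orderOf_eq_prime hc'p hc'1]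
    obtain ⟨-, χ', d', hd', -, hker', hcard'⟩ := quotient_data hG h K' hK'le hK'c hc
    have hsup : K ⊔ K' = commutator G := by
      refine Subgroup.eq_of_le_of_card_ge (sup_le hKle hK'le) ?_
      obtain ⟨j, hj⟩ := (hG.to_subgroup (K ⊔ K')).exists_card_eq
      rw [hc, hj]
      refine pow_le_pow_right₀ hp.out.one_le ?_
      by_contra hlt
      have hle : K ⊔ K' ≤ K := by
        refine le_of_eq (Subgroup.eq_of_le_of_card_ge le_sup_left ?_).symm
        rw [hj, hKc]
        exact (pow_le_pow_right₀ hp.out.one_le (by omega : j ≤ 1)).trans (pow_one p).le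
      exact hc'K (hle (Subgroup.mem_sup_right (Subgroup.mem_zpowers c')))
    have hcen : commutator G ≤ Subgroup.center G := hsup ▸ sup_le hKz hK'z
    have hexp2 : ∀ e ∈ commutator G, e ^ p = 1 := by
      intro e he
      rw [← hsup] at he
      have hKn : ∀ a ∈ K, a ^ p = 1 := fun a ha => by
        rw [← hKc]; exact congrArg Subtype.val (pow_card_eq_one' (x := (⟨a, ha⟩ : K)))
      have hKn' : ∀ a ∈ K', a ^ p = 1 := fun a ha => by
        rw [← hK'c]; exact congrArg Subtype.val (pow_card_eq_one' (x := (⟨a, ha⟩ : K')))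
      have he' : e ∈ ((K ⊔ K' : Subgroup G) : Set G) := he
      rw [Subgroup.normal_mul] at he'
      obtain ⟨a, ha, b, hb, rfl⟩ := he'
      rw [(show Commute a b from (Subgroup.mem_center_iff.mp (hKz ha) b).symm).mul_pow, hKn a ha,
        hKn' b hb, one_mul]
    have hcomm : ∀ a b : G, ⁅a, b⁆ ∈ commutator G := fun a b =>
      Subgroup.commutator_mem_commutator (Subgroup.mem_top _) (Subgroup.mem_top _)
    -- the centre is the derived subgroup
    have hstep : ∀ z ∈ Subgroup.center G, z ^ p ∈ commutator G → z ∈ commutator G := by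
      intro z hz hzp
      set K₀ := (if z ^ p = 1 then K else Subgroup.zpowers (z ^ p)) with hK₀
      have hK₀le : K₀ ≤ commutator G := by
        rw [hK₀]; split_ifs
        exacts [hKle, Subgroup.zpowers_le.mpr hzp]
      have hK₀c : Nat.card K₀ = p := by
        rw [hK₀]; split_ifs with h1
        exacts [hKc, by rw [Nat.card_zpowers, orderOf_eq_prime (hexp2 _ hzp) h1]]
      have hzK₀ : z ^ p ∈ K₀ := by
        rw [hK₀]; split_ifs with h1
        exacts [h1 ▸ one_mem K, Subgroup.mem_zpowers _]
      haveI : K₀.Normal := normal_of_le_center (hK₀le.trans hcen)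
      obtain ⟨hcyc₀, -⟩ := quotient_data hG h K₀ hK₀le hK₀c hc
      obtain ⟨e, he, heK⟩ : ∃ e ∈ commutator G, e ∉ K₀ := by
        refine SetLike.not_le_iff_exists.mp fun hle => ?_
        have := Subgroup.card_dvd_of_le hle
        rw [hc, hK₀c, pow_two] at this
        exact absurd (Nat.le_of_dvd hp.out.pos this) (by nlinarith [hp.out.one_lt])
      have hmz : ∀ t ∈ Subgroup.center G, (t : G ⧸ K₀) ∈ Subgroup.center (G ⧸ K₀) := fun t ht =>
        (hW K₀ t).mpr fun y => by
          rw [commutatorElement_eq_one_iff_mul_comm.mpr (Subgroup.mem_center_iff.mp ht y).symm]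
          exact one_mem K₀
      by_contra hzc
      have hoe : orderOf (⟨_, hmz e (hcen he)⟩ : Subgroup.center (G ⧸ K₀)) = p :=
        orderOf_eq_prime (Subtype.ext ((QuotientGroup.eq_one_iff (e ^ p)).mpr
          (by rw [hexp2 e he]; exact one_mem K₀))) (fun h1 => heK
          ((QuotientGroup.eq_one_iff e).mp (congrArg Subtype.val h1)))
      have hoz : orderOf (⟨_, hmz z hz⟩ : Subgroup.center (G ⧸ K₀)) = p :=
        orderOf_eq_prime (Subtype.ext ((QuotientGroup.eq_one_iff (z ^ p)).mpr hzK₀))
          (fun h1 => hzc (hK₀le ((QuotientGroup.eq_one_iff z).mp (congrArg Subtype.val h1))))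
      have hfin : (⟨_, hmz z hz⟩ : Subgroup.center (G ⧸ K₀)) ∈
          Subgroup.zpowers (⟨_, hmz e (hcen he)⟩ : Subgroup.center (G ⧸ K₀)) := by
        rcases mem_zpowers_or ((hG.to_quotient K₀).to_subgroup _)
          (⟨_, hmz z hz⟩ : Subgroup.center (G ⧸ K₀)) ⟨_, hmz e (hcen he)⟩ with h1 | h1
        · exact h1
        · have := Subgroup.eq_of_le_of_card_ge (Subgroup.zpowers_le.mpr h1)
            (by rw [Nat.card_zpowers, Nat.card_zpowers, hoe, hoz])
          rw [this]
          exact Subgroup.mem_zpowers _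
      obtain ⟨i, hi⟩ := Subgroup.mem_zpowers_iff.mp hfin
      have hi' := congrArg Subtype.val hi
      simp only [Subgroup.coe_zpow, ← QuotientGroup.mk_zpow, QuotientGroup.eq] at hi'
      apply hzc
      have := mul_mem (zpow_mem he i) (hK₀le hi')
      rwa [mul_inv_cancel_left] at this
    have hZ : ∀ z ∈ Subgroup.center G, z ∈ commutator G := by
      intro z hz
      have hall : ∀ j : ℕ, z ^ p ^ j ∈ commutator G → z ∈ commutator G := by
        intro j
        induction j with
        | zero => simp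
        | succ j ih =>
          intro hj
          rw [pow_succ, pow_mul] at hj
          exact ih (hstep _ (pow_mem hz _) hj)
      obtain ⟨j, hj⟩ := hG z
      exact hall j (by rw [hj]; exact one_mem _)
    -- the centres of both quotients have order `p` or `p ^ 2`
    have hbound : ∀ (N : Subgroup G) [N.Normal], N ≤ commutator G → Nat.card N = p →
        IsCyclic (Subgroup.center (G ⧸ N)) → ∃ j, 1 ≤ j ∧ j ≤ 2 ∧
          Nat.card (Subgroup.center (G ⧸ N)) = p ^ j := by
      intro N _ hN hNc hcy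
      have hNp : ∀ a ∈ N, a ^ p = 1 := fun a ha => hexp2 a (hN ha)
      obtain ⟨g₀, hg₀⟩ := IsCyclic.exists_generator (α := Subgroup.center (G ⧸ N))
      obtain ⟨w, hw⟩ := QuotientGroup.mk_surjective (g₀ : G ⧸ N)
      have hwp : w ^ p ∈ commutator G := by
        refine hZ _ (Subgroup.mem_center_iff.mpr fun y => ?_)
        refine (commutatorElement_eq_one_iff_mul_comm.mp ?_).symm
        rw [commutator_pow w y p (hcen (hcomm w y))]
        exact hexp2 _ (hcomm w y)
      have hord : orderOf g₀ ∣ p ^ 2 := by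
        refine orderOf_dvd_of_pow_eq_one (Subtype.ext ?_)
        rw [Subgroup.coe_pow, ← hw, ← QuotientGroup.mk_pow]
        refine (QuotientGroup.eq_one_iff _).mpr ?_
        rw [pow_two, pow_mul, hexp2 _ hwp]
        exact one_mem N
      rw [orderOf_eq_card_of_forall_mem_zpowers hg₀] at hord
      obtain ⟨j, hj, hje⟩ := (Nat.dvd_prime_pow hp.out).mp hord
      refine ⟨j, ?_, hj, hje⟩
      by_contra h0
      obtain rfl : j = 0 := by omega
      rw [pow_zero, Subgroup.card_eq_one] at hje
      have hle : commutator G ≤ N := fun e he => by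
        have h1 : (e : G ⧸ N) ∈ Subgroup.center (G ⧸ N) := (hW N e).mpr fun y => by
          rw [commutatorElement_eq_one_iff_mul_comm.mpr (Subgroup.mem_center_iff.mp (hcen he) y).symm]
          exact one_mem N
        rw [hje, Subgroup.mem_bot] at h1
        exact (QuotientGroup.eq_one_iff e).mp h1
      have := Subgroup.card_dvd_of_le hle
      rw [hc, hNc, pow_two] at this
      exact absurd (Nat.le_of_dvd hp.out.pos this) (by nlinarith [hp.out.one_lt])
    obtain ⟨hcy', -⟩ := quotient_data hG h K' hK'le hK'c hc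
    obtain ⟨j, hj1, hj2, hj⟩ := hbound K hKle hKc hcyc
    obtain ⟨j', hj1', hj2', hj'⟩ := hbound K' hK'le hK'c hcy'
    obtain ⟨i, -, hi⟩ := (Nat.dvd_prime_pow hp.out).mp
      (show dK ∣ p ^ n by rw [← hn, ← hcardK, pow_two, mul_assoc, mul_assoc]; exact dvd_mul_right _ _)
    obtain ⟨i', -, hi'⟩ := (Nat.dvd_prime_pow hp.out).mp
      (show d' ∣ p ^ n by rw [← hn, ← hcard', pow_two, mul_assoc, mul_assoc]; exact dvd_mul_right _ _)
    rw [hj, hi, ← hcard', hj', hi', ← pow_mul, ← pow_mul, ← pow_add, ← pow_add, ← pow_succ,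
      ← pow_succ, Nat.pow_right_injective hp.out.two_le |>.eq_iff] at hcardK
    have hii : i = i' := by omega
    have hmem := (hker' c).mp (ker_subset h (χ := χK) (ψ := χ') hdKne (by rw [hdK, hd', hi, hi', hii])
      ((hkerK c).mpr (Subgroup.mem_zpowers c)))
    have hKK' : K = K' := Subgroup.eq_of_le_of_card_ge (Subgroup.zpowers_le.mpr hmem)
      (by rw [hK'c, hKc])
    exact hc'K (hKK' ▸ Subgroup.mem_zpowers c')

end Cfsg.Agent.Lib.Chars82.PGroupChars
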