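import Cfsg.Agent.Lib.Blocks.Basic
import Cfsg.Agent.Lib.Blocks.Trace
import Cfsg.Agent.Lib.BrauerMap.Induced
import Cfsg.Agent.Lib.Characters.Linear
import Cfsg.Agent.Lib.Characters.Kernel
import Cfsg.Agent.Lib.Characters.Degree
import Cfsg.Agent.Lib.Clifford.Basic
import Cfsg.Agent.Lib.Transfer.Tate
import Cfsg.Agent.Lib.PGroups.Frattini

/-!
# Degrees in the principal block

* normal `p'`-subgroups lie in the kernel of every character of the principal block;
* if every `p'`-degree character of the principal block is linear then the group has a normal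
  `p`-complement; if the trivial character is the only one then `p` does not divide the order.
-/

namespace Cfsg.Agent.Lib.Chars82.PrincipalBlock

open scoped ComplexConjugate
open Cfsg.Agent.Lib.Blocks
open Cfsg.Agent.Lib.Induced.Basic Cfsg.Agent.Lib.Characters.Basic
open Cfsg.Agent.Lib.Characters.Complete Cfsg.Agent.Lib.Characters.Linear

universe u

variable {G : Type u} [Group G] [Finite G] {p : ℕ} {M : Ideal Cfsg.AlgInt} [M.IsMaximal]

theorem degree_dvd_card (χ : Cfsg.IrrCharacter G) :
    Cfsg.charDegree (χ : G → ℂ) ∣ Nat.card G := by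
  obtain ⟨d, -, hd, h⟩ := Cfsg.Agent.Lib.Characters.Degree.exists_degree_dvd χ
  rw [char_one_eq_degree, Nat.cast_inj] at h
  exact h ▸ hd

/-- The degree sum condition of a member of the principal block. -/
theorem mem_principalBlock_iff {χ : Cfsg.IrrCharacter G} :
    χ ∈ Cfsg.principalBlock M G ↔ ∀ g : G, Cfsg.MemLocalIdeal M
      (((Subgroup.centralizer ({g} : Set G)).index : ℂ) - Cfsg.centralChar (χ : G → ℂ) g) := by
  refine forall_congr' fun g => ?_
  simp [Cfsg.centralChar]

/-- A normal `p'`-subgroup is in the kernel of the principal block. -/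
theorem apply_eq_of_mem_principalBlock (hM : Cfsg.IsPModular p M) (K : Subgroup G) [hK : K.Normal]
    (hKp : ¬ p ∣ Nat.card K) {χ : Cfsg.IrrCharacter G} (hχ : χ ∈ Cfsg.principalBlock M G)
    (k : K) : (χ : G → ℂ) k = (χ : G → ℂ) 1 := by
  classical
  have := Fintype.ofFinite G
  have := Fintype.ofFinite K
  have := Fintype.ofFinite (ConjClasses G)
  have hS : ∀ a b : G, IsConj a b → a ∈ (K : Set G) → b ∈ (K : Set G) := fun a b e ha => by
    obtain ⟨c, rfl⟩ := isConj_iff.mp e
    exact hK.conj_mem a ha c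
  have hsum : ∀ ξ : Cfsg.IrrCharacter G, ∑ k : K, (ξ : G → ℂ) k / (ξ : G → ℂ) 1 =
      ∑ c : ConjClasses G with c.out ∈ (K : Set G), Cfsg.centralChar (ξ : G → ℂ) c.out := by
    intro ξ
    rw [← Cfsg.Agent.Lib.BrauerMap.Induced.finsum_eq_sum_centralChar (K : Set G) hS ξ,
      ← finsum_set_coe_eq_finsum_mem, finsum_eq_sum_of_fintype]
    rfl
  have h1 : Cfsg.MemLocalIdeal M
      ((Nat.card K : ℂ) - ∑ k : K, (χ : G → ℂ) k / (χ : G → ℂ) 1) := by
    have h1 := hsum (oneChar G)
    simp only [oneChar_apply, div_one, Finset.sum_const, Finset.card_univ, nsmul_eq_mul,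
      mul_one] at h1
    rw [Nat.card_eq_fintype_card, h1, hsum χ, ← Finset.sum_sub_distrib]
    exact memLocalIdeal_sum _ fun c _ => hχ c.out
  have hne : Cfsg.classInner (fun k : K => (χ : G → ℂ) k) (oneChar K : K → ℂ) ≠ 0 := by
    intro h0
    rw [Cfsg.classInner, mul_eq_zero, inv_eq_zero] at h0
    simp only [oneChar_apply, map_one, mul_one] at h0
    have h0' := h0.resolve_left natCard_ne_zero
    rw [← Finset.sum_div, h0', zero_div, sub_zero, memLocalIdeal_natCast_iff hM] at h1
    exact hKp h1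
  have h := Cfsg.Agent.Lib.Clifford.Basic.restrict_eq_smul K χ.2 (oneChar K) hne fun g => rfl
  have ha := congrFun h k
  have hb := congrFun h 1
  simp only [Pi.smul_apply, oneChar_apply, OneMemClass.coe_one] at ha hb
  exact ha.trans hb.symm

/-- With the trivial character alone among the `p'`-degree ones, `p` does not divide the
order. -/
theorem not_dvd_card_of_forall_eq_one (hM : Cfsg.IsPModular p M)
    (h : ∀ χ : Cfsg.IrrCharacter G, χ ∈ Cfsg.principalBlock M G →
      ¬ p ∣ Cfsg.charDegree (χ : G → ℂ) → (χ : G → ℂ) = fun _ => (1 : ℂ)) :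
    ¬ p ∣ Nat.card G := by
  classical
  intro hp
  have := Fintype.ofFinite (Cfsg.IrrCharacter G)
  have hB := isPBlock_principalBlock (G := G) (M := M)
  set S := Finset.univ.filter fun χ : Cfsg.IrrCharacter G => χ ∈ Cfsg.principalBlock M G with hS
  have h1 : Cfsg.MemLocalIdeal M (∑ χ ∈ S, (Cfsg.charDegree (χ : G → ℂ) : ℂ) ^ 2) := by
    have hc := memLocalRing_blockCoeff hB (1 : G)
    have := Fintype.ofFinite G
    rw [blockCoeff_eq_sum] at hc
    have h2 := memLocalIdeal_mul_right (y := _) ((memLocalIdeal_natCast_iff hM _).mpr hp) hc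
    rw [mul_inv_cancel_left₀ natCard_ne_zero] at h2
    convert h2 using 1
    refine Finset.sum_congr rfl fun χ _ => ?_
    rw [conj_apply_one (isCharacter_irr χ), char_one_eq_degree, pow_two]
  have hmem : oneChar G ∈ S := Finset.mem_filter.mpr ⟨Finset.mem_univ _, oneChar_mem_principalBlock⟩
  rw [← Finset.add_sum_erase S _ hmem] at h1
  have h2 : Cfsg.MemLocalIdeal M
      (∑ χ ∈ S.erase (oneChar G), (Cfsg.charDegree (χ : G → ℂ) : ℂ) ^ 2) := by
    refine memLocalIdeal_sum _ fun χ hχ => ?_
    obtain ⟨hne, hS'⟩ := Finset.mem_erase.mp hχ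
    have hd : p ∣ Cfsg.charDegree (χ : G → ℂ) := not_not.mp fun hd =>
      hne (Subtype.ext (h χ (Finset.mem_filter.mp hS').2 hd))
    rw [← Nat.cast_pow, memLocalIdeal_natCast_iff hM]
    exact dvd_pow hd two_ne_zero
  have h3 := memLocalIdeal_sub h1 h2
  rw [add_sub_cancel_right] at h3
  apply not_memLocalIdeal_one (M := M)
  convert h3 using 1
  simp [← char_one_eq_degree, oneChar_apply]

theorem eq_one_of_mem_principalBlock_of_not_dvd (hM : Cfsg.IsPModular p M)
    (hp : ¬ p ∣ Nat.card G) {χ : Cfsg.IrrCharacter G} (hχ : χ ∈ Cfsg.principalBlock M G) :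
    (χ : G → ℂ) = fun _ => (1 : ℂ) := by
  classical
  have := Fintype.ofFinite G
  have htop : ∀ g : G, (χ : G → ℂ) g = (χ : G → ℂ) 1 := fun g =>
    apply_eq_of_mem_principalBlock hM ⊤ (by rwa [Subgroup.card_top]) hχ
      ⟨g, Subgroup.mem_top g⟩
  have hs := classInner_self_irr χ
  rw [Cfsg.classInner] at hs
  simp only [htop, conj_apply_one (isCharacter_irr χ), Finset.sum_const, Finset.card_univ,
    nsmul_eq_mul, Nat.card_eq_fintype_card] at hs
  rw [inv_mul_cancel_left₀ (Nat.cast_ne_zero.mpr Fintype.card_ne_zero)] at hs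
  obtain ⟨d, -, hd⟩ := exists_degree_pos χ
  rw [hd] at hs
  have : d * d = 1 := by exact_mod_cast hs
  funext g
  rw [htop g, hd, Nat.eq_one_of_mul_eq_one_right this]
  simp

/-- The linear characters of the principal block trivial on `P`. -/
def linearGroup (M : Ideal Cfsg.AlgInt) [M.IsMaximal] (P : Subgroup G) :
    Submonoid (G →* ℂˣ) where
  carrier := {μ | linChar μ ∈ Cfsg.principalBlock M G ∧ ∀ x ∈ P, μ x = 1}
  one_mem' := ⟨by
    have : linChar (1 : G →* ℂˣ) = oneChar G := Subtype.ext (funext fun g => by simp [linChar_apply, oneChar_apply])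
    rw [this]
    exact oneChar_mem_principalBlock, fun x _ => rfl⟩
  mul_mem' := fun {a b} ha hb => ⟨by
    rw [mem_principalBlock_iff]
    intro g
    have h1 := mem_principalBlock_iff.mp ha.1 g
    have h2 := mem_principalBlock_iff.mp hb.1 g
    have hint : (a g : ℂ) ∈ localRing M := by
      rw [← linChar_apply]
      exact mem_localRing_of_isIntegral (isIntegral_apply (isCharacter_irr _) g)
    simp only [Cfsg.centralChar, linChar_apply, map_one, Units.val_one, div_one] at h1 h2 ⊢
    convert memLocalIdeal_add h1 (memLocalIdeal_mul_left hint h2) using 1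
    rw [MonoidHom.mul_apply, Units.val_mul]
    ring, fun x hx => by rw [MonoidHom.mul_apply, ha.2 x hx, hb.2 x hx, one_mul]⟩

theorem not_dvd_card_linearGroup [Fact p.Prime] (P : Sylow p G) :
    ¬ p ∣ Nat.card (linearGroup M (P : Subgroup G)) := by
  intro h
  have : Finite (linearGroup M (P : Subgroup G)) := Nat.finite_of_card_ne_zero fun h0 => by
    have hfin : Finite (G →* ℂˣ) := Finite.of_equiv _ (linEquiv G).symm
    exact (Nat.card_pos (α := linearGroup M (P : Subgroup G))).ne' h0
  let L : Subgroup (G →* ℂˣ) :=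
    { linearGroup M (P : Subgroup G) with
      inv_mem' := fun {μ} hμ => by
        have hfin : Finite (G →* ℂˣ) := Finite.of_equiv _ (linEquiv G).symm
        have := (isOfFinOrder_of_finite μ).mem_powers_iff_mem_zpowers.mpr
          (inv_mem (Subgroup.mem_zpowers μ))
        obtain ⟨k, hk⟩ := this
        rw [← hk]
        exact pow_mem (show μ ∈ linearGroup M (P : Subgroup G) from hμ) k }
  have hfin : Finite (G →* ℂˣ) := Finite.of_equiv _ (linEquiv G).symm
  have hL : p ∣ Nat.card L := h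
  obtain ⟨μ, hμ⟩ := exists_prime_orderOf_dvd_card' p hL
  have hμ1 : μ.1 ^ p = 1 := by
    rw [← Subgroup.coe_pow, ← hμ, pow_orderOf_eq_one, Subgroup.coe_one]
  have : μ.1 = 1 := by
    ext g
    have h1 : (μ.1 g) ^ p = 1 := by rw [← MonoidHom.pow_apply, hμ1, MonoidHom.one_apply]
    have h2 : (μ.1 g) ^ (μ.1.ker).index = 1 := by
      rw [← map_pow]
      exact Subgroup.pow_index_mem μ.1.ker g
    have hdvd : (μ.1.ker).index ∣ (P : Subgroup G).index :=
      Subgroup.index_dvd_of_le fun x hx => μ.2.2 x hx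
    have hcop : Nat.Coprime p (μ.1.ker).index :=
      Nat.Coprime.coprime_dvd_right hdvd ((Fact.out : p.Prime).coprime_iff_not_dvd.mpr P.not_dvd_index)
    have := pow_gcd_eq_one.mpr ⟨h1, h2⟩
    rw [hcop.gcd_eq_one, pow_one] at this
    rw [this, MonoidHom.one_apply]
  have h1 : μ = 1 := Subtype.ext this
  rw [h1, orderOf_one] at hμ
  exact (Fact.out : p.Prime).ne_one hμ.symm

/-- If all `p'`-degree characters of the principal block are linear, every linear character of
a Sylow subgroup extends. -/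
theorem exists_linear_extension (hM : Cfsg.IsPModular p M) [Fact p.Prime] (P : Sylow p G)
    (h : ∀ χ : Cfsg.IrrCharacter G, χ ∈ Cfsg.principalBlock M G →
      ¬ p ∣ Cfsg.charDegree (χ : G → ℂ) → Cfsg.charDegree (χ : G → ℂ) = 1)
    (lam : ↥(P : Subgroup G) →* ℂˣ) : ∃ μ : G →* ℂˣ, ∀ x : (P : Subgroup G), μ x = lam x := by
  classical
  have := Fintype.ofFinite G
  have := Fintype.ofFinite (P : Subgroup G)
  have := Fintype.ofFinite (Cfsg.IrrCharacter G)
  have hB := isPBlock_principalBlock (G := G) (M := M)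
  set B := Finset.univ.filter fun χ : Cfsg.IrrCharacter G => χ ∈ Cfsg.principalBlock M G with hBdef
  let res : Cfsg.IrrCharacter G → ↥(P : Subgroup G) → ℂ := fun χ x => (χ : G → ℂ) x
  have hres : ∀ χ, Cfsg.IsCharacter (P : Subgroup G) (res χ) := fun χ =>
    isCharacter_comp (P : Subgroup G).subtype (isCharacter_irr χ)
  let S : (↥(P : Subgroup G) →* ℂˣ) → ℂ := fun l =>
    ∑ χ ∈ B, Cfsg.classInner (res χ) (linChar l : ↥(P : Subgroup G) → ℂ) * (χ : G → ℂ) 1
  have hS : ∀ l, S l = ((P : Subgroup G).index : ℂ) *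
      ∑ x : (P : Subgroup G), conj (l x : ℂ) * Cfsg.blockCoeff (Cfsg.principalBlock M G) (x : G)⁻¹ := by
    intro l
    have hidx : ((P : Subgroup G).index : ℂ) * (Nat.card G : ℂ)⁻¹ =
        (Nat.card (P : Subgroup G) : ℂ)⁻¹ := by
      rw [← Subgroup.index_mul_card (P : Subgroup G), Nat.cast_mul, mul_inv, ← mul_assoc,
        mul_inv_cancel₀ (Nat.cast_ne_zero.mpr Subgroup.index_ne_zero_of_finite), one_mul]
    simp only [S, Cfsg.classInner, blockCoeff_eq_sum, Finset.mul_sum, Finset.sum_mul]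
    rw [Finset.sum_comm]
    refine Finset.sum_congr rfl fun x _ => Finset.sum_congr rfl fun χ _ => ?_
    rw [← apply_inv (isCharacter_irr χ), inv_inv, linChar_apply, ← hidx]
    ring
  have hroot : ∀ (l : ↥(P : Subgroup G) →* ℂˣ) (x : (P : Subgroup G)),
      Cfsg.MemLocalIdeal M ((l x : ℂ) - 1) := by
    intro l x
    obtain ⟨k, hk⟩ := P.2 x
    have hint : (l x : ℂ) ∈ localRing M := by
      rw [← linChar_apply]
      exact mem_localRing_of_isIntegral (isIntegral_apply (isCharacter_irr _) x)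
    have hz : (⟨(l x : ℂ), hint⟩ : localRing M) ^ p ^ k = 1 := Subtype.ext (by
      show (l x : ℂ) ^ p ^ k = 1
      rw [← Units.val_pow_eq_pow_val, ← map_pow, hk, map_one, Units.val_one])
    have hr := Cfsg.Agent.Lib.Blocks.residue_eq_one_of_pow_eq_one hM hz
    exact (memLocalIdeal_sub_iff (x := ⟨(l x : ℂ), hint⟩) (y := 1)).mpr (by rw [hr, map_one])
  have hcong : Cfsg.MemLocalIdeal M (S lam - S 1) := by
    rw [hS, hS, ← mul_sub, ← Finset.sum_sub_distrib]
    refine memLocalIdeal_mul_left (natCast_mem _ _) (memLocalIdeal_sum _ fun x _ => ?_)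
    rw [← sub_mul]
    refine memLocalIdeal_mul_right ?_ (memLocalRing_blockCoeff hB _)
    rw [← linChar_apply, ← apply_inv (isCharacter_irr _), linChar_apply, MonoidHom.one_apply,
      Units.val_one, map_one]
    exact hroot lam x⁻¹
  have hterm : ∀ (l : ↥(P : Subgroup G) →* ℂˣ) (χ : Cfsg.IrrCharacter G),
      p ∣ Cfsg.charDegree (χ : G → ℂ) → Cfsg.MemLocalIdeal M
        (Cfsg.classInner (res χ) (linChar l : ↥(P : Subgroup G) → ℂ) * (χ : G → ℂ) 1) := by
    intro l χ hd
    obtain ⟨k, hk⟩ := exists_classInner_nat (hres χ) (isCharacter_irr (linChar l))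
    rw [hk, char_one_eq_degree]
    exact memLocalIdeal_mul_left (natCast_mem _ _) ((memLocalIdeal_natCast_iff hM _).mpr hd)
  have hdeg1 : ∀ χ ∈ B, ¬ p ∣ Cfsg.charDegree (χ : G → ℂ) → (χ : G → ℂ) 1 = 1 := by
    intro χ hχ hd
    rw [char_one_eq_degree, h χ (Finset.mem_filter.mp hχ).2 hd, Nat.cast_one]
  have hinner : ∀ (l : ↥(P : Subgroup G) →* ℂˣ) (χ : Cfsg.IrrCharacter G)
      (h1 : (χ : G → ℂ) 1 = 1), Cfsg.classInner (res χ) (linChar l : ↥(P : Subgroup G) → ℂ) =
      if (degOneHom (isCharacter_irr χ) h1).comp (P : Subgroup G).subtype = l then 1 else 0 := by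
    intro l χ h1
    have e : res χ = (linChar ((degOneHom (isCharacter_irr χ) h1).comp (P : Subgroup G).subtype) :
        ↥(P : Subgroup G) → ℂ) := funext fun x => rfl
    rw [e, classInner_irr]
    exact if_congr linChar_injective.eq_iff rfl rfl
  have hS1 : ¬ Cfsg.MemLocalIdeal M (S 1) := by
    intro hmem
    have hfin : Finite (G →* ℂˣ) := Finite.of_equiv _ (linEquiv G).symm
    have := Fintype.ofFinite (G →* ℂˣ)
    apply not_dvd_card_linearGroup (M := M) P
    rw [← memLocalIdeal_natCast_iff hM]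
    set T := B.filter fun χ : Cfsg.IrrCharacter G => (χ : G → ℂ) 1 = 1 ∧ ∀ x : (P : Subgroup G), (χ : G → ℂ) x = 1 with hT
    have hcard : Nat.card (linearGroup M (P : Subgroup G)) = T.card := by
      rw [← Nat.card_eq_finsetCard]
      refine Nat.card_congr
        { toFun := fun μ => ⟨linChar μ.1, Finset.mem_filter.mpr
            ⟨Finset.mem_filter.mpr ⟨Finset.mem_univ _, μ.2.1⟩, by simp [linChar_apply],
              fun x => by rw [linChar_apply, μ.2.2 x x.2, Units.val_one]⟩⟩
          invFun := fun χ => ⟨degOneHom (isCharacter_irr χ.1) (Finset.mem_filter.mp χ.2).2.1,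
            by
              have e : linChar (degOneHom (isCharacter_irr χ.1) (Finset.mem_filter.mp χ.2).2.1)
                  = χ.1 := Subtype.ext rfl
              rw [e]
              exact (Finset.mem_filter.mp (Finset.mem_filter.mp χ.2).1).2,
            fun x hx => Units.ext (by
              rw [degOneHom_apply]
              exact (Finset.mem_filter.mp χ.2).2.2 ⟨x, hx⟩)⟩
          left_inv := fun μ => Subtype.ext (MonoidHom.ext fun _ => Units.ext rfl)
          right_inv := fun χ => Subtype.ext (Subtype.ext rfl) }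
    rw [hcard]
    have hsplit := Finset.sum_filter_add_sum_filter_not B
      (fun χ : Cfsg.IrrCharacter G => (χ : G → ℂ) 1 = 1 ∧ ∀ x : (P : Subgroup G), (χ : G → ℂ) x = 1)
      (fun χ => Cfsg.classInner (res χ) (linChar (1 : ↥(P : Subgroup G) →* ℂˣ) : ↥(P : Subgroup G) → ℂ)
        * (χ : G → ℂ) 1)
    have h1 : ∑ χ ∈ T, Cfsg.classInner (res χ)
        (linChar (1 : ↥(P : Subgroup G) →* ℂˣ) : ↥(P : Subgroup G) → ℂ) * (χ : G → ℂ) 1 = T.card := by
      rw [Finset.card_eq_sum_ones, Nat.cast_sum]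
      refine Finset.sum_congr rfl fun χ hχ => ?_
      obtain ⟨-, hd, hx⟩ := Finset.mem_filter.mp hχ
      rw [hd, hinner _ χ hd, if_pos, mul_one, Nat.cast_one]
      exact MonoidHom.ext fun x => Units.ext (hx x)
    rw [← h1]
    have h2 : S 1 - ∑ χ ∈ B.filter (fun χ : Cfsg.IrrCharacter G =>
        ¬ ((χ : G → ℂ) 1 = 1 ∧ ∀ x : (P : Subgroup G), (χ : G → ℂ) x = 1)),
        Cfsg.classInner (res χ) (linChar (1 : ↥(P : Subgroup G) →* ℂˣ) : ↥(P : Subgroup G) → ℂ)
        * (χ : G → ℂ) 1 = _ := sub_eq_iff_eq_add.mpr hsplit.symm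
    rw [← h2]
    refine memLocalIdeal_sub hmem (memLocalIdeal_sum _ fun χ hχ => ?_)
    obtain ⟨hχB, hnot⟩ := Finset.mem_filter.mp hχ
    by_cases hd : p ∣ Cfsg.charDegree (χ : G → ℂ)
    · exact hterm 1 χ hd
    · have hd1 := hdeg1 χ hχB hd
      rw [hinner 1 χ hd1, if_neg, zero_mul]
      · exact memLocalIdeal_zero
      · intro e
        exact hnot ⟨hd1, fun x => by
          have := congrArg (fun f : ↥(P : Subgroup G) →* ℂˣ => (f x : ℂ)) e
          exact this⟩
  by_contra hcon
  push Not at hcon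
  apply hS1
  rw [show S 1 = S lam - (S lam - S 1) by ring]
  refine memLocalIdeal_sub (memLocalIdeal_sum _ fun χ hχ => ?_) hcong
  by_cases hd : p ∣ Cfsg.charDegree (χ : G → ℂ)
  · exact hterm lam χ hd
  · have hd1 := hdeg1 χ hχ hd
    rw [hinner lam χ hd1, if_neg, zero_mul]
    · exact memLocalIdeal_zero
    · intro e
      obtain ⟨x, hx⟩ := hcon (degOneHom (isCharacter_irr χ) hd1)
      exact hx (by rw [← e]; rfl)

/-- If all `p'`-degree characters of the principal block are linear, there is a normal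
`p`-complement. -/
theorem hasNormalPComplement_of_linear (hM : Cfsg.IsPModular p M) [Fact p.Prime]
    (h : ∀ χ : Cfsg.IrrCharacter G, χ ∈ Cfsg.principalBlock M G →
      ¬ p ∣ Cfsg.charDegree (χ : G → ℂ) → Cfsg.charDegree (χ : G → ℂ) = 1) :
    Cfsg.HasNormalPComplement p G := by
  obtain ⟨P⟩ : Nonempty (Sylow p G) := inferInstance
  refine Cfsg.Agent.Lib.Transfer.Tate.hasNormalPComplement_of_inf_pResidual_le_frattini P ?_
  rintro x ⟨hx, hxP⟩
  -- `x` lies in the derived subgroup
  have hxG : x ∈ commutator G := by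
    rw [← Abelianization.ker_of]
    let f : G →* Abelianization G :=
      (powMonoidHom (P : Subgroup G).index).comp Abelianization.of
    have h1 : Cfsg.pResidual p G ≤
        (MonoidHom.comp (powMonoidHom (Nat.card G / p ^ (Nat.card G).factorization p))
          Abelianization.of).ker := by
      rw [Cfsg.pResidual, Subgroup.closure_le]
      intro g hg
      rw [SetLike.mem_coe, MonoidHom.mem_ker, MonoidHom.comp_apply, powMonoidHom_apply,
        ← map_pow]
      have hd : orderOf g ∣ Nat.card G / p ^ (Nat.card G).factorization p :=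
        Nat.Coprime.dvd_of_dvd_mul_left (Nat.Coprime.pow_right _ hg)
          (by rw [Nat.ordProj_mul_ordCompl_eq_self]; exact orderOf_dvd_natCard g)
      rw [orderOf_dvd_iff_pow_eq_one.mp hd, map_one]
    have h2 : Abelianization.of x ^ (Nat.card G / p ^ (Nat.card G).factorization p) = 1 := h1 hx
    obtain ⟨k, hk⟩ := P.2 ⟨x, hxP⟩
    have h3 : Abelianization.of x ^ p ^ k = 1 := by
      rw [← map_pow, ← show ((⟨x, hxP⟩ : (P : Subgroup G)) ^ p ^ k : (P : Subgroup G)).1 = x ^ p ^ k
        from rfl, hk, OneMemClass.coe_one, map_one]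
    have hcop : Nat.Coprime (Nat.card G / p ^ (Nat.card G).factorization p) (p ^ k) :=
      Nat.Coprime.pow_right _ ((Nat.coprime_ordCompl (Fact.out : p.Prime) Nat.card_pos.ne').symm)
    have := pow_gcd_eq_one.mpr ⟨h2, h3⟩
    rw [hcop.gcd_eq_one, pow_one] at this
    exact this
  have hxP' : (⟨x, hxP⟩ : (P : Subgroup G)) ∈ commutator (P : Subgroup G) := by
    by_contra hne
    have hne' : Abelianization.of (⟨x, hxP⟩ : (P : Subgroup G)) ≠ 1 := fun e =>
      hne ((QuotientGroup.eq_one_iff _).mp e)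
    obtain ⟨φ, hφ⟩ := CommGroup.exists_apply_ne_one_of_hasEnoughRootsOfUnity
      (Abelianization (P : Subgroup G)) ℂ hne'
    obtain ⟨μ, hμ⟩ := exists_linear_extension hM P h (φ.comp Abelianization.of)
    apply hφ
    have : μ x = 1 := Abelianization.commutator_subset_ker μ hxG
    rw [← this]
    exact (hμ ⟨x, hxP⟩).symm
  exact ⟨⟨x, hxP⟩, Cfsg.Agent.Lib.PGroups.commutator_le_frattini P.2 hxP', rfl⟩

/-- With a normal `p`-complement, `p'`-degree characters of the principal block are linear. -/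
theorem degree_eq_one_of_hasNormalPComplement (hM : Cfsg.IsPModular p M) [Fact p.Prime]
    (hG : Cfsg.HasNormalPComplement p G) {χ : Cfsg.IrrCharacter G}
    (hχ : χ ∈ Cfsg.principalBlock M G) (hd : ¬ p ∣ Cfsg.charDegree (χ : G → ℂ)) :
    Cfsg.charDegree (χ : G → ℂ) = 1 := by
  obtain ⟨P, N, hN, hc⟩ := hG
  obtain ⟨a, ha⟩ := P.2.exists_card_eq
  have hNidx : Nat.card N = (P : Subgroup G).index := hc.index_eq_card.symm
  have hNp : ¬ p ∣ Nat.card N := by rw [hNidx]; exact P.not_dvd_index
  obtain ⟨φ, -, hφ, hirr⟩ := Cfsg.Agent.Lib.Characters.Kernel.exists_descend N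
    (isCharacter_irr χ) fun g hg => apply_eq_of_mem_principalBlock hM N hNp hχ ⟨g, hg⟩
  have hcard : Nat.card (G ⧸ N) = p ^ a := by
    rw [← Subgroup.index_eq_card, hc.symm.index_eq_card, ha]
  have hdeg : Cfsg.charDegree (χ : G → ℂ) = Cfsg.charDegree φ := by
    rw [← hφ, Cfsg.charDegree, Cfsg.charDegree, Function.comp_apply, map_one]
  have hdvd := degree_dvd_card (⟨φ, hirr χ.2⟩ : Cfsg.IrrCharacter (G ⧸ N))
  rw [hcard] at hdvd
  obtain ⟨i, -, hi⟩ := (Nat.dvd_prime_pow (Fact.out : p.Prime)).mp hdvd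
  rw [hdeg] at hd ⊢
  cases i with
  | zero => simpa using hi
  | succ i => exact absurd (hi ▸ dvd_pow_self p i.succ_ne_zero) hd

end Cfsg.Agent.Lib.Chars82.PrincipalBlock
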