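import Cfsg.Agent.Lib.Characters.Indicator
import Cfsg.Agent.Lib.Clifford.Basic
import Mathlib.GroupTheory.GroupAction.Quotient

/-!
# Square roots, real characters and normal subgroups of odd index

* `root_count` : the number of square roots through the indicators;
* `card_orbits_real` : for `K` of odd index, as many orbits on real characters of `K` as on real
  elements of `K`;
* `existsUnique_real_over` : a real character of `K` lies under a unique real character of `G`.
-/

namespace Cfsg.Agent.Lib.Chars82.RealChars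

open scoped ComplexConjugate
open Cfsg.Agent.Lib.Induced.Basic Cfsg.Agent.Lib.Characters.Basic
open Cfsg.Agent.Lib.Characters.Complete Cfsg.Agent.Lib.Characters.Linear
open Cfsg.Agent.Lib.Characters.Indicator
open Cfsg.Agent.Lib.Clifford.Basic

universe u

variable {G : Type u} [Group G]

/-- The indicator. -/
noncomputable def nu [Fintype G] (χ : G → ℂ) : ℂ := (Nat.card G : ℂ)⁻¹ * ∑ s : G, χ (s * s)

theorem nu_eq_finsum [Fintype G] (χ : G → ℂ) :
    nu χ = (Nat.card G : ℂ)⁻¹ * ∑ᶠ s : G, χ (s * s) := by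
  rw [nu, finsum_eq_sum_of_fintype]

theorem conj_nu [Fintype G] (χ : Cfsg.IrrCharacter G) : conj (nu (χ : G → ℂ)) = nu (χ : G → ℂ) := by
  by_cases h : ∀ g : G, ((χ : G → ℂ) g).im = 0
  · rcases (indicator_spec χ).1 h with h1 | h1 <;> · unfold nu; rw [h1]; simp
  · have h1 := (indicator_spec χ).2 h
    unfold nu
    rw [h1, map_zero]

theorem nu_oneChar [Fintype G] : nu (oneChar G : G → ℂ) = 1 := by
  simp [nu, oneChar_apply]

theorem real_of_nu_ne_zero [Fintype G] {χ : Cfsg.IrrCharacter G} (h : nu (χ : G → ℂ) ≠ 0) :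
    ∀ g : G, ((χ : G → ℂ) g).im = 0 :=
  not_not.mp fun hn => h ((indicator_spec χ).2 hn)

theorem nu_eq_zero_or [Fintype G] (χ : Cfsg.IrrCharacter G) :
    nu (χ : G → ℂ) = 0 ∨ nu (χ : G → ℂ) = 1 ∨ nu (χ : G → ℂ) = -1 := by
  by_cases h : ∀ g : G, ((χ : G → ℂ) g).im = 0
  · exact Or.inr ((indicator_spec χ).1 h)
  · exact Or.inl ((indicator_spec χ).2 h)

/-- The inner product of the root count with an irreducible character. -/
theorem classInner_rootCount [Fintype G] (χ : Cfsg.IrrCharacter G) :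
    Cfsg.classInner (fun g : G => (Nat.card {s : G // s * s = g} : ℂ)) (χ : G → ℂ) =
      nu (χ : G → ℂ) := by
  classical
  rw [← conj_nu χ, nu, map_mul, map_inv₀, map_natCast, map_sum, Cfsg.classInner]
  congr 1
  have h : ∀ g : G, (Nat.card {s : G // s * s = g} : ℂ) * conj ((χ : G → ℂ) g) =
      ∑ s : G with s * s = g, conj ((χ : G → ℂ) (s * s)) := by
    intro g
    rw [Finset.sum_congr rfl fun s hs => by rw [(Finset.mem_filter.mp hs).2], Finset.sum_const,
      nsmul_eq_mul, Nat.card_eq_fintype_card, Fintype.card_subtype]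
  rw [Finset.sum_congr rfl fun g _ => h g]
  exact Finset.sum_fiberwise Finset.univ (fun s : G => s * s) fun s => conj ((χ : G → ℂ) (s * s))

/-- The number of square roots of an element. -/
theorem root_count [Fintype G] (g : G) :
    (Nat.card {s : G // s * s = g} : ℂ) =
      ∑ᶠ χ : Cfsg.IrrCharacter G, nu (χ : G → ℂ) * (χ : G → ℂ) g := by
  have hcl : Cfsg.IsClassFunction G fun g : G => (Nat.card {s : G // s * s = g} : ℂ) := by
    intro g h
    refine congrArg Nat.cast (Nat.card_congr ?_)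
    exact
      { toFun := fun s => ⟨h⁻¹ * s.1 * h, by
          calc h⁻¹ * s.1 * h * (h⁻¹ * s.1 * h) = h⁻¹ * (s.1 * s.1) * h := by group
            _ = g := by rw [s.2]; group⟩
        invFun := fun s => ⟨h * s.1 * h⁻¹, by
          calc h * s.1 * h⁻¹ * (h * s.1 * h⁻¹) = h * (s.1 * s.1) * h⁻¹ := by group
            _ = h * g * h⁻¹ := by rw [s.2]⟩
        left_inv := fun s => Subtype.ext (by group)
        right_inv := fun s => Subtype.ext (by group) }
  have key := congrFun (classFunction_eq_finsum hcl) g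
  rw [key]
  have := Fintype.ofFinite (Cfsg.IrrCharacter G)
  simp [finsum_eq_sum_of_fintype, classInner_rootCount]

/-- Twisted count: characters with `θ ∘ α = conj θ`. -/
theorem card_twisted_real [Fintype G] (α : G ≃* G) :
    (Nat.card {θ : Cfsg.IrrCharacter G // ∀ k, (θ : G → ℂ) (α k) = conj ((θ : G → ℂ) k)} : ℂ) *
        Nat.card G =
      ∑ k : G, (Nat.card {c : G // c * α k * c⁻¹ = k⁻¹} : ℂ) := by
  classical
  have := Fintype.ofFinite (Cfsg.IrrCharacter G)
  let tw : Cfsg.IrrCharacter G → Cfsg.IrrCharacter G := fun θ =>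
    ⟨(θ : G → ℂ) ∘ α.toMonoidHom, isIrrCharacter_comp _ α.surjective θ.2⟩
  have h1 : ∀ θ : Cfsg.IrrCharacter G,
      (if ∀ k, (θ : G → ℂ) (α k) = conj ((θ : G → ℂ) k) then (1 : ℂ) else 0) =
        Cfsg.classInner (tw θ : G → ℂ) (conjChar θ : G → ℂ) := by
    intro θ
    rw [classInner_irr]
    refine if_congr ⟨fun h => Subtype.ext (funext h), fun h k => ?_⟩ rfl rfl
    exact congrFun (congrArg Subtype.val h) k
  rw [Nat.card_eq_fintype_card, Fintype.card_subtype, ← Finset.sum_boole,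
    Finset.sum_congr rfl fun θ _ => h1 θ, Finset.sum_mul]
  simp only [Cfsg.classInner, conjChar_apply, Complex.conj_conj]
  simp only [mul_comm _ (Nat.card G : ℂ), mul_inv_cancel_left₀ natCard_ne_zero]
  rw [Finset.sum_comm]
  refine Finset.sum_congr rfl fun k _ => ?_
  have h2 := sum_irr_mul_conj (α k) k⁻¹
  have h3 : ∀ θ : Cfsg.IrrCharacter G, (tw θ : G → ℂ) k * (θ : G → ℂ) k =
      (θ : G → ℂ) (α k) * conj ((θ : G → ℂ) k⁻¹) := by
    intro θ
    rw [← apply_inv (isCharacter_irr θ), inv_inv]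
    rfl
  rw [Finset.sum_congr rfl fun θ _ => h3 θ, h2]
  split_ifs with hab
  · obtain ⟨d, hd⟩ := isConj_iff.mp hab
    rw [Nat.cast_inj]
    refine Nat.card_congr
      { toFun := fun y => ⟨d * y.1, ?_⟩
        invFun := fun y => ⟨d⁻¹ * y.1, ?_⟩
        left_inv := fun y => Subtype.ext (inv_mul_cancel_left d y.1)
        right_inv := fun y => Subtype.ext (mul_inv_cancel_left d y.1) }
    · have hy := Subgroup.mem_centralizer_singleton_iff.mp y.2
      calc d * y.1 * α k * (d * y.1)⁻¹ = d * (y.1 * α k) * (y.1)⁻¹ * d⁻¹ := by group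
        _ = d * α k * d⁻¹ := by rw [hy]; group
        _ = k⁻¹ := hd
    · rw [Subgroup.mem_centralizer_singleton_iff]
      have hy := y.2
      calc d⁻¹ * y.1 * α k = d⁻¹ * (y.1 * α k * (y.1)⁻¹) * y.1 := by group
        _ = d⁻¹ * (d * α k * d⁻¹) * y.1 := by rw [hy, hd]
        _ = α k * (d⁻¹ * y.1) := by group
  · have : IsEmpty {c : G // c * α k * c⁻¹ = k⁻¹} := ⟨fun c => hab (isConj_iff.mpr ⟨c.1, c.2⟩)⟩
    simp

variable (K : Subgroup G) [hK : K.Normal]

/-- The real irreducible characters of `K`. -/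
abbrev RealIrr : Type u := {θ : Cfsg.IrrCharacter K // ∀ k : K, ((θ : K → ℂ) k).im = 0}

/-- The real elements of `K`. -/
abbrev RealElt : Type u := {x : K // IsConj x x⁻¹}

theorem conjC_irr (g : G) (θ : Cfsg.IrrCharacter K) :
    Cfsg.IsIrrCharacter K (conjC K g θ) := isIrrCharacter_conjC K g θ.2

/-- Conjugation on real characters. -/
@[reducible] noncomputable def realIrrAction : MulAction G (RealIrr K) where
  smul g θ := ⟨⟨conjC K g⁻¹ (θ.1 : K → ℂ), conjC_irr K g⁻¹ θ.1⟩, fun k => by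
    show (conjC K g⁻¹ (θ.1 : K → ℂ) k).im = 0
    rw [conjC_apply]
    exact θ.2 _⟩
  one_smul θ := Subtype.ext (Subtype.ext (by
    show conjC K (1 : G)⁻¹ (θ.1 : K → ℂ) = _
    rw [inv_one, conjC_one]))
  mul_smul g h θ := Subtype.ext (Subtype.ext (by
    show conjC K (g * h)⁻¹ (θ.1 : K → ℂ) = conjC K g⁻¹ (conjC K h⁻¹ (θ.1 : K → ℂ))
    rw [mul_inv_rev, conjC_mul]))

/-- Conjugation on real elements. -/
@[reducible] def realEltAction : MulAction G (RealElt K) where
  smul g x := ⟨MulAut.conjNormal g x.1, by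
    rw [← map_inv]
    exact (MulAut.conjNormal g).toMonoidHom.map_isConj x.2⟩
  one_smul x := Subtype.ext (by
    show MulAut.conjNormal (1 : G) x.1 = x.1
    simp)
  mul_smul g h x := Subtype.ext (by
    show MulAut.conjNormal (g * h) x.1 = MulAut.conjNormal g (MulAut.conjNormal h x.1)
    simp)

theorem exists_odd_pow_mem [Finite G] (hodd : Odd K.index) (g : G) :
    ∃ m, g ^ (2 * m + 1) ∈ K := by
  obtain ⟨m, hm⟩ := hodd
  exact ⟨m, hm ▸ Subgroup.pow_index_mem K g⟩

/-- An element of `K` inverted by an element of `G` is real in `K`. -/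
theorem isConj_inv_of_conj [Finite G] (hodd : Odd K.index) {k : K} {g : G}
    (h : g * (k : G) * g⁻¹ = (k : G)⁻¹) : IsConj k k⁻¹ := by
  obtain ⟨m, hm⟩ := exists_odd_pow_mem K hodd g
  have h2 : ∀ j : ℕ, g ^ (2 * j) * (k : G) * (g ^ (2 * j))⁻¹ = k := by
    intro j
    induction j with
    | zero => simp
    | succ j ih =>
      have hinv : g * (k : G)⁻¹ * g⁻¹ = k := by rw [← conj_inv, h, inv_inv]
      calc g ^ (2 * (j + 1)) * (k : G) * (g ^ (2 * (j + 1)))⁻¹
          = g * (g * (g ^ (2 * j) * (k : G) * (g ^ (2 * j))⁻¹) * g⁻¹) * g⁻¹ := by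
            rw [show 2 * (j + 1) = 1 + (1 + 2 * j) by ring, pow_add, pow_add, pow_one]
            group
        _ = k := by rw [ih, h, hinv]
  refine isConj_iff.mpr ⟨⟨_, hm⟩, Subtype.ext ?_⟩
  show g ^ (2 * m + 1) * (k : G) * (g ^ (2 * m + 1))⁻¹ = (k : G)⁻¹
  rw [pow_succ', mul_inv_rev, ← h]
  conv_rhs => rw [← h2 m]
  group

/-- A character sent to its conjugate by `g` is real and fixed by `g`. -/
theorem real_fixed_of_conj [Finite G] (hodd : Odd K.index) {θ : Cfsg.IrrCharacter K} {g : G}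
    (h : ∀ k : K, conjC K g θ k = conj ((θ : K → ℂ) k)) :
    conjC K g θ = (θ : K → ℂ) ∧ ∀ k : K, ((θ : K → ℂ) k).im = 0 := by
  obtain ⟨m, hm⟩ := exists_odd_pow_mem K hodd g
  have hf : conjC K g θ = fun k => conj ((θ : K → ℂ) k) := funext h
  have h2 : conjC K (g * g) θ = (θ : K → ℂ) := by
    rw [conjC_mul, hf]
    funext k
    show conj ((θ : K → ℂ) ⟨g * k * g⁻¹, _⟩) = _
    rw [← conjC_apply K g (θ : K → ℂ) k, h, Complex.conj_conj]
  have h3 : ∀ j : ℕ, conjC K (g ^ (2 * j)) θ = (θ : K → ℂ) := by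
    intro j
    induction j with
    | zero => simp [conjC_one]
    | succ j ih => rw [show 2 * (j + 1) = 2 * j + 2 by ring, pow_add, pow_two, conjC_mul, ih, h2]
  have h4 : conjC K g θ = (θ : K → ℂ) := by
    have := conjC_of_mem K (isClassFunction_irr θ) hm
    rw [pow_succ, conjC_mul, h3] at this
    exact this
  refine ⟨h4, fun k => Complex.conj_eq_iff_im.mp ?_⟩
  rw [← h, h4]

/-- Equal total number of fixed points on real characters and on real elements. -/
theorem sum_fixed_eq [Fintype G] (hodd : Odd K.index) :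
    ∑ g : G, Nat.card {θ : RealIrr K // conjC K g (θ.1 : K → ℂ) = (θ.1 : K → ℂ)} =
      ∑ g : G, Nat.card {x : RealElt K // g * (x.1 : G) * g⁻¹ = (x.1 : G)} := by
  classical
  have := Fintype.ofFinite K
  have := Fintype.ofFinite (Cfsg.IrrCharacter K)
  have key : ((∑ g : G, Nat.card {θ : RealIrr K // conjC K g (θ.1 : K → ℂ) = (θ.1 : K → ℂ)} : ℕ) : ℂ) *
      Nat.card K =
      ((∑ g : G, Nat.card {x : RealElt K // g * (x.1 : G) * g⁻¹ = (x.1 : G)} : ℕ) : ℂ) * Nat.card K := by
    have h1 : ∀ g : G,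
        (Nat.card {θ : RealIrr K // conjC K g (θ.1 : K → ℂ) = (θ.1 : K → ℂ)} : ℂ) * Nat.card K =
        ∑ k : K, (Nat.card {c : K // c * MulAut.conjNormal g k * c⁻¹ = k⁻¹} : ℂ) := by
      intro g
      rw [← card_twisted_real (MulAut.conjNormal g : K ≃* K)]
      congr 2
      have hpt : ∀ (θ : K → ℂ) (k : K), conjC K g θ k = θ (MulAut.conjNormal g k) := fun θ k => by
        rw [conjC_apply]
        exact congrArg θ (Subtype.ext (MulAut.conjNormal_apply g k).symm)
      refine Nat.card_congr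
        { toFun := fun θ => ⟨θ.1.1, fun k => by
            rw [← hpt (θ.1.1 : K → ℂ) k, θ.2]
            exact (Complex.conj_eq_iff_im.mpr (θ.1.2 k)).symm⟩
          invFun := fun θ => ⟨⟨θ.1,
              (real_fixed_of_conj K hodd fun k => (hpt _ k).trans (θ.2 k)).2⟩,
            (real_fixed_of_conj K hodd fun k => (hpt _ k).trans (θ.2 k)).1⟩
          left_inv := fun θ => rfl
          right_inv := fun θ => rfl }
    rw [Nat.cast_sum, Finset.sum_mul, Finset.sum_congr rfl fun g _ => h1 g]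
    have h2 : ∀ (g : G) (k : K),
        (Nat.card {c : K // c * MulAut.conjNormal g k * c⁻¹ = k⁻¹} : ℂ) =
          ∑ c : K, if (c : G) * g * (k : G) * ((c : G) * g)⁻¹ = (k : G)⁻¹ then 1 else 0 := by
      intro g k
      rw [Finset.sum_boole, Nat.card_eq_fintype_card, Fintype.card_subtype]
      congr 2
      ext c
      simp only [Finset.mem_filter, Finset.mem_univ, true_and, Subtype.ext_iff, Subgroup.coe_mul,
        Subgroup.coe_inv, MulAut.conjNormal_apply, mul_inv_rev, mul_assoc]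
    simp only [h2]
    rw [Finset.sum_comm]
    have h3 : ∀ k : K,
        ∑ g : G, ∑ c : K, (if (c : G) * g * (k : G) * ((c : G) * g)⁻¹ = (k : G)⁻¹ then (1 : ℂ) else 0) =
        (Nat.card K : ℂ) * ∑ g : G, if g * (k : G) * g⁻¹ = (k : G)⁻¹ then (1 : ℂ) else 0 := by
      intro k
      have h3c : ∀ c : K,
          ∑ g : G, (if (c : G) * g * (k : G) * ((c : G) * g)⁻¹ = (k : G)⁻¹ then (1 : ℂ) else 0) =
          ∑ g : G, if g * (k : G) * g⁻¹ = (k : G)⁻¹ then (1 : ℂ) else 0 := fun c =>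
        Fintype.sum_equiv (Equiv.mulLeft (c : G)) _ _ fun g => rfl
      rw [Finset.sum_comm, Finset.sum_congr rfl fun c _ => h3c c,
        Finset.sum_const, Finset.card_univ, nsmul_eq_mul, Fintype.card_eq_nat_card]
    rw [Finset.sum_congr rfl fun k _ => h3 k, ← Finset.mul_sum, mul_comm]
    congr 1
    have h4 : ∀ g : G, (Nat.card {x : RealElt K // g * (x.1 : G) * g⁻¹ = (x.1 : G)} : ℂ) =
        ∑ k : K, if IsConj k k⁻¹ ∧ g * (k : G) * g⁻¹ = (k : G) then 1 else 0 := by
      intro g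
      rw [Finset.sum_boole]
      congr 1
      rw [← Fintype.card_subtype, ← Nat.card_eq_fintype_card]
      exact Nat.card_congr
        { toFun := fun x => ⟨x.1.1, x.1.2, x.2⟩
          invFun := fun x => ⟨⟨x.1, x.2.1⟩, x.2.2⟩
          left_inv := fun _ => rfl
          right_inv := fun _ => rfl }
    rw [Nat.cast_sum, Finset.sum_congr rfl fun g _ => h4 g]
    conv_rhs => rw [Finset.sum_comm]
    refine Finset.sum_congr rfl fun k _ => ?_
    by_cases hk : IsConj k k⁻¹
    · obtain ⟨c, hc⟩ := isConj_iff.mp hk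
      have hc' : (c : G) * (k : G) * (c : G)⁻¹ = (k : G)⁻¹ := by
        simpa using congrArg (fun t : K => (t : G)) hc
      refine Fintype.sum_bijective (fun g : G => (c : G)⁻¹ * g) (Group.mulLeft_bijective _) _ _
        fun g => if_congr ⟨fun h => ⟨hk, ?_⟩, fun h => ?_⟩ rfl rfl
      · calc (c : G)⁻¹ * g * (k : G) * ((c : G)⁻¹ * g)⁻¹
            = (c : G)⁻¹ * (g * (k : G) * g⁻¹) * c := by group
          _ = (c : G)⁻¹ * ((c : G) * (k : G) * (c : G)⁻¹) * c := by rw [h, hc']
          _ = k := by group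
      · calc g * (k : G) * g⁻¹
            = (c : G) * ((c : G)⁻¹ * g * (k : G) * ((c : G)⁻¹ * g)⁻¹) * (c : G)⁻¹ := by group
          _ = (k : G)⁻¹ := by rw [h.2, hc']
    · rw [Finset.sum_eq_zero, Finset.sum_eq_zero]
      · intro g _
        exact if_neg fun h => hk h.1
      · intro g _
        exact if_neg fun h => hk (isConj_inv_of_conj K hodd h)
  exact_mod_cast mul_right_cancel₀ natCard_ne_zero key

/-- The relation of conjugacy on real characters, as in the statements. -/
def realIrrRel (θ η : RealIrr K) : Prop :=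
  ∃ g : G, ∀ k k' : K, (k' : G) = g * (k : G) * g⁻¹ → (η.1 : K → ℂ) k' = (θ.1 : K → ℂ) k

/-- The relation of conjugacy on real elements. -/
def realEltRel (x y : RealElt K) : Prop :=
  ∃ g : G, (y.1 : G) = g * x.1 * g⁻¹

/-- For `K` of odd index the orbit numbers on real characters and real elements agree. -/
theorem card_orbits_real [Finite G] (hodd : Odd K.index) :
    Nat.card (Quot (realIrrRel K)) = Nat.card (Quot (realEltRel K)) := by
  classical
  have := Fintype.ofFinite G
  have := Fintype.ofFinite K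
  letI := realIrrAction K
  letI := realEltAction K
  have := Fintype.ofFinite (RealIrr K)
  have := Fintype.ofFinite (RealElt K)
  have hA : Nat.card (Quot (realIrrRel K)) = Nat.card (MulAction.orbitRel.Quotient G (RealIrr K)) := by
    refine Nat.card_congr (Quot.congrRight fun θ η => ?_)
    rw [MulAction.orbitRel_apply, MulAction.mem_orbit_iff]
    constructor
    · rintro ⟨g, hg⟩
      refine ⟨g⁻¹, Subtype.ext (Subtype.ext (funext fun k => ?_))⟩
      show conjC K g⁻¹⁻¹ (η.1 : K → ℂ) k = _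
      rw [inv_inv, conjC_apply]
      exact hg k _ rfl
    · rintro ⟨g, hg⟩
      refine ⟨g⁻¹, fun k k' hkk' => ?_⟩
      have h2 := congrArg (fun t : RealIrr K => (t.1 : K → ℂ) k) hg
      rw [← h2]
      show _ = conjC K g⁻¹ (η.1 : K → ℂ) k
      rw [conjC_apply]
      exact congrArg _ (Subtype.ext hkk')
  have hB : Nat.card (Quot (realEltRel K)) = Nat.card (MulAction.orbitRel.Quotient G (RealElt K)) := by
    refine Nat.card_congr (Quot.congrRight fun x y => ?_)
    rw [MulAction.orbitRel_apply, MulAction.mem_orbit_iff]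
    constructor
    · rintro ⟨g, hg⟩
      refine ⟨g⁻¹, Subtype.ext (Subtype.ext ?_)⟩
      show (MulAut.conjNormal g⁻¹ y.1 : G) = _
      rw [MulAut.conjNormal_apply, hg]
      group
    · rintro ⟨g, hg⟩
      refine ⟨g⁻¹, ?_⟩
      rw [← hg]
      show _ = g⁻¹ * (MulAut.conjNormal g y.1 : G) * g⁻¹⁻¹
      rw [MulAut.conjNormal_apply]
      group
  rw [hA, hB]
  have := Fintype.ofFinite (MulAction.orbitRel.Quotient G (RealIrr K))
  have := Fintype.ofFinite (MulAction.orbitRel.Quotient G (RealElt K))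
  have eA := MulAction.sum_card_fixedBy_eq_card_orbits_mul_card_group G (RealIrr K)
  have eB := MulAction.sum_card_fixedBy_eq_card_orbits_mul_card_group G (RealElt K)
  simp only [← Nat.card_eq_fintype_card] at eA eB
  have hl : ∀ g : G, Nat.card (MulAction.fixedBy (RealIrr K) g) =
      Nat.card {θ : RealIrr K // conjC K g⁻¹ (θ.1 : K → ℂ) = (θ.1 : K → ℂ)} := fun g =>
    Nat.card_congr (Equiv.subtypeEquivRight fun θ =>
      ⟨fun h => congrArg (fun t : RealIrr K => (t.1 : K → ℂ)) h, fun h => Subtype.ext (Subtype.ext h)⟩)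
  have hr : ∀ g : G, Nat.card (MulAction.fixedBy (RealElt K) g) =
      Nat.card {x : RealElt K // g * (x.1 : G) * g⁻¹ = (x.1 : G)} := fun g =>
    Nat.card_congr (Equiv.subtypeEquivRight fun x =>
      ⟨fun h => by
        have h2 := congrArg (fun t : RealElt K => (t.1 : G)) h
        exact (MulAut.conjNormal_apply g x.1).symm.trans h2,
      fun h => Subtype.ext (Subtype.ext ((MulAut.conjNormal_apply g x.1).trans h))⟩)
  have hinv : ∑ g : G, Nat.card {θ : RealIrr K // conjC K g⁻¹ (θ.1 : K → ℂ) = (θ.1 : K → ℂ)} =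
      ∑ g : G, Nat.card {θ : RealIrr K // conjC K g (θ.1 : K → ℂ) = (θ.1 : K → ℂ)} :=
    Fintype.sum_equiv (Equiv.inv G) _ _ fun g => rfl
  rw [Finset.sum_congr rfl fun g _ => hl g, hinv,
    sum_fixed_eq K hodd] at eA
  rw [Finset.sum_congr rfl fun g _ => hr g] at eB
  exact Nat.eq_of_mul_eq_mul_right Nat.card_pos (eA.symm.trans eB)

/-- The real classes of `G` are the orbits on the real elements of `K`. -/
theorem card_real_classes [Finite G] (hodd : Odd K.index) :
    Nat.card {C : ConjClasses G // ∀ g : G, ConjClasses.mk g = C → IsConj g g⁻¹} =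
      Nat.card (Quot (realEltRel K)) := by
  let f : Quot (realEltRel K) → {C : ConjClasses G // ∀ g : G, ConjClasses.mk g = C → IsConj g g⁻¹} :=
    Quot.lift (fun x => ⟨ConjClasses.mk (x.1 : G), fun g hg => by
      obtain ⟨c, rfl⟩ := isConj_iff.mp (ConjClasses.mk_eq_mk_iff_isConj.mp hg).symm
      obtain ⟨d, hd⟩ := isConj_iff.mp (K.subtype.map_isConj x.2)
      refine isConj_iff.mpr ⟨c * d * c⁻¹, ?_⟩
      have hd' : d * (x.1 : G) * d⁻¹ = (x.1 : G)⁻¹ := by simpa using hd
      calc c * d * c⁻¹ * (c * (x.1 : G) * c⁻¹) * (c * d * c⁻¹)⁻¹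
          = c * (d * (x.1 : G) * d⁻¹) * c⁻¹ := by group
        _ = (c * (x.1 : G) * c⁻¹)⁻¹ := by rw [hd']; group⟩)
      (by
        rintro x y ⟨g, hg⟩
        exact Subtype.ext (ConjClasses.mk_eq_mk_iff_isConj.mpr (isConj_iff.mpr ⟨g, hg.symm⟩)))
  refine (Nat.card_eq_of_bijective f ⟨?_, ?_⟩).symm
  · intro a b hab
    induction a using Quot.ind with | _ x => ?_
    induction b using Quot.ind with | _ y => ?_
    obtain ⟨g, hg⟩ := isConj_iff.mp (ConjClasses.mk_eq_mk_iff_isConj.mp (congrArg Subtype.val hab))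
    exact Quot.sound ⟨g, hg.symm⟩
  · rintro ⟨C, hC⟩
    obtain ⟨g, rfl⟩ := ConjClasses.mk_surjective C
    have hreal := hC g rfl
    have hgK : g ∈ K := by
      rw [← QuotientGroup.eq_one_iff]
      refine eq_one_of_isConj_inv (G := G ⧸ K) ?_ ?_
      · rwa [← Subgroup.index_eq_card]
      · exact (QuotientGroup.mk' K).map_isConj hreal
    obtain ⟨c, hc⟩ := isConj_iff.mp hreal
    exact ⟨Quot.mk _ ⟨⟨g, hgK⟩, isConj_inv_of_conj K hodd (k := ⟨g, hgK⟩) hc⟩, rfl⟩

/-- The indicator sum over the characters above a character of `K`. -/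
theorem sum_nu_mult [Fintype G] [Fintype K] (hodd : Odd K.index) (φ : Cfsg.IrrCharacter K) :
    ∑ᶠ χ : Cfsg.IrrCharacter G,
      nu (χ : G → ℂ) * Cfsg.classInner (fun k : K => (χ : G → ℂ) k) (φ : K → ℂ) =
      nu (φ : K → ℂ) := by
  classical
  have := Fintype.ofFinite (Cfsg.IrrCharacter G)
  have hroot : ∀ k : K, Nat.card {s : K // s * s = k} = Nat.card {s : G // s * s = (k : G)} := by
    intro k
    refine Nat.card_congr
      { toFun := fun s => ⟨(s.1 : G), congrArg Subtype.val s.2⟩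
        invFun := fun s => ⟨⟨s.1, ?_⟩, Subtype.ext s.2⟩
        left_inv := fun _ => rfl
        right_inv := fun _ => rfl }
    obtain ⟨m, hm⟩ := exists_odd_pow_mem K hodd s.1
    rw [pow_succ, pow_mul, pow_two, s.2] at hm
    exact (K.mul_mem_cancel_left (pow_mem k.2 m)).mp hm
  rw [← classInner_rootCount φ, finsum_eq_sum_of_fintype]
  have hfun : (fun k : K => (Nat.card {s : K // s * s = k} : ℂ)) =
      ∑ χ : Cfsg.IrrCharacter G, nu (χ : G → ℂ) • fun k : K => (χ : G → ℂ) k := by
    funext k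
    rw [hroot, root_count, finsum_eq_sum_of_fintype, Finset.sum_apply]
    rfl
  rw [hfun, classInner_sum_left]
  exact Finset.sum_congr rfl fun χ _ => (classInner_smul_left _ _ _).symm

/-- For `K` of odd index each real character of `K` lies under exactly one real character of
`G`, with indicator times multiplicity equal to the indicator below. -/
theorem existsUnique_real_over [Fintype G] [Fintype K] (hodd : Odd K.index)
    (φ : Cfsg.IrrCharacter K) (hφ : ∀ k : K, ((φ : K → ℂ) k).im = 0) :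
    ∃ χ : Cfsg.IrrCharacter G, (∀ g : G, ((χ : G → ℂ) g).im = 0) ∧
      Cfsg.classInner (fun k : K => (χ : G → ℂ) k) (φ : K → ℂ) ≠ 0 ∧
      nu (χ : G → ℂ) * Cfsg.classInner (fun k : K => (χ : G → ℂ) k) (φ : K → ℂ) = nu (φ : K → ℂ) ∧
      ∀ χ' : Cfsg.IrrCharacter G, (∀ g : G, ((χ' : G → ℂ) g).im = 0) →
        Cfsg.classInner (fun k : K => (χ' : G → ℂ) k) (φ : K → ℂ) ≠ 0 → χ' = χ := by
  classical
  have := Fintype.ofFinite (Cfsg.IrrCharacter G)
  have hex : ∀ θ : RealIrr K, ∃ χ : {χ : Cfsg.IrrCharacter G // ∀ g : G, ((χ : G → ℂ) g).im = 0},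
      Cfsg.classInner (fun k : K => (χ.1 : G → ℂ) k) (θ.1 : K → ℂ) ≠ 0 := by
    intro θ
    have h := sum_nu_mult K hodd θ.1
    have hne : nu (θ.1 : K → ℂ) ≠ 0 := by
      rcases (indicator_spec θ.1).1 θ.2 with h1 | h1 <;> · unfold nu; rw [h1]; norm_num
    rw [finsum_eq_sum_of_fintype] at h
    obtain ⟨χ, -, hχ⟩ := Finset.exists_ne_zero_of_sum_ne_zero (h ▸ hne)
    exact ⟨⟨χ, real_of_nu_ne_zero (left_ne_zero_of_mul hχ)⟩, right_ne_zero_of_mul hχ⟩
  let Φ : Quot (realIrrRel K) → {χ : Cfsg.IrrCharacter G // ∀ g : G, ((χ : G → ℂ) g).im = 0} :=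
    fun q => (hex q.out).choose
  have hclif : ∀ (χ : Cfsg.IrrCharacter G) (θ η : RealIrr K),
      Cfsg.classInner (fun k : K => (χ : G → ℂ) k) (θ.1 : K → ℂ) ≠ 0 →
      Cfsg.classInner (fun k : K => (χ : G → ℂ) k) (η.1 : K → ℂ) ≠ 0 →
      realIrrRel K θ η := by
    intro χ θ η hθ hη
    obtain ⟨g, hg⟩ := exists_conj_of_constituents K χ.2 hη hθ
    refine ⟨g, fun k k' hkk' => ?_⟩
    rw [show k' = ⟨g * k * g⁻¹, hK.conj_mem _ k.2 g⟩ from Subtype.ext hkk', ← conjC_apply K g (η.1 : K → ℂ) k, hg]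
  have hinj : Function.Injective Φ := by
    intro a b hab
    have ha := (hex a.out).choose_spec
    have hb := (hex b.out).choose_spec
    rw [show (hex a.out).choose = (hex b.out).choose from hab] at ha
    rw [← Quot.out_eq a, ← Quot.out_eq b]
    exact Quot.sound (hclif _ _ _ ha hb)
  have hbij : Function.Bijective Φ := by
    refine (Nat.bijective_iff_injective_and_card Φ).mpr ⟨hinj, ?_⟩
    rw [card_real_irr, card_real_classes K hodd, card_orbits_real K hodd]
  obtain ⟨χ, hχ⟩ := hex ⟨φ, hφ⟩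
  have huniq : ∀ χ' : {χ : Cfsg.IrrCharacter G // ∀ g : G, ((χ : G → ℂ) g).im = 0},
      Cfsg.classInner (fun k : K => (χ'.1 : G → ℂ) k) (φ : K → ℂ) ≠ 0 →
      χ' = Φ (Quot.mk _ ⟨φ, hφ⟩) := by
    intro χ' hχ'
    obtain ⟨q, hq⟩ := hbij.2 χ'
    have hs := (hex q.out).choose_spec
    rw [← hq]
    congr 1
    rw [← Quot.out_eq q]
    exact Quot.sound (hclif _ q.out ⟨φ, hφ⟩ (by rw [← hq] at hχ'; exact hs) (by rw [← hq] at hχ'; exact hχ'))
  refine ⟨χ.1, χ.2, hχ, ?_, fun χ' hr hne => congrArg Subtype.val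
    ((huniq ⟨χ', hr⟩ hne).trans (huniq χ hχ).symm)⟩
  rw [← sum_nu_mult K hodd φ, finsum_eq_sum_of_fintype, Finset.sum_eq_single χ.1]
  · intro χ' _ hne
    by_contra h0
    exact hne (congrArg Subtype.val ((huniq ⟨χ', real_of_nu_ne_zero (left_ne_zero_of_mul h0)⟩
      (right_ne_zero_of_mul h0)).trans (huniq χ hχ).symm))
  · exact fun h => absurd (Finset.mem_univ _) h

end Cfsg.Agent.Lib.Chars82.RealChars
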