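import Cfsg.Agent.Lib.Chars82.RealChars
import Cfsg.Agent.Lib.Blocks.Central

/-!
# A character extendible to its inertia group: induced character, twists, indicator
-/

namespace Cfsg.Agent.Lib.Chars82.StableExtension

open scoped ComplexConjugate Kronecker
open Cfsg.Agent.Lib.Induced.Basic Cfsg.Agent.Lib.Characters.Basic
open Cfsg.Agent.Lib.Characters.Complete Cfsg.Agent.Lib.Characters.Linear
open Cfsg.Agent.Lib.Characters.Indicator
open Cfsg.Agent.Lib.Clifford.Basic
open Cfsg.Agent.Lib.Chars82.RealChars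

universe u v

variable {G : Type u} [Group G]

/-- A character whose restriction to a normal subgroup is irreducible is irreducible. -/
theorem isIrr_of_restrict_irr {H : Type v} [Group H] [Fintype H] {N : Type u} [Group N] [Fintype N]
    (f : N →* H) {ψ : H → ℂ} (hψ : Cfsg.IsCharacter H ψ) (φ : Cfsg.IrrCharacter N)
    (hres : ∀ n, ψ (f n) = (φ : N → ℂ) n) : Cfsg.IsIrrCharacter H ψ := by
  have hne : ψ ≠ 0 := fun h => by
    have := hres 1
    rw [h] at this
    exact apply_one_ne_zero φ this.symm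
  obtain ⟨a, ha⟩ := exists_constituent hψ hne
  obtain ⟨m, r, hr, hm, -, hdec⟩ := exists_eq_nsmul_add hψ a
  obtain ⟨θ, hθ⟩ := exists_constituent (isCharacter_comp f (isCharacter_irr a)) (fun h => by
    have := congrFun h 1
    rw [Function.comp_apply, map_one, Pi.zero_apply] at this
    exact apply_one_ne_zero a this)
  have hθφ : θ = φ := by
    by_contra hne'
    have h1 : Cfsg.classInner (ψ ∘ f) (θ : N → ℂ) ≠ 0 := by
      intro h0
      obtain ⟨j, hj⟩ := exists_classInner_nat (isCharacter_comp f hr) (isCharacter_irr θ)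
      obtain ⟨i, hi⟩ := exists_classInner_nat (isCharacter_comp f (isCharacter_irr a))
        (isCharacter_irr θ)
      have e : ψ ∘ f = m • ((a : H → ℂ) ∘ f) + r ∘ f := by
        funext n
        exact congrFun hdec (f n)
      rw [e, classInner_add_left, classInner_nsmul_left, hi, hj] at h0
      have h0' : m * i + j = 0 := by exact_mod_cast h0
      have hm0 : m ≠ 0 := fun h => ha (by rw [hm, h, Nat.cast_zero])
      have hi0 : i ≠ 0 := fun h => hθ (by rw [hi, h, Nat.cast_zero])
      have := Nat.mul_ne_zero hm0 hi0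
      omega
    apply h1
    rw [show ψ ∘ f = (φ : N → ℂ) from funext hres, classInner_irr_of_ne (Ne.symm hne')]
  subst hθφ
  obtain ⟨i, s, hs, hi, -, hdec'⟩ := exists_eq_nsmul_add (isCharacter_comp f (isCharacter_irr a)) θ
  obtain ⟨d, hd0, hd⟩ := exists_degree_pos θ
  obtain ⟨c, hc⟩ := exists_degree hr
  obtain ⟨c', hc'⟩ := exists_degree hs
  have h1 := congrFun hdec 1
  have h2 := congrFun hdec' 1
  rw [Function.comp_apply, map_one, Pi.add_apply, Pi.smul_apply, nsmul_eq_mul, hd, hc'] at h2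
  have h3 := hres 1
  rw [map_one, hd] at h3
  rw [Pi.add_apply, Pi.smul_apply, nsmul_eq_mul, h2, hc, h3] at h1
  have h1' : d = m * (i * d + c') + c := by exact_mod_cast h1
  have hm0 : 0 < m := Nat.pos_of_ne_zero fun h => ha (by rw [hm, h, Nat.cast_zero])
  have hi0 : 0 < i := Nat.pos_of_ne_zero fun h => hθ (by rw [hi, h, Nat.cast_zero])
  have hle : d ≤ i * d + c' := le_add_right (Nat.le_mul_of_pos_left d hi0)
  have hm1 : m = 1 := by
    by_contra hne1
    have h2m : 2 * (i * d + c') ≤ m * (i * d + c') := Nat.mul_le_mul_right _ (by omega)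
    omega
  subst hm1
  rw [one_mul] at h1'
  have hc0 : c = 0 := by omega
  have hr0 : r = 0 := eq_zero_of_apply_one_eq_zero hr (by rw [hc, hc0, Nat.cast_zero])
  rw [hdec, hr0, add_zero, one_smul]
  exact a.2

variable (N : Subgroup G) [hN : N.Normal]

theorem le_of_stabilizer {φ : Cfsg.IrrCharacter N} {I : Subgroup G}
    (hI : ∀ g : G, g ∈ I ↔ ∀ n n' : N, (n' : G) = g * (n : G) * g⁻¹ →
      (φ : N → ℂ) n' = (φ : N → ℂ) n) :
    I = inertia N (φ : N → ℂ) := by
  ext g
  rw [hI, mem_inertia, funext_iff]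
  refine forall_congr' fun n => ?_
  rw [conjC_apply]
  exact ⟨fun h => h ⟨g * n * g⁻¹, hN.conj_mem _ n.2 g⟩ rfl,
    fun h n' hn' => by rw [← h]; exact congrArg _ (Subtype.ext hn')⟩

variable {φ : Cfsg.IrrCharacter N} {I : Subgroup G} {hNI : N ≤ I}

/-- The induced character of an extension to the inertia group is irreducible. -/
theorem induced_spec [Fintype G] [Fintype I] [Fintype N] (hI : I = inertia N (φ : N → ℂ))
    (ψ : Cfsg.IrrCharacter I)
    (hres : ∀ n : N, (ψ : I → ℂ) (Subgroup.inclusion hNI n) = (φ : N → ℂ) n) :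
    ∃ χ : Cfsg.IrrCharacter G, (χ : G → ℂ) = Cfsg.indFun I (ψ : I → ℂ) ∧
      (∀ ψ' : Cfsg.IrrCharacter I,
        (∀ n : N, (ψ' : I → ℂ) (Subgroup.inclusion hNI n) = (φ : N → ℂ) n) →
        Cfsg.classInner (fun t : I => (χ : G → ℂ) t) (ψ' : I → ℂ) ≠ 0 → ψ' = ψ) ∧
      Cfsg.classInner (fun t : I => (χ : G → ℂ) t) (ψ : I → ℂ) ≠ 0 ∧
      (χ : G → ℂ) 1 = (φ : N → ℂ) 1 * (I.index : ℂ) := by
  have hind := Lib.Induced.Character.isCharacter_indFun I (isCharacter_irr ψ)
  obtain ⟨d, hd0, hd⟩ := exists_degree_pos φ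
  have hψ1 : (ψ : I → ℂ) 1 = d := by
    rw [← map_one (Subgroup.inclusion hNI), hres, hd]
  have hind1 : Cfsg.indFun I (ψ : I → ℂ) 1 = ((I.index * d : ℕ) : ℂ) := by
    rw [indFun_one, hψ1]
    push_cast
    ring
  obtain ⟨χ, hχ⟩ := exists_constituent hind (fun h => by
    rw [h, Pi.zero_apply] at hind1
    exact absurd hind1.symm (Nat.cast_ne_zero.mpr
      (Nat.mul_ne_zero Subgroup.index_ne_zero_of_finite hd0.ne')))
  have hψχ : Cfsg.classInner (fun t : I => (χ : G → ℂ) t) (ψ : I → ℂ) ≠ 0 := by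
    rw [frobenius_reciprocity I _ (isClassFunction_irr χ)] at hχ
    exact classInner_ne_zero_symm hχ
  obtain ⟨m, r, hr, hm, -, hdec⟩ := exists_eq_nsmul_add
    (isCharacter_comp I.subtype (isCharacter_irr χ)) ψ
  have hm0 : 0 < m := Nat.pos_of_ne_zero fun h => hψχ (by
    show Cfsg.classInner ((χ : G → ℂ) ∘ I.subtype) _ = 0
    rw [hm, h, Nat.cast_zero])
  obtain ⟨j, hj⟩ := exists_classInner_nat (isCharacter_comp (Subgroup.inclusion hNI) hr)
    (isCharacter_irr φ)
  have hχφ : Cfsg.classInner (fun n : N => (χ : G → ℂ) n) (φ : N → ℂ) = ((m + j : ℕ) : ℂ) := by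
    have e : (fun n : N => (χ : G → ℂ) n) = m • (φ : N → ℂ) + r ∘ Subgroup.inclusion hNI := by
      funext n
      have := congrFun hdec (Subgroup.inclusion hNI n)
      simp only [Pi.add_apply, Pi.smul_apply, Function.comp_apply] at this ⊢
      rw [← hres n]
      exact this
    rw [e, classInner_add_left, classInner_nsmul_left, classInner_self_irr, hj]
    push_cast
    ring
  have hdeg : (χ : G → ℂ) 1 = (((m + j) * I.index * d : ℕ) : ℂ) := by
    rw [clifford_degree N χ.2 φ (by rw [hχφ]; exact Nat.cast_ne_zero.mpr (by omega)), hχφ, hd, ← hI]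
    push_cast
    ring
  obtain ⟨k, s, hs, hk, -, hdec'⟩ := exists_eq_nsmul_add hind χ
  have hk0 : 0 < k := Nat.pos_of_ne_zero fun h => hχ (by rw [hk, h, Nat.cast_zero])
  obtain ⟨c, hc⟩ := exists_degree hs
  have h1 := congrFun hdec' 1
  rw [Pi.add_apply, Pi.smul_apply, nsmul_eq_mul, hind1, hdeg, hc] at h1
  have h1' : I.index * d = k * ((m + j) * I.index * d) + c := by exact_mod_cast h1
  have hA : 0 < I.index * d := Nat.mul_pos (Nat.pos_of_ne_zero Subgroup.index_ne_zero_of_finite) hd0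
  have hkey : I.index * d = I.index * d * (k * (m + j)) + c := by
    calc I.index * d = k * ((m + j) * I.index * d) + c := h1'
      _ = I.index * d * (k * (m + j)) + c := by ring
  have h1m : k * (m + j) = 1 := by
    have h2 : k * (m + j) ≤ 1 := Nat.le_of_mul_le_mul_left (by omega) hA
    have h3 : 0 < k * (m + j) := Nat.mul_pos hk0 (by omega)
    omega
  have hk1 : k = 1 := Nat.eq_one_of_mul_eq_one_right h1m
  have hmj : m + j = 1 := Nat.eq_one_of_mul_eq_one_left h1m
  have hc0 : c = 0 := by rw [h1m, mul_one] at hkey; omega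
  have hs0 : s = 0 := eq_zero_of_apply_one_eq_zero hs (by rw [hc, hc0, Nat.cast_zero])
  refine ⟨χ, by rw [hdec', hs0, hk1, one_smul, add_zero], ?_, hψχ, ?_⟩
  · intro ψ' hres' hne'
    by_contra hne
    obtain ⟨i, hi⟩ := exists_classInner_nat hr (isCharacter_irr ψ')
    have hi0 : i ≠ 0 := by
      intro h0
      apply hne'
      show Cfsg.classInner ((χ : G → ℂ) ∘ I.subtype) _ = 0
      rw [hdec, classInner_add_left, classInner_nsmul_left, classInner_irr_of_ne (Ne.symm hne), hi, h0]
      simp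
    obtain ⟨m', r', hr', hm', -, hdec''⟩ := exists_eq_nsmul_add hr ψ'
    have hm'i : m' = i := by exact_mod_cast hm'.symm.trans hi
    obtain ⟨j', hj'⟩ := exists_classInner_nat (isCharacter_comp (Subgroup.inclusion hNI) hr')
      (isCharacter_irr φ)
    have e : r ∘ Subgroup.inclusion hNI = m' • (φ : N → ℂ) + r' ∘ Subgroup.inclusion hNI := by
      funext n
      have := congrFun hdec'' (Subgroup.inclusion hNI n)
      simp only [Pi.add_apply, Pi.smul_apply, Function.comp_apply] at this ⊢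
      rw [← hres' n]
      exact this
    rw [e, classInner_add_left, classInner_nsmul_left, classInner_self_irr, hj'] at hj
    have hjj : m' * 1 + j' = j := by exact_mod_cast hj
    omega
  · rw [hdeg, hmj, hd]
    push_cast
    ring

/-- Twisting by a linear character trivial on `N` is injective up to the characters trivial on
the inertia group. -/
theorem trivial_on_inertia [Fintype G] [Fintype I] [Fintype N] (hI : I = inertia N (φ : N → ℂ))
    (ψ : Cfsg.IrrCharacter I)
    (hres : ∀ n : N, (ψ : I → ℂ) (Subgroup.inclusion hNI n) = (φ : N → ℂ) n)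
    (μ : G →* ℂˣ) (hμN : ∀ n ∈ N, μ n = 1)
    (hfix : ∀ g : G, (μ g : ℂ) * Cfsg.indFun I (ψ : I → ℂ) g = Cfsg.indFun I (ψ : I → ℂ) g) :
    ∀ t ∈ I, μ t = 1 := by
  classical
  obtain ⟨χ, hχ, huniq, hne, -⟩ := induced_spec N hI ψ hres
  let μI : I →* ℂˣ := μ.comp I.subtype
  let ψ' : Cfsg.IrrCharacter I :=
    ⟨(linChar μI : I → ℂ) * (ψ : I → ℂ), isIrrCharacter_linear_mul (isCharacter_irr _)
      (by simp [linChar_apply]) ψ.2⟩
  have hψ' : ψ' = ψ := by
    refine huniq ψ' (fun n => ?_) ?_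
    · show (μ (n : G) : ℂ) * (ψ : I → ℂ) (Subgroup.inclusion hNI n) = _
      rw [hμN n n.2, hres, Units.val_one, one_mul]
    · intro h0
      apply hne
      rw [← h0]
      simp only [Cfsg.classInner]
      congr 1
      refine Finset.sum_congr rfl fun t _ => ?_
      show _ = _ * conj ((μ (t : G) : ℂ) * (ψ : I → ℂ) t)
      rw [map_mul]
      have h1 : (χ : G → ℂ) t = (μ (t : G) : ℂ) * (χ : G → ℂ) t := by rw [hχ, hfix]
      have h2 : (μ (t : G) : ℂ) * conj (μ (t : G) : ℂ) = 1 := by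
        rw [← linChar_apply, ← apply_inv (isCharacter_irr _), linChar_apply, linChar_apply,
          ← Units.val_mul, ← map_mul, mul_inv_cancel, map_one, Units.val_one]
      conv_rhs => rw [h1]
      linear_combination (-((χ : G → ℂ) t * conj ((ψ : I → ℂ) t))) * h2
  have hsupp : ∀ t : I, μ (t : G) ≠ 1 → (ψ : I → ℂ) t = 0 := by
    intro t ht
    have h := congrFun (congrArg Subtype.val hψ') t
    simp only [ψ', Pi.mul_apply, linChar_apply] at h
    by_contra h0
    exact ht (Units.ext ((mul_eq_right₀ h0).mp h))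
  let J : Subgroup I := μI.ker
  have := Fintype.ofFinite J
  let ι : N →* J := (Subgroup.inclusion hNI).codRestrict J fun n => by
    show μ (n : G) = 1
    exact hμN n n.2
  have hJ : Cfsg.IsIrrCharacter J ((ψ : I → ℂ) ∘ J.subtype) :=
    isIrr_of_restrict_irr ι (isCharacter_comp J.subtype (isCharacter_irr ψ)) φ hres
  have h1 := classInner_self_irr ⟨_, hJ⟩
  have h2 := classInner_self_irr ψ
  rw [Cfsg.classInner, inv_mul_eq_iff_eq_mul₀ natCard_ne_zero, mul_one] at h1 h2
  have hsum : ∑ t : I, (ψ : I → ℂ) t * conj ((ψ : I → ℂ) t) =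
      ∑ t : J, (ψ : I → ℂ) t * conj ((ψ : I → ℂ) t) := by
    rw [← Finset.sum_subtype (p := fun t : I => t ∈ J) (Finset.univ.filter fun t : I => t ∈ J) (by simp)
      (fun t => (ψ : I → ℂ) t * conj ((ψ : I → ℂ) t))]
    refine (Finset.sum_filter_of_ne (p := fun t : I => t ∈ J) fun t _ hne0 => ?_).symm.trans ?_
    · by_contra hj
      exact hne0 (by rw [hsupp t hj, zero_mul])
    · exact Finset.sum_congr rfl fun _ _ => rfl
  have hcard : (Nat.card I : ℂ) = Nat.card J := by
    rw [← h2, ← h1, hsum]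
    rfl
  have htop : J = ⊤ := Subgroup.eq_top_of_card_eq J (by exact_mod_cast hcard.symm)
  intro t ht
  have : (⟨t, ht⟩ : I) ∈ J := htop ▸ Subgroup.mem_top _
  exact this

/-- At most `[G : I]` linear characters are trivial on `I`. -/
theorem card_trivialOn_le [Finite G] (H : Subgroup G) :
    Nat.card {μ : G →* ℂˣ // ∀ t ∈ H, μ t = 1} ≤ H.index := by
  let J : Subgroup G := H ⊔ commutator G
  have : J.Normal := Subgroup.Normal.of_commutator_le G le_sup_right
  have : Finite (G ⧸ J →* ℂˣ) := Finite.of_equiv _ (linEquiv (G ⧸ J)).symm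
  have hle : ∀ μ : {μ : G →* ℂˣ // ∀ t ∈ H, μ t = 1}, J ≤ μ.1.ker := fun μ =>
    sup_le (fun t ht => μ.2 t ht) (Abelianization.commutator_subset_ker μ.1)
  let f : {μ : G →* ℂˣ // ∀ t ∈ H, μ t = 1} → (G ⧸ J →* ℂˣ) := fun μ =>
    QuotientGroup.lift J μ.1 (hle μ)
  have hf : Function.Injective f := fun a b h => Subtype.ext (MonoidHom.ext fun g =>
    DFunLike.congr_fun h (g : G ⧸ J))
  refine (Nat.card_le_card_of_injective f hf).trans ?_
  rw [Nat.card_congr (linEquiv (G ⧸ J)), card_linear]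
  refine (Nat.le_of_dvd (Nat.pos_of_ne_zero Subgroup.index_ne_zero_of_finite)
    ?_).trans le_rfl
  refine (Subgroup.index_dvd_card _).trans ?_
  rw [← Subgroup.index_eq_card]
  exact Subgroup.index_dvd_of_le le_sup_left

/-- Orthogonality of matrix coefficients gives a vanishing coset sum. -/
theorem twisted_sum_eq_zero [Fintype N] {H : Type v} [Group H] {ψ : H → ℂ}
    (hψ : Cfsg.IsCharacter H ψ) (f₁ f₂ : N →* H)
    (θ₁ θ₂ : Cfsg.IrrCharacter N) (h₁ : ∀ n, ψ (f₁ n) = (θ₁ : N → ℂ) n)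
    (h₂ : ∀ n, ψ (f₂ n) = (θ₂ : N → ℂ) n) (hne : θ₁ ≠ conjChar θ₂) (c : H) :
    ∑ n : N, ψ (f₁ n * f₂ n * c) = 0 := by
  classical
  obtain ⟨n, ρ, rfl⟩ := hψ
  obtain ⟨M, hM⟩ := exists_matrix_hom ρ
  set P : Matrix (Fin n × Fin n) (Fin n × Fin n) ℂ :=
    (Nat.card N : ℂ)⁻¹ • ∑ x : N, M (f₁ x) ⊗ₖ M (f₂ x) with hP
  have hmul : ∀ x : N, (M (f₁ x) ⊗ₖ M (f₂ x)) * ∑ y : N, M (f₁ y) ⊗ₖ M (f₂ y) =
      ∑ y : N, M (f₁ y) ⊗ₖ M (f₂ y) := by
    intro x
    rw [Finset.mul_sum]
    exact Fintype.sum_equiv (Equiv.mulLeft x) _ _ fun y => by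
      simp [← Matrix.mul_kronecker_mul]
  have hidem : P * P = P := by
    rw [hP, smul_mul_smul_comm, Finset.sum_mul, Finset.sum_congr rfl fun g _ => hmul g,
      Finset.sum_const, Finset.card_univ, ← Nat.cast_smul_eq_nsmul ℂ, smul_smul,
      Fintype.card_eq_nat_card, mul_assoc, inv_mul_cancel₀ natCard_ne_zero, mul_one]
  have htr : P.trace = 0 := by
    rw [← classInner_irr_of_ne hne, hP, Matrix.trace_smul, Matrix.trace_sum, Cfsg.classInner,
      smul_eq_mul]
    congr 1
    refine Finset.sum_congr rfl fun g _ => ?_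
    rw [Matrix.trace_kronecker, ← hM, ← hM, h₁, h₂, conjChar_apply, Complex.conj_conj]
  have hzero : ∑ x : N, M (f₁ x) ⊗ₖ M (f₂ x) = 0 := by
    have := (rank_one_of_idempotent P hidem).1 htr
    rwa [hP, smul_eq_zero, or_iff_right (inv_ne_zero natCard_ne_zero)] at this
  simp only [hM, map_mul, Matrix.trace, Matrix.diag, Matrix.mul_apply, Finset.sum_mul]
  rw [Finset.sum_comm]
  refine Finset.sum_eq_zero fun a _ => ?_
  rw [Finset.sum_comm]
  refine Finset.sum_eq_zero fun b _ => ?_
  rw [Finset.sum_comm]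
  refine Finset.sum_eq_zero fun d _ => ?_
  rw [← Finset.sum_mul]
  have := congrFun (congrFun hzero (a, d)) (d, b)
  simp only [Matrix.sum_apply, Matrix.kronecker_apply, Matrix.zero_apply] at this
  rw [this, zero_mul]

/-- The indicator of an induced character. -/
theorem nu_indFun [Fintype G] (H : Subgroup G) (θ : H → ℂ) :
    nu (Cfsg.indFun H θ) =
      (Nat.card H : ℂ)⁻¹ * ∑ s : G, Cfsg.extendByZero H θ (s * s) := by
  simp only [nu, Cfsg.indFun, ← Finset.mul_sum]
  rw [Finset.sum_comm]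
  have h : ∀ x : G, ∑ s : G, Cfsg.extendByZero H θ (x⁻¹ * (s * s) * x) =
      ∑ s : G, Cfsg.extendByZero H θ (s * s) := fun x =>
    Fintype.sum_equiv (MulAut.conj x⁻¹).toEquiv _ _ fun s => by
      simp only [MulEquiv.toEquiv_eq_coe, MulEquiv.coe_toEquiv, MulAut.conj_apply, inv_inv]
      congr 1
      group
  rw [Finset.sum_congr rfl fun x _ => h x, Finset.sum_const, Finset.card_univ, nsmul_eq_mul,
    Fintype.card_eq_nat_card]
  field_simp

/-- A real extension keeps its indicator under induction. -/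
theorem nu_indFun_eq [Fintype G] [Fintype I] [Fintype N] (hI : I = inertia N (φ : N → ℂ))
    (ψ : Cfsg.IrrCharacter I) (hreal : ∀ t : I, ((ψ : I → ℂ) t).im = 0)
    (hres : ∀ n : N, (ψ : I → ℂ) (Subgroup.inclusion hNI n) = (φ : N → ℂ) n) :
    nu (Cfsg.indFun I (ψ : I → ℂ)) = nu (ψ : I → ℂ) := by
  classical
  rw [nu_indFun, nu]
  congr 1
  set F : G → ℂ := fun s => Cfsg.extendByZero I (ψ : I → ℂ) (s * s) with hF
  show ∑ s : G, F s = _
  have hzero : ∀ s : G, s ∉ I → ∑ n : N, F ((n : G) * s) = 0 := by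
    intro s hs
    have hprod : ∀ n : N, (n : G) * s * ((n : G) * s) =
        (n : G) * (s * (n : G) * s⁻¹) * (s * s) := fun n => by group
    by_cases h2 : s * s ∈ I
    · let f₁ : N →* I := Subgroup.inclusion hNI
      let f₂ : N →* I := (Subgroup.inclusion hNI).comp (MulAut.conjNormal s : N ≃* N).toMonoidHom
      let θ₂ : Cfsg.IrrCharacter N := ⟨conjC N s φ, isIrrCharacter_conjC N s φ.2⟩
      have h₂ : ∀ n, (ψ : I → ℂ) (f₂ n) = (θ₂ : N → ℂ) n := by
        intro n
        show (ψ : I → ℂ) (Subgroup.inclusion hNI (MulAut.conjNormal s n)) = conjC N s φ n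
        rw [hres, conjC_apply]
        exact congrArg _ (Subtype.ext (MulAut.conjNormal_apply s n))
      have hne : φ ≠ conjChar θ₂ := by
        intro h
        apply hs
        rw [hI, mem_inertia]
        funext n
        have h' := congrFun (congrArg Subtype.val h) n
        rw [conjChar_apply] at h'
        have hr : conj ((φ : N → ℂ) n) = (φ : N → ℂ) n := by
          rw [← hres]
          exact Complex.conj_eq_iff_im.mpr (hreal _)
        show (θ₂ : N → ℂ) n = _
        rw [← Complex.conj_conj ((θ₂ : N → ℂ) n), ← h', hr]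
      rw [← twisted_sum_eq_zero N (isCharacter_irr ψ) f₁ f₂ φ θ₂ hres h₂ hne ⟨s * s, h2⟩]
      refine Finset.sum_congr rfl fun n _ => ?_
      simp only [hF, hprod]
      rw [← extendByZero_coe I (ψ : I → ℂ)]
      congr 1
    · refine Finset.sum_eq_zero fun n _ => ?_
      simp only [hF, hprod]
      refine extendByZero_of_not_mem I _ fun h => h2 ?_
      exact (I.mul_mem_cancel_left (I.mul_mem (hNI n.2) (hNI (hN.conj_mem _ n.2 s)))).mp h
  have hout : ∑ s : G with s ∉ I, F s = 0 := by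
    have h1 : (Nat.card N : ℂ) * ∑ s : G with s ∉ I, F s =
        ∑ s : G with s ∉ I, ∑ n : N, F ((n : G) * s) := by
      have h2 : ∀ n : N, ∑ s : G with s ∉ I, F ((n : G) * s) = ∑ s : G with s ∉ I, F s := by
        intro n
        refine Finset.sum_equiv (Equiv.mulLeft (n : G)) (fun s => ?_) fun s _ => rfl
        simp only [Finset.mem_filter, Finset.mem_univ, true_and, Equiv.coe_mulLeft]
        rw [I.mul_mem_cancel_left (hNI n.2)]
      rw [Finset.sum_comm, Finset.sum_congr rfl fun n _ => h2 n, Finset.sum_const, Finset.card_univ,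
        nsmul_eq_mul, Fintype.card_eq_nat_card]
    rw [Finset.sum_eq_zero fun s hs => hzero s (Finset.mem_filter.mp hs).2] at h1
    exact (mul_eq_zero.mp h1).resolve_left natCard_ne_zero
  rw [← Finset.sum_filter_add_sum_filter_not Finset.univ (fun s : G => s ∈ I), hout, add_zero,
    Finset.sum_subtype (p := fun s : G => s ∈ I) _ (by simp)]
  exact Finset.sum_congr rfl fun t _ => extendByZero_coe I _ (t * t)

/-- A non-abelian minimal normal subgroup is in the kernel of all linear characters. -/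
theorem le_ker_of_minimal (hN1 : ∀ M : Subgroup G, M.Normal → M ≤ N → M = ⊥ ∨ M = N)
    (hna : ¬ IsMulCommutative N) (μ : G →* ℂˣ) : ∀ n ∈ N, μ n = 1 := by
  have hle : ⁅N, N⁆ ≤ N := Subgroup.commutator_le_self N
  rcases hN1 ⁅N, N⁆ inferInstance hle with h | h
  · exfalso
    refine hna ⟨⟨fun a b => Subtype.ext ?_⟩⟩
    exact commutatorElement_eq_one_iff_mul_comm.mp
      (Subgroup.mem_bot.mp (h ▸ Subgroup.commutator_mem_commutator a.2 b.2))
  · intro n hn
    rw [← h] at hn
    exact Abelianization.commutator_subset_ker μ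
      (Subgroup.commutator_mono le_top le_top hn)

/-- Counting: linear characters against characters of the induced degree, for any property
inherited by the twists. -/
theorem card_linear_le [Fintype G] [Fintype I] [Fintype N] (hI : I = inertia N (φ : N → ℂ))
    (ψ : Cfsg.IrrCharacter I)
    (hres : ∀ n : N, (ψ : I → ℂ) (Subgroup.inclusion hNI n) = (φ : N → ℂ) n)
    (hker : ∀ (μ : G →* ℂˣ), ∀ n ∈ N, μ n = 1)
    (A B : Cfsg.IrrCharacter G → Prop)
    (hA : ∀ χ, A χ → (χ : G → ℂ) 1 = 1)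
    (hAB : ∀ χ ξ : Cfsg.IrrCharacter G, A χ →
      (∀ g, (ξ : G → ℂ) g = (χ : G → ℂ) g * Cfsg.indFun I (ψ : I → ℂ) g) →
      (ξ : G → ℂ) 1 = (φ : N → ℂ) 1 * (I.index : ℂ) → B ξ) :
    Nat.card {χ : Cfsg.IrrCharacter G // A χ} ≤
      I.index * Nat.card {χ : Cfsg.IrrCharacter G // B χ} := by
  classical
  have := Fintype.ofFinite (Cfsg.IrrCharacter G)
  obtain ⟨χ₀, hχ₀, -, -, hdeg⟩ := induced_spec N hI ψ hres
  let tw : {χ : Cfsg.IrrCharacter G // A χ} → {χ : Cfsg.IrrCharacter G // B χ} := fun χ =>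
    ⟨⟨(χ.1 : G → ℂ) * (χ₀ : G → ℂ), isIrrCharacter_linear_mul (isCharacter_irr χ.1) (hA _ χ.2) χ₀.2⟩,
      hAB χ.1 _ χ.2 (fun g => by rw [← hχ₀]; rfl)
        (by show (χ.1 : G → ℂ) 1 * (χ₀ : G → ℂ) 1 = _; rw [hA _ χ.2, one_mul, hdeg])⟩
  rw [Nat.card_eq_fintype_card, Nat.card_eq_fintype_card, mul_comm, ← Finset.card_univ]
  refine (Finset.card_le_mul_card_image_of_maps_to (t := Finset.univ) (f := tw)
    (fun _ _ => Finset.mem_univ _) I.index fun ξ _ => ?_).trans ?_
  · by_cases hex : ∃ a, tw a = ξ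
    · obtain ⟨a, ha⟩ := hex
      have : Finite (G →* ℂˣ) := Finite.of_equiv _ (linEquiv G).symm
      refine le_trans ?_ (card_trivialOn_le I)
      rw [← Fintype.card_coe, ← Nat.card_eq_fintype_card]
      let toHom : {χ : Cfsg.IrrCharacter G // A χ} → (G →* ℂˣ) := fun b =>
        degOneHom (isCharacter_irr b.1) (hA _ b.2)
      refine Nat.card_le_card_of_injective (fun b => ⟨toHom b.1 * (toHom a)⁻¹, ?_⟩) ?_
      · refine trivial_on_inertia N hI ψ hres _ (hker _) fun g => ?_
        have hb : tw b.1 = ξ := (Finset.mem_filter.mp b.2).2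
        have h1 := congrFun (congrArg (fun t : {χ : Cfsg.IrrCharacter G // B χ} => (t.1 : G → ℂ))
          (hb.trans ha.symm)) g
        rw [MonoidHom.mul_apply, MonoidHom.inv_apply, Units.val_mul, ← hχ₀]
        have h2 : (toHom a g : ℂ) * ((toHom a g)⁻¹ : ℂˣ) = 1 := by
          rw [← Units.val_mul, mul_inv_cancel, Units.val_one]
        have h3 : (toHom b.1 g : ℂ) * (χ₀ : G → ℂ) g = (toHom a g : ℂ) * (χ₀ : G → ℂ) g := h1
        linear_combination ((toHom a g)⁻¹ : ℂˣ).val * h3 + (χ₀ : G → ℂ) g * h2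
      · intro b c hbc
        apply Subtype.ext
        apply Subtype.ext
        apply Subtype.ext
        funext g
        have := congrArg (fun t : {μ : G →* ℂˣ // ∀ t ∈ I, μ t = 1} => (t.1 g : ℂ)) hbc
        simp only [MonoidHom.mul_apply, MonoidHom.inv_apply, Units.val_mul] at this
        exact mul_right_cancel₀ (Units.ne_zero _) this
    · rw [Finset.card_eq_zero.mpr]
      · exact Nat.zero_le _
      · rw [Finset.filter_eq_empty_iff]
        exact fun a _ ha => hex ⟨a, ha⟩
  · simp [mul_comm]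

end Cfsg.Agent.Lib.Chars82.StableExtension
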