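import Mathlib
import Cfsg.Agent.Lib.BC78.Galois
import Cfsg.Agent.Lib.Characters.Complete

/-!
# The field generated by the values of all irreducible characters at one element

Galois automorphisms of the algebraic numbers fix that field exactly when the corresponding
power map sends the element to a conjugate.
-/

namespace Cfsg.Agent.Lib.Chars82.FieldOfValues

open Cfsg.Agent.Lib.BC78.Galois
open Cfsg.Agent.Lib.Characters

universe u

/-- `σ` fixes the complex number `z`, whenever it is algebraic. -/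
def Fixes (σ : Alg ≃ₐ[ℚ] Alg) (z : ℂ) : Prop := ∀ h : z ∈ Alg, ((σ ⟨z, h⟩ : Alg) : ℂ) = z

/-- An automorphism fixing a set pointwise fixes the field it generates. -/
theorem fixes_of_mem_adjoin {S : Set ℂ} (hS : S ⊆ Alg) {σ : Alg ≃ₐ[ℚ] Alg}
    (h : ∀ s ∈ S, Fixes σ s) {z : ℂ} (hz : z ∈ IntermediateField.adjoin ℚ S) : Fixes σ z := by
  let F : IntermediateField ℚ Alg := IntermediateField.fixedField (Subgroup.zpowers σ)
  have hle : IntermediateField.adjoin ℚ S ≤ F.map Alg.val := by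
    rw [IntermediateField.adjoin_le_iff]
    intro s hs
    refine ⟨⟨s, hS hs⟩, ?_, rfl⟩
    have h0 : σ ⟨s, hS hs⟩ = ⟨s, hS hs⟩ := Subtype.ext (h s hs (hS hs))
    intro τ
    obtain ⟨τ, hτ⟩ := τ
    have hst : σ ∈ MulAction.stabilizer (Alg ≃ₐ[ℚ] Alg) (⟨s, hS hs⟩ : Alg) := h0
    exact Subgroup.zpowers_le.2 hst hτ
  obtain ⟨y, hy, rfl⟩ := hle hz
  intro hm
  have h1 := hy ⟨σ, Subgroup.mem_zpowers σ⟩
  exact congrArg Subtype.val h1

/-- A number fixed by every automorphism fixing `T` lies in the field generated by `T`. -/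
theorem mem_adjoin_of_fixes {T : Set ℂ} (hT : T ⊆ Alg) {z : ℂ} (hz : z ∈ Alg)
    (h : ∀ σ : Alg ≃ₐ[ℚ] Alg, (∀ t ∈ T, Fixes σ t) → Fixes σ z) :
    z ∈ IntermediateField.adjoin ℚ T := by
  haveI : IsAlgClosure ℚ Alg := algebraicClosure.isAlgClosure ℚ ℂ
  haveI : IsGalois ℚ Alg := IsAlgClosure.isGalois ℚ Alg
  let E : IntermediateField ℚ Alg := (IntermediateField.adjoin ℚ T).comap Alg.val
  have h1 : (⟨z, hz⟩ : Alg) ∈ IntermediateField.fixedField E.fixingSubgroup := by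
    intro τ
    obtain ⟨τ, hτ⟩ := τ
    rw [IntermediateField.mem_fixingSubgroup_iff] at hτ
    refine Subtype.ext (h τ (fun t ht hm => ?_) hz)
    exact congrArg Subtype.val (hτ ⟨t, hm⟩ (IntermediateField.subset_adjoin ℚ T ht))
  rw [InfiniteGalois.fixedField_fixingSubgroup] at h1
  exact h1

/-- Two generated fields agree as soon as the same automorphisms fix the generators. -/
theorem adjoin_eq_of_fixes {S T : Set ℂ} (hS : S ⊆ Alg) (hT : T ⊆ Alg)
    (h : ∀ σ : Alg ≃ₐ[ℚ] Alg, (∀ s ∈ S, Fixes σ s) ↔ ∀ t ∈ T, Fixes σ t) :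
    IntermediateField.adjoin ℚ S = IntermediateField.adjoin ℚ T := by
  refine le_antisymm ?_ ?_ <;> rw [IntermediateField.adjoin_le_iff]
  · exact fun s hs => mem_adjoin_of_fixes hT (hS hs) fun σ hσ => (h σ).2 hσ s hs
  · exact fun t ht => mem_adjoin_of_fixes hS (hT ht) fun σ hσ => (h σ).1 hσ t ht

theorem fixes_of_adjoin_eq {S T : Set ℂ} (hS : S ⊆ Alg)
    (hE : IntermediateField.adjoin ℚ S = IntermediateField.adjoin ℚ T) {σ : Alg ≃ₐ[ℚ] Alg}
    (h : ∀ s ∈ S, Fixes σ s) {t : ℂ} (ht : t ∈ T) : Fixes σ t :=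
  fixes_of_mem_adjoin hS h (hE ▸ IntermediateField.subset_adjoin ℚ T ht)

theorem mem_alg_of_pow_eq_one {z : ℂ} {m : ℕ} (hm : 0 < m) (h : z ^ m = 1) : z ∈ Alg :=
  mem_alg_of_isIntegral (IsIntegral.of_pow hm (by rw [h]; exact isIntegral_one))

/-- Any primitive root of unity is moved to any other one of the same order. -/
theorem exists_aut_pow {m k : ℕ} (hm : 0 < m) (hk : k.Coprime m) {ζ : ℂ}
    (hζ : IsPrimitiveRoot ζ m) (hζA : ζ ∈ Alg) :
    ∃ σ : Alg ≃ₐ[ℚ] Alg, ((σ ⟨ζ, hζA⟩ : Alg) : ℂ) = ζ ^ k := by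
  haveI : IsAlgClosure ℚ Alg := algebraicClosure.isAlgClosure ℚ ℂ
  haveI : IsGalois ℚ Alg := IsAlgClosure.isGalois ℚ Alg
  have h1 : IsPrimitiveRoot (⟨ζ, hζA⟩ : Alg) m :=
    IsPrimitiveRoot.of_map_of_injective (f := Alg.val) hζ Subtype.val_injective
  have h2 : IsPrimitiveRoot ((⟨ζ, hζA⟩ : Alg) ^ k) m := h1.pow_of_coprime k hk
  have hmp : minpoly ℚ (⟨ζ, hζA⟩ : Alg) = minpoly ℚ ((⟨ζ, hζA⟩ : Alg) ^ k) := by
    rw [← Polynomial.cyclotomic_eq_minpoly_rat h1 hm, ← Polynomial.cyclotomic_eq_minpoly_rat h2 hm]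
  obtain ⟨σ, hσ⟩ := minpoly.exists_algEquiv_of_root'
    (Algebra.IsAlgebraic.isAlgebraic (⟨ζ, hζA⟩ : Alg))
    (show Polynomial.aeval ((⟨ζ, hζA⟩ : Alg) ^ k) (minpoly ℚ (⟨ζ, hζA⟩ : Alg)) = 0 by
      rw [hmp]; exact minpoly.aeval _ _)
  exact ⟨σ, by rw [hσ]; push_cast; rfl⟩

variable {G : Type u} [Group G] [Finite G]

/-- The values of the irreducible characters at `g`. -/
def valueSet (g : G) : Set ℂ := {z : ℂ | ∃ χ : Cfsg.IrrCharacter G, (χ : G → ℂ) g = z}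

theorem valueSet_subset (g : G) : valueSet g ⊆ (Alg : Set ℂ) := by
  rintro _ ⟨χ, rfl⟩
  exact mem_alg_of_isIntegral (Basic.isIntegral_apply (Basic.isCharacter_irr χ) g)

/-- An automorphism fixes all values at `g` exactly when its power map keeps `g` in its class. -/
theorem exists_exponent_fixes (σ : Alg ≃ₐ[ℚ] Alg) :
    ∃ j : ℕ, j.Coprime (Nat.card G) ∧
      (∀ (z : ℂ) (_ : z ^ Nat.card G = 1) (hm : z ∈ Alg), ((σ ⟨z, hm⟩ : Alg) : ℂ) = z ^ j) ∧
      ∀ g : G, (∀ z ∈ valueSet g, Fixes σ z) ↔ IsConj (g ^ j) g := by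
  obtain ⟨k, hk, hσ⟩ := exists_exponent_char (G := G) σ
  obtain ⟨j, hj, hζ⟩ := exists_exponent σ (n := Nat.card G) Nat.card_pos.ne'
  -- both exponents act in the same way on characters
  have hchar : ∀ (χ : Cfsg.IrrCharacter G) (g : G) (hm : (χ : G → ℂ) g ∈ Alg),
      ((σ ⟨(χ : G → ℂ) g, hm⟩ : Alg) : ℂ) = (χ : G → ℂ) (g ^ j) := by
    intro χ g hm
    obtain ⟨n, ρ, hρ⟩ := Basic.isCharacter_irr χ
    obtain ⟨ι, hι, b, ξ, hb, -, hchar⟩ := Diag.exists_eigenbasis_card ρ g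
    have hmem : ∀ i, ξ i ∈ Alg := fun i => mem_alg_of_pow_eq_one Nat.card_pos (hb i).2
    have h1 : (⟨(χ : G → ℂ) g, hm⟩ : Alg) = ∑ i, (⟨ξ i, hmem i⟩ : Alg) := by
      apply Subtype.ext
      push_cast
      rw [← hρ]
      exact hchar
    have h2 : ∀ (e : ℕ) i, (ρ (g ^ e)) (b i) = ξ i ^ e • b i := by
      intro e i
      rw [map_pow]
      induction e with
      | zero => simp
      | succ e ih =>
        rw [pow_succ, Module.End.mul_apply, (hb i).1, map_smul, ih, smul_smul, pow_succ']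
    rw [h1, map_sum, ← hρ]
    push_cast
    rw [show ρ.character (g ^ j) = ∑ i, ξ i ^ j from
      Diag.trace_eq_sum_eigenvalues b _ _ (h2 j)]
    exact Finset.sum_congr rfl fun i _ => hζ _ (hb i).2 (hmem i)
  refine ⟨j, hj, hζ, fun g => ?_⟩
  rw [Complete.isConj_iff_forall_irr]
  constructor
  · intro h χ
    rw [← hchar χ g (valueSet_subset g ⟨χ, rfl⟩)]
    exact h _ ⟨χ, rfl⟩ _
  · rintro h _ ⟨χ, rfl⟩ hm
    rw [hchar χ g hm, h χ]

end Cfsg.Agent.Lib.Chars82.FieldOfValues
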