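import Cfsg.Agent.Lib.BrauerMap.PKernel
import Cfsg.Agent.Lib.BrauerMap.Nilpotent
import Cfsg.Agent.Lib.PSolvable.HallHigman
import Cfsg.Agent.Lib.PGroups.Frattini
import Cfsg.Agent.Lib.Coprime.Conjugacy
import Cfsg.Agent.Lib.Clifford.Basic
import Cfsg.Agent.Lib.Characters.Linear
import Cfsg.Agent.Lib.Cores.Basic
import Cfsg.Prelude.Def_Blocks

/-!
# The principal block of a p-solvable group, and normal p-subgroups below all maximal subgroups

* a group with a self-centralising normal `p`-subgroup has one `p`-block;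
* in a `p`-solvable group every character trivial on `O_{p'}` is in the principal block;
* a subgroup of a Sylow subgroup outside its derived group is seen by a character of `p'`-degree;
* a normal `p`-subgroup inside a Sylow derived group lies in every maximal subgroup, and then a
  coprime layer over it splits off a normal subgroup.
-/

namespace Cfsg.Agent.Lib.Chars82.ConstrainedBlock

open Cfsg.Agent.Lib.BrauerMap.Basic Cfsg.Agent.Lib.BrauerMap.ClassSum
open Cfsg.Agent.Lib.BrauerMap.Inflation Cfsg.Agent.Lib.Blocks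
open Cfsg.Agent.Lib.Characters Cfsg.Agent.Lib.Clifford.Basic

universe u

variable {G : Type u} [Group G] [Finite G] {p : ℕ} [Fact p.Prime]

/-- A self-centralising normal `p`-subgroup leaves a single block. -/
theorem sameBlock_of_centralizer_le {M : Ideal Cfsg.AlgInt} (hM : Cfsg.IsPModular p M)
    (U : Subgroup G) [U.Normal] (hU : IsPGroup p U)
    (hC : Subgroup.centralizer (U : Set G) ≤ U) (χ ψ : Cfsg.IrrCharacter G) :
    Cfsg.SameBlock M (χ : G → ℂ) (ψ : G → ℂ) := by
  classical
  haveI := hM.2.1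
  letI := Ideal.Quotient.field M
  haveI := charP_residue hM
  letI := Fintype.ofFinite G
  rw [sameBlock_iff_omegaBar]
  refine algHom_ext fun h => ?_
  by_cases hh : h ∈ Subgroup.centralizer (U : Set G)
  · let f := QuotientGroup.mk' U
    have hf : Function.Surjective f := QuotientGroup.mk'_surjective U
    have hker : IsPGroup p f.ker := by rw [QuotientGroup.ker_mk']; exact hU
    have hcls : ∀ g, IsConj h g → f g = 1 := fun g hg => by
      obtain ⟨c, rfl⟩ := isConj_iff.1 hg
      exact (QuotientGroup.eq_one_iff _).2 (Subgroup.Normal.conj_mem inferInstance h (hC hh) c)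
    set n : Cfsg.AlgInt ⧸ M :=
      (((Finset.univ.filter fun g : G => IsConj h g).card : ℕ) : Cfsg.AlgInt ⧸ M) with hn
    have hpush : pushC (Cfsg.AlgInt ⧸ M) f hf (classSumC (Cfsg.AlgInt ⧸ M) h) =
        pushC (Cfsg.AlgInt ⧸ M) f hf (algebraMap _ _ n) := by
      rw [AlgHom.commutes]
      refine Subtype.ext (MonoidAlgebra.ext (Finsupp.ext fun x => ?_))
      rw [coe_pushC]
      show (push _ f (classSum _ h)).coeff x = _
      rw [coeff_push]
      by_cases hx : x = 1
      · subst hx
        refine Eq.trans (b := n) ?_ (by simp)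
        rw [hn, Finset.card_filter, Nat.cast_sum]
        refine Finset.sum_congr rfl fun g _ => ?_
        rw [coeff_classSum]
        by_cases hg : IsConj h g
        · rw [if_pos hg, if_pos hg, if_pos (hcls g hg), Nat.cast_one]
        · rw [if_neg hg, if_neg hg, ite_self, Nat.cast_zero]
      · rw [Finset.sum_eq_zero]
        · simp [hx]
        intro g _
        rw [coeff_classSum]
        by_cases hg : IsConj h g
        · rw [if_neg]
          rw [hcls g hg]
          exact Ne.symm hx
        · rw [if_neg hg, ite_self]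
    rw [Cfsg.Agent.Lib.BrauerMap.PKernel.algHom_eq_of_pushC_eq f hf hker (omegaBar M χ) hpush,
      Cfsg.Agent.Lib.BrauerMap.PKernel.algHom_eq_of_pushC_eq f hf hker (omegaBar M ψ) hpush,
      AlgHom.commutes, AlgHom.commutes]
  · rw [Cfsg.Agent.Lib.BrauerMap.Nilpotent.algHom_classSum_eq_zero hU hh,
      Cfsg.Agent.Lib.BrauerMap.Nilpotent.algHom_classSum_eq_zero hU hh]

/-- In a `p`-solvable group the principal block contains every character trivial on `O_{p'}`. -/
theorem mem_principalBlock_of_trivialOn {M : Ideal Cfsg.AlgInt} (hM : Cfsg.IsPModular p M)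
    (hs : Cfsg.IsPSolvable p G) {χ : Cfsg.IrrCharacter G}
    (hχ : ∀ g ∈ Cfsg.pPrimeCore p G, (χ : G → ℂ) g = (χ : G → ℂ) 1) :
    χ ∈ Cfsg.principalBlock M G := by
  haveI := hM.2.1
  let f := QuotientGroup.mk' (Cfsg.pPrimeCore p G)
  have hf : Function.Surjective f := QuotientGroup.mk'_surjective _
  obtain ⟨φ, rfl⟩ := exists_infl f hf χ fun g hg => hχ g ((QuotientGroup.eq_one_iff g).1 hg)
  have hbot : Cfsg.pPrimeCore p (G ⧸ Cfsg.pPrimeCore p G) = ⊥ :=
    Cfsg.Agent.Lib.PSolvable.pPrimeCore_quotient_eq_bot _ rfl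
  have hC : Subgroup.centralizer (Cfsg.pCore p (G ⧸ Cfsg.pPrimeCore p G) : Set _) ≤
      Cfsg.pCore p (G ⧸ Cfsg.pPrimeCore p G) :=
    Cfsg.Agent.Lib.PSolvable.centralizer_pCore_le
      (Cfsg.Agent.Lib.PSolvable.isPSolvable_quotient hs _) hbot
  have h := sameBlock_infl f hf (sameBlock_of_centralizer_le hM _
    (Cfsg.Agent.Lib.Cores.pCore_isPGroup p) hC (Basic.oneChar _) φ)
  exact h

/-- A subgroup of a Sylow subgroup outside its derived group is seen by a character of degree
prime to `p`. -/
theorem exists_degree_not_dvd_nontrivial (P : Sylow p G) {U : Subgroup G}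
    (hUP : U ≤ P) (hU : ¬ U ≤ (commutator (P : Subgroup G)).map (P : Subgroup G).subtype) :
    ∃ χ : Cfsg.IrrCharacter G, ¬ p ∣ Cfsg.charDegree (χ : G → ℂ) ∧
      ∃ u ∈ U, (χ : G → ℂ) u ≠ (χ : G → ℂ) 1 := by
  classical
  letI := Fintype.ofFinite G
  letI := Fintype.ofFinite (P : Subgroup G)
  letI := Fintype.ofFinite U
  obtain ⟨u, hu, hu'⟩ := SetLike.not_le_iff_exists.1 hU
  have hne : Abelianization.of (⟨u, hUP hu⟩ : (P : Subgroup G)) ≠ 1 := fun h => hu'
    ⟨⟨u, hUP hu⟩, (QuotientGroup.eq_one_iff _).1 h, rfl⟩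
  obtain ⟨lam, hlam⟩ :=
    CommGroup.exists_apply_ne_one_of_hasEnoughRootsOfUnity (Abelianization (P : Subgroup G)) ℂ hne
  let θ : Cfsg.IrrCharacter (P : Subgroup G) := Linear.linChar (lam.comp Abelianization.of)
  have hind := Cfsg.Agent.Lib.Induced.Character.isCharacter_indFun (P : Subgroup G)
    (Basic.isCharacter_irr θ)
  haveI := Fintype.ofFinite (Cfsg.IrrCharacter G)
  choose m hm using fun χ : Cfsg.IrrCharacter G =>
    Basic.exists_classInner_nat hind (Basic.isCharacter_irr χ)
  choose d hd using fun χ : Cfsg.IrrCharacter G => Basic.exists_degree (Basic.isCharacter_irr χ)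
  have hsum : (P : Subgroup G).index = ∑ χ : Cfsg.IrrCharacter G, m χ * d χ := by
    have h1 := congrFun (Basic.character_eq_finsum hind) 1
    rw [finsum_eq_sum_of_fintype, Finset.sum_apply, Cfsg.Agent.Lib.Induced.Basic.indFun_one,
      show (θ : ↥(P : Subgroup G) → ℂ) 1 = 1 by simp [θ, Linear.linChar_apply], mul_one] at h1
    simp only [Pi.smul_apply, smul_eq_mul, hm, hd] at h1
    exact_mod_cast h1
  obtain ⟨χ, hχ⟩ : ∃ χ, ¬ p ∣ m χ * d χ := by
    by_contra hcon
    push Not at hcon
    exact P.not_dvd_index (hsum ▸ Finset.dvd_sum fun χ _ => hcon χ)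
  refine ⟨χ, ?_, ?_⟩
  · rw [Cfsg.charDegree, hd, Complex.natCast_re, Nat.floor_natCast]
    exact fun h => hχ (h.mul_left _)
  · by_contra hcon
    push Not at hcon
    have h1 : Cfsg.classInner ((χ : G → ℂ) ∘ (P : Subgroup G).subtype) (θ : _ → ℂ) ≠ 0 := by
      have h2 := hm χ
      rw [Cfsg.Agent.Lib.Induced.Basic.frobenius_reciprocity _ _
        (Basic.isClassFunction_irr χ)] at h2
      refine classInner_ne_zero_symm (show Cfsg.classInner (θ : _ → ℂ)
        (fun x : (P : Subgroup G) => (χ : G → ℂ) x) ≠ 0 from ?_)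
      rw [h2]
      exact Nat.cast_ne_zero.2 fun h0 => hχ (by rw [h0, zero_mul]; exact dvd_zero p)
    let θU : Cfsg.IrrCharacter U :=
      Linear.linChar ((lam.comp Abelianization.of).comp (Subgroup.inclusion hUP))
    have h3 : Cfsg.classInner ((θ : ↥(P : Subgroup G) → ℂ) ∘ Subgroup.inclusion hUP) θU ≠ 0 := by
      rw [show (θ : ↥(P : Subgroup G) → ℂ) ∘ Subgroup.inclusion hUP = (θU : U → ℂ) from rfl,
        Basic.classInner_self_irr]
      exact one_ne_zero
    have h4 := classInner_comp_ne_zero (Subgroup.inclusion hUP)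
      (Basic.isCharacter_comp (P : Subgroup G).subtype (Basic.isCharacter_irr χ)) h1 h3
    apply h4
    rw [show ((χ : G → ℂ) ∘ (P : Subgroup G).subtype) ∘ Subgroup.inclusion hUP =
      (χ : G → ℂ) 1 • ((Basic.oneChar U : Cfsg.IrrCharacter U) : U → ℂ) from funext fun x => by
        rw [Pi.smul_apply, Basic.oneChar_apply, smul_eq_mul, mul_one]; exact hcon x x.2,
      Cfsg.Agent.Lib.Induced.Basic.classInner_smul_left, Basic.classInner_irr_of_ne, mul_zero]
    intro heq
    apply hlam
    have h5 := congrFun (congrArg Subtype.val heq) ⟨u, hu⟩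
    exact Units.ext h5.symm

omit [Finite G] in
/-- A normal `p`-subgroup inside the derived group of a Sylow subgroup lies in every maximal
subgroup. -/
theorem le_coatom_of_le_commutator [Finite G] (P : Sylow p G) {U : Subgroup G} [U.Normal]
    (hU : U ≤ (commutator (P : Subgroup G)).map (P : Subgroup G).subtype)
    {W : Subgroup G} (hW : IsCoatom W) : U ≤ W := by
  by_contra hUW
  have htop : W ⊔ U = ⊤ := hW.2 _ (lt_of_le_of_ne le_sup_left fun h => hUW (h ▸ le_sup_right))
  have hUP : U ≤ (P : Subgroup G) := hU.trans (Subgroup.map_subtype_le _)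
  have hK : (W.subgroupOf (P : Subgroup G)) ⊔ frattini (P : Subgroup G) = ⊤ := by
    rw [eq_top_iff]
    intro x _
    obtain ⟨w, hw, v, hv, hx⟩ := Subgroup.mem_sup_of_normal_right.1
      (htop ▸ Subgroup.mem_top (x : G))
    have hwP : w ∈ (P : Subgroup G) := by
      rw [show w = (x : G) * v⁻¹ by rw [← hx, mul_inv_cancel_right]]
      exact mul_mem x.2 (inv_mem (hUP hv))
    rw [show x = ⟨w, hwP⟩ * ⟨v, hUP hv⟩ from Subtype.ext hx.symm]
    refine Subgroup.mul_mem_sup hw (Cfsg.Agent.Lib.PGroups.commutator_le_frattini P.2 ?_)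
    obtain ⟨y, hy, hyv⟩ := hU hv
    rw [show (⟨v, hUP hv⟩ : (P : Subgroup G)) = y from Subtype.ext hyv.symm]
    exact hy
  exact hUW (hUP.trans (Subgroup.subgroupOf_eq_top.1 (frattini_nongenerating hK)))

omit [Fact p.Prime] in
/-- The Frattini argument for a coprime complement inside a normal subgroup. -/
theorem exists_sup_normalizer_complement {U R : Subgroup G} [U.Normal] [R.Normal] (hUR : U ≤ R)
    (hsolv : Group.IsSolvable U) (hcop : (Nat.card U).Coprime (U.relIndex R)) :
    ∃ R₁ : Subgroup G, R₁ ≤ R ∧ U ⊔ R₁ = R ∧ Nat.card R₁ = U.relIndex R ∧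
      U ⊔ Subgroup.normalizer (R₁ : Set G) = ⊤ := by
  classical
  set U' : Subgroup R := U.subgroupOf R with hU'def
  have hcardU : Nat.card U' = Nat.card U :=
    Nat.card_congr (Subgroup.subgroupOfEquivOfLe hUR).toEquiv
  have hcop' : (Nat.card U').Coprime U'.index := hcardU ▸ hcop
  obtain ⟨K, hK⟩ := Subgroup.exists_right_complement'_of_coprime hcop'
  set R₁ : Subgroup G := K.map R.subtype with hR₁
  have hR₁R : R₁ ≤ R := Subgroup.map_subtype_le _
  have hsolv' : Group.IsSolvable U' :=
    Group.isSolvable_of_isSolvable_injective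
      (f := (Subgroup.subgroupOfEquivOfLe hUR).toMonoidHom)
      (Subgroup.subgroupOfEquivOfLe hUR).injective
  refine ⟨R₁, hR₁R, ?_, ?_, ?_⟩
  · rw [← Subgroup.map_subgroupOf_eq_of_le hUR, hR₁, ← Subgroup.map_sup, hK.sup_eq_top,
      ← MonoidHom.range_eq_map, Subgroup.range_subtype]
  · rw [hR₁, Subgroup.card_map_of_injective R.subtype_injective, ← hK.symm.index_eq_card]
    rfl
  · rw [eq_top_iff]
    intro g _
    let α : R ≃* R := MulAut.conjNormal g
    have hK' : Subgroup.IsComplement' U' (K.map α.toMonoidHom) := by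
      have hmap : U'.map α.toMonoidHom = U' := by
        ext x
        constructor
        · rintro ⟨y, hy, rfl⟩
          exact Subgroup.Normal.conj_mem (inferInstance : U.Normal) _ hy g
        · intro hx
          refine ⟨α.symm x, ?_, α.apply_symm_apply x⟩
          have := Subgroup.Normal.conj_mem (inferInstance : U.Normal) _ hx g⁻¹
          simpa [α, hU'def, Subgroup.mem_subgroupOf] using this
      refine Subgroup.isComplement'_of_disjoint_and_mul_eq_univ ?_ ?_
      · rw [← hmap, disjoint_iff,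
          ← Subgroup.map_inf _ _ α.toMonoidHom α.injective, hK.disjoint.eq_bot, Subgroup.map_bot]
      · rw [← Subgroup.normal_mul, ← hmap, ← Subgroup.map_sup, hK.sup_eq_top,
          Subgroup.map_top_of_surjective α.toMonoidHom α.surjective, Subgroup.coe_top]
    obtain ⟨v, hv, hconj⟩ := Cfsg.Agent.Lib.Coprime.exists_conj_eq_of_isComplement' hcop'
      (Or.inl hsolv') hK hK'
    have hmem : ∀ x : R, x ∈ K ↔ v * x * v⁻¹ ∈ K.map α.toMonoidHom := by
      intro x
      rw [← hconj, Cfsg.Agent.Lib.Coprime.mem_conj_smul]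
      constructor <;> intro h <;> simpa [mul_assoc] using h
    have hn : (v : G)⁻¹ * g ∈ Subgroup.normalizer (R₁ : Set G) := by
      set w := (v : G)⁻¹ * g with hw
      have hfwd : ∀ y ∈ R₁, w * y * w⁻¹ ∈ R₁ := by
        rintro _ ⟨z, hz, rfl⟩
        have hx := (hmem (v⁻¹ * α z * v)).2 (by
          rw [show v * (v⁻¹ * α z * v) * v⁻¹ = α z by group]
          exact ⟨z, hz, rfl⟩)
        refine ⟨_, hx, ?_⟩
        show ((v⁻¹ * α z * v : R) : G) = w * (z : G) * w⁻¹
        rw [Subgroup.coe_mul, Subgroup.coe_mul, Subgroup.coe_inv, hw]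
        show (v : G)⁻¹ * (g * (z : G) * g⁻¹) * (v : G) = _
        group
      have hmap : R₁.map (MulAut.conj w).toMonoidHom = R₁ := by
        refine Subgroup.eq_of_le_of_card_ge ?_ (Subgroup.card_map_of_injective
          (MulAut.conj w).injective).ge
        rintro _ ⟨y, hy, rfl⟩
        exact hfwd y hy
      rw [Subgroup.mem_normalizer_iff]
      intro y
      refine ⟨hfwd y, fun hy => ?_⟩
      obtain ⟨y', hy', he⟩ := hmap.symm.le hy
      have : y' = y := (MulAut.conj w).injective he
      rwa [← this]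
    have : g = (v : G) * ((v : G)⁻¹ * g) := by group
    rw [this]
    exact Subgroup.mul_mem_sup hv hn

omit [Fact p.Prime] in
/-- Over a normal subgroup contained in every maximal subgroup, a coprime nilpotent-kernel layer
splits off a normal subgroup. -/
theorem exists_normal_complement {U R : Subgroup G} [U.Normal] [R.Normal] (hUR : U ≤ R)
    (hmax : ∀ W : Subgroup G, IsCoatom W → U ≤ W) (hsolv : Group.IsSolvable U)
    (hcop : (Nat.card U).Coprime (U.relIndex R)) :
    ∃ R₁ : Subgroup G, R₁.Normal ∧ U ⊔ R₁ = R ∧ Nat.card R₁ = U.relIndex R := by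
  obtain ⟨R₁, -, hsup, hcard, hN⟩ := exists_sup_normalizer_complement hUR hsolv hcop
  refine ⟨R₁, Subgroup.normalizer_eq_top_iff.1 ?_, hsup, hcard⟩
  rcases eq_top_or_exists_le_coatom (Subgroup.normalizer (R₁ : Set G)) with h | ⟨W, hW, hle⟩
  · exact h
  · exact absurd (top_le_iff.1 (hN ▸ sup_le (hmax W hW) hle)) hW.1

end Cfsg.Agent.Lib.Chars82.ConstrainedBlock
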