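import Cfsg.Agent.Lib.Characters.Complete

/-!
# Convolution of an irreducible character with itself; the commutator count
-/

namespace Cfsg.Agent.Lib.Chars82.Convolution

open Module Representation
open scoped ComplexConjugate
open Cfsg.Agent.Lib.Induced.Basic Cfsg.Agent.Lib.Characters.Basic
open Cfsg.Agent.Lib.Characters.Complete

universe u

variable {G : Type u} [Group G]

/-- `∑ χ(g) χ(g⁻¹ z) = |G| χ(z) / χ(1)`. -/
theorem sum_apply_mul [Fintype G] (χ : Cfsg.IrrCharacter G) (z : G) :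
    ∑ g : G, (χ : G → ℂ) g * (χ : G → ℂ) (g⁻¹ * z) =
      (Nat.card G : ℂ) * (χ : G → ℂ) z / (χ : G → ℂ) 1 := by
  obtain ⟨n, ρ, hρ, h⟩ := exists_rep χ
  obtain ⟨c, hc, hc'⟩ := avg_eq_scalar (isClassFunction_irr χ) ρ
  have h1 : c * (χ : G → ℂ) 1 = (Nat.card G : ℂ) := by
    have hs := classInner_self_irr χ
    rw [Cfsg.classInner, inv_mul_eq_iff_eq_mul₀ natCard_ne_zero, mul_one] at hs
    rw [← hs, ← h, char_one, hc', h]
  have h2 := congrArg (fun f => LinearMap.trace ℂ _ (f * ρ z)) hc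
  simp only [avg, Finset.sum_mul, smul_mul_assoc, one_mul, ← map_mul, map_sum, map_smul,
    smul_eq_mul] at h2
  rw [eq_div_iff (apply_one_ne_zero χ), ← h1]
  have h3 : ∑ g : G, (χ : G → ℂ) g * (χ : G → ℂ) (g⁻¹ * z) = c * (χ : G → ℂ) z := by
    rw [← h] at h2 ⊢
    exact h2
  rw [h3]
  ring

theorem card_conj_eq [Finite G] (a b : G) [Decidable (IsConj a b)] :
    Nat.card {y : G // y * a * y⁻¹ = b} =
      if IsConj a b then Nat.card (Subgroup.centralizer ({a} : Set G)) else 0 := by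
  split_ifs with hab
  · obtain ⟨c, rfl⟩ := isConj_iff.mp hab
    refine Nat.card_congr
      { toFun := fun y => ⟨c⁻¹ * y, ?_⟩
        invFun := fun y => ⟨c * y, ?_⟩
        left_inv := fun y => Subtype.ext (mul_inv_cancel_left c y.1)
        right_inv := fun y => Subtype.ext (inv_mul_cancel_left c y.1) }
    · rw [Subgroup.mem_centralizer_singleton_iff]
      have hy := y.2
      calc c⁻¹ * y.1 * a = c⁻¹ * (y.1 * a * (y.1)⁻¹) * y.1 := by group
        _ = a * (c⁻¹ * y.1) := by rw [hy]; group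
    · have hy := Subgroup.mem_centralizer_singleton_iff.mp y.2
      calc c * y.1 * a * (c * y.1)⁻¹ = c * (y.1 * a) * (y.1)⁻¹ * c⁻¹ := by group
        _ = c * a * c⁻¹ := by rw [hy]; group
  · have : IsEmpty {y : G // y * a * y⁻¹ = b} := ⟨fun y => hab (isConj_iff.mpr ⟨y.1, y.2⟩)⟩
    exact Nat.card_of_isEmpty

/-- Number of pairs with a given commutator. -/
theorem card_commutator_eq [Finite G] (z : G) :
    (Nat.card {xy : G × G // xy.1 * xy.2 * xy.1⁻¹ * xy.2⁻¹ = z} : ℂ) =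
      (Nat.card G : ℂ) * ∑ᶠ χ : Cfsg.IrrCharacter G, (χ : G → ℂ) z / (χ : G → ℂ) 1 := by
  classical
  have := Fintype.ofFinite G
  have := Fintype.ofFinite (Cfsg.IrrCharacter G)
  have e : {xy : G × G // xy.1 * xy.2 * xy.1⁻¹ * xy.2⁻¹ = z} ≃
      Σ x : G, {w : G // w * (x⁻¹ * z) * w⁻¹ = x⁻¹} :=
    { toFun := fun p => ⟨p.1.1, p.1.2⁻¹, by
        have h := p.2
        calc p.1.2⁻¹ * (p.1.1⁻¹ * z) * p.1.2⁻¹⁻¹ = p.1.2⁻¹ * (p.1.1⁻¹ *
              (p.1.1 * p.1.2 * p.1.1⁻¹ * p.1.2⁻¹)) * p.1.2⁻¹⁻¹ := by rw [h]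
          _ = p.1.1⁻¹ := by group⟩
      invFun := fun p => ⟨(p.1, p.2.1⁻¹), by
        have h := p.2.2
        calc p.1 * p.2.1⁻¹ * p.1⁻¹ * p.2.1⁻¹⁻¹
            = p.1 * p.2.1⁻¹ * (p.2.1 * (p.1⁻¹ * z) * p.2.1⁻¹) * p.2.1⁻¹⁻¹ := by rw [h]
          _ = z := by group⟩
      left_inv := fun p => by
        obtain ⟨⟨a, b⟩, h⟩ := p
        exact Subtype.ext (Prod.ext rfl (inv_inv b))
      right_inv := fun p => by
        obtain ⟨a, w, h⟩ := p
        exact Sigma.ext rfl (heq_of_eq (Subtype.ext (inv_inv w))) }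
  rw [Nat.card_congr e, Nat.card_sigma, Nat.cast_sum, finsum_eq_sum_of_fintype, Finset.mul_sum]
  have hterm : ∀ x : G, (Nat.card {w : G // w * (x⁻¹ * z) * w⁻¹ = x⁻¹} : ℂ) =
      ∑ χ : Cfsg.IrrCharacter G, (χ : G → ℂ) x * (χ : G → ℂ) (x⁻¹ * z) := by
    intro x
    rw [card_conj_eq, Nat.cast_ite, Nat.cast_zero, ← sum_irr_mul_conj]
    refine Finset.sum_congr rfl fun χ _ => ?_
    rw [← apply_inv (isCharacter_irr χ), inv_inv, mul_comm]
  rw [Finset.sum_congr rfl fun x _ => hterm x, Finset.sum_comm]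
  refine Finset.sum_congr rfl fun χ _ => ?_
  rw [sum_apply_mul χ z, mul_div_assoc]

end Cfsg.Agent.Lib.Chars82.Convolution
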