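import Cfsg.Agent.Lib.RelGlauberman.Main
import Cfsg.Agent.Lib.Glauberman.Solvable
import Cfsg.Agent.Lib.Coprime.Action
import Cfsg.Agent.Lib.Elem70.Basic
import Cfsg.Agent.Lib.PSolvable.Basic
import Cfsg.Agent.Lib.Cores.Basic
import Cfsg.Prelude.Def_Blocks

/-!
# Invariant characters of degree prime to `q` under coprime action

A relative form of the Ito-Michler theorem for `q`-solvable groups: let a `p`-group act on a
`p'`-group with a fixed Sylow `q`-subgroup `Q`. If all invariant irreducible characters have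
degree prime to `q`, then the fixed points normalise `Q`.
-/

set_option autoImplicit false

namespace Cfsg.Agent.Lib.Chars82.CoprimeQDegree

open Cfsg.Agent.Lib.Characters Cfsg.Agent.Lib.RelGlauberman
open Cfsg.Agent.Lib.Clifford.Basic
open Cfsg.Agent.Lib.Glauberman (Inv IsFix fixSub mult)

universe u v

/-- All irreducible characters invariant under a coprime solvable group force a trivial action. -/
theorem act_eq_of_forall_inv {X : Type u} [Group X] [Finite X] {S : Type v} [Group S] [Finite S]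
    [Group.IsSolvable S] (act : S →* MulAut X) (hcop : (Nat.card X).Coprime (Nat.card S))
    (h : ∀ γ : Cfsg.IrrCharacter X, Inv act (γ : X → ℂ)) (s : S) (x : X) : act s x = x := by
  let E : Subgroup X := fixSub act ⊤
  have hE : IsFix act E.subtype := by
    refine ⟨E.subtype_injective, fun g => ?_⟩
    rw [Subgroup.range_subtype]
    exact ⟨fun hg t => hg t (Subgroup.mem_top t), fun hg t _ => hg t⟩
  have htop : E = ⊤ := Cfsg.Agent.Lib.Elem70.eq_top_of_forall_conj E fun g => by
    obtain ⟨c, hc⟩ := Glauberman.exists_fix_of_inv_class hE hcop g fun t =>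
      (Complete.isConj_iff_forall_irr _ _).2 fun γ => (h γ t g).symm
    obtain ⟨d, hd⟩ := isConj_iff.1 hc
    exact ⟨d⁻¹, by rw [inv_inv, hd]; exact c.2⟩
  exact (htop ▸ Subgroup.mem_top x : x ∈ E) s (Subgroup.mem_top s)

theorem normalizes_aux (p q : ℕ) [Fact p.Prime] [Fact q.Prime] :
    ∀ (n : ℕ) {R : Type u} [Group R] [Finite R] {S : Type v} [Group S] [Finite S]
    (act : S →* MulAut R), Nat.card R ≤ n → IsPGroup p S → ¬ p ∣ Nat.card R →
    Cfsg.IsPSolvable q R → ∀ Q : Sylow q R, (∀ s, ∀ x ∈ (Q : Subgroup R), act s x = x) →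
    (∀ θ : Cfsg.IrrCharacter R, Inv act (θ : R → ℂ) →
      ¬ q ∣ Cfsg.charDegree (θ : R → ℂ)) →
    ∀ c : R, (∀ s, act s c = c) → ∀ x ∈ (Q : Subgroup R), c * x * c⁻¹ ∈ (Q : Subgroup R) := by
  intro n
  induction n with
  | zero => intro R _ _ _ _ _ _ hn; exact absurd hn (by have := Nat.card_pos (α := R); omega)
  | succ n ih =>
  intro R _ _ S _ _ act hn hS hpR hq Q hQfix hdeg c hc
  classical
  have hpp : p.Prime := Fact.out
  have hqq : q.Prime := Fact.out
  haveI : Group.IsSolvable S := by haveI := hS.isNilpotent; infer_instance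
  letI := Fintype.ofFinite R
  have hcopS : ∀ {m : ℕ}, m ∣ Nat.card R → (Nat.card S).Coprime m := fun {m} hm => by
    obtain ⟨k, hk⟩ := IsPGroup.iff_card.1 hS
    rw [hk]
    exact Nat.Coprime.pow_left k (hpp.coprime_iff_not_dvd.2 fun h => hpR (h.trans hm))
  by_cases hone : Nat.card R = 1
  · intro x _
    have := (Nat.card_eq_one_iff_unique.1 hone).1
    rw [Subsingleton.elim (c * x * c⁻¹) 1]
    exact one_mem _
  -- a characteristic layer
  obtain ⟨N, hNc, hNne, hNq⟩ : ∃ N : Subgroup R, N.Characteristic ∧ N ≠ ⊥ ∧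
      (IsPGroup q N ∨ (Nat.card N).Coprime q) := by
    obtain ⟨M, hM, hlt, hnum⟩ := PSolvable.exists_step hq ⊥ (fun h => hone (by
      rw [← Subgroup.card_top (G := R), ← h, Subgroup.card_bot]))
    haveI := hM
    rw [Subgroup.relIndex_bot_left] at hnum
    rcases hnum with ⟨k, hk⟩ | hk
    · refine ⟨_, Cores.pCore_characteristic q, fun h => hlt.ne' (le_bot_iff.1 ?_),
        Or.inl (Cores.pCore_isPGroup q)⟩
      rw [← h]
      exact Cores.le_pCore (IsPGroup.of_card hk)
    · refine ⟨_, Cores.pPrimeCore_characteristic q, fun h => hlt.ne' (le_bot_iff.1 ?_),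
        Or.inr (Cores.pPrimeCore_coprime q)⟩
      rw [← h]
      exact Cores.le_pPrimeCore hk
  haveI := hNc
  have hNa : ∀ s, ∀ x ∈ N, act s x ∈ N := fun s x hx =>
    (Subgroup.characteristic_iff_map_eq.1 hNc (act s)).le ⟨x, hx, rfl⟩
  -- the quotient
  let f := QuotientGroup.mk' N
  have hf : Function.Surjective f := QuotientGroup.mk'_surjective N
  have hquot : ∀ c : R, (∀ s, act s c = c) → ∀ x ∈ (Q : Subgroup R),
      ∃ y ∈ (Q : Subgroup R), ∃ m ∈ N, c * x * c⁻¹ = y * m := by
    intro c hc x hx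
    have hlt : Nat.card (R ⧸ N) ≤ n := by
      have h1 := N.card_eq_card_quotient_mul_card_subgroup
      have h2 : 1 < Nat.card N := N.one_lt_card_iff_ne_bot.2 hNne
      have h3 : Nat.card (R ⧸ N) < Nat.card R := by
        rw [h1]; exact lt_mul_of_one_lt_right Nat.card_pos h2
      omega
    have h := ih (quotAct act N hNa) hlt hS
      (fun h => hpR (h.trans (Subgroup.card_quotient_dvd_card N)))
      (PSolvable.isPSolvable_quotient hq N) (Q.mapSurjective hf)
      (fun s y hy => by
        rw [Sylow.coe_mapSurjective] at hy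
        obtain ⟨z, hz, rfl⟩ := hy
        show quotAct act N hNa s (z : R ⧸ N) = z
        rw [quotAct_mk, hQfix s z hz])
      (fun θ hθ => by
        let θ' : Cfsg.IrrCharacter R := ⟨_, Basic.isIrrCharacter_comp f hf θ.2⟩
        have h := hdeg θ' fun s g => by
          show (θ : R ⧸ N → ℂ) (f (act s g)) = (θ : R ⧸ N → ℂ) (f g)
          exact hθ s (g : R ⧸ N)
        simpa [θ', Cfsg.charDegree] using h)
      (f c) (fun s => by
        show quotAct act N hNa s (c : R ⧸ N) = c
        rw [quotAct_mk, hc s])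
      (f x) (by rw [Sylow.coe_mapSurjective]; exact Subgroup.mem_map_of_mem f hx)
    rw [Sylow.coe_mapSurjective, ← map_inv, ← map_mul, ← map_mul] at h
    obtain ⟨y, hy, he⟩ := h
    exact ⟨y, hy, y⁻¹ * (c * x * c⁻¹), QuotientGroup.eq.1 he, by group⟩
  rcases hNq with hNp | hNcop
  · intro x hx
    obtain ⟨y, hy, m, hm, he⟩ := hquot c hc x hx
    rw [he]
    exact mul_mem hy (hNp.le_sylow_of_normal Q hm)
  -- the fixed points inside a `q'`-layer
  let actN := restrictAct act N hNa
  let C : Subgroup N := fixSub actN ⊤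
  have hCmem : ∀ a : N, a ∈ C ↔ ∀ s, act s (a : R) = a := fun a =>
    ⟨fun h s => congrArg Subtype.val (h s (Subgroup.mem_top s)),
      fun h s _ => Subtype.ext (h s)⟩
  have hfix : IsFix actN C.subtype := by
    refine ⟨C.subtype_injective, fun g => ?_⟩
    rw [Subgroup.range_subtype]
    exact ⟨fun hg t => hg t (Subgroup.mem_top t), fun hg t _ => hg t⟩
  let conjQ : (Q : Subgroup R) →* MulAut N :=
    (MulAut.conjNormal (H := N)).comp (Q : Subgroup R).subtype
  have hCQ : ∀ y, ∀ a ∈ C, conjQ y a ∈ C := fun y a ha => (hCmem _).2 fun s => by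
    show act s ((y : R) * a * (y : R)⁻¹) = (y : R) * a * (y : R)⁻¹
    rw [map_mul, map_mul, map_inv, hQfix s y y.2, (hCmem a).1 ha s]
  let actQ := restrictAct conjQ C hCQ
  haveI : Group.IsSolvable (Q : Subgroup R) := by haveI := Q.2.isNilpotent; infer_instance
  have hcopQ : (Nat.card N).Coprime (Nat.card (Q : Subgroup R)) := by
    obtain ⟨k, hk⟩ := IsPGroup.iff_card.1 Q.2
    rw [hk]
    exact hNcop.pow_right k
  have hpN : ¬ p ∣ Nat.card N := fun h => hpR (h.trans N.card_subgroup_dvd_card)
  letI := Fintype.ofFinite N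
  letI := Fintype.ofFinite C
  -- every character of the fixed points is invariant under `Q`
  have hinvQ : ∀ γ : Cfsg.IrrCharacter C, Inv actQ (γ : C → ℂ) := by
    intro γ y a
    obtain ⟨θ, hθ, hm⟩ := Glauberman.corr_surj hS hpN hfix γ
    obtain ⟨χ, hχ, hχθ⟩ := Glauberman.exists_inv_over act actN N.subtype
      (hcopS dvd_rfl).symm N.subtype_injective (fun _ _ => rfl) hθ
    have hχθ' : Cfsg.classInner (fun m : N => (χ : R → ℂ) m) θ ≠ 0 := by
      show Cfsg.classInner (fun m : N => (χ : R → ℂ) (N.subtype m)) θ ≠ 0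
      rw [Glauberman.coe_mult]
      exact_mod_cast hχθ
    set T := inertia N (θ : N → ℂ) with hT
    have hNT : N ≤ T := le_inertia N (Basic.isClassFunction_irr θ)
    letI := Fintype.ofFinite T
    have hTa : ∀ s, ∀ z ∈ T, act s z ∈ T := fun s z hz =>
      act_mem_inertia N ((invOn_iff hNa _).2 hθ) hNa s hz
    have hTidx : ¬ q ∣ T.index := by
      obtain ⟨ψ, -, hind⟩ := exists_over N θ T hNT hT hχθ'
      obtain ⟨d, hd⟩ := Basic.exists_degree (Basic.isCharacter_irr ψ)
      intro hdvd
      apply hdeg χ hχ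
      have h1 := congrFun hind 1
      rw [Induced.Basic.indFun_one, hd, ← Nat.cast_mul] at h1
      rw [Cfsg.charDegree, ← h1, Complex.natCast_re, Nat.floor_natCast]
      exact hdvd.mul_right _
    -- an invariant Sylow subgroup of the inertia group
    obtain ⟨P, hP⟩ : ∃ P : Sylow q R, (∀ s, ∀ z ∈ (P : Subgroup R), act s z ∈ (P : Subgroup R)) ∧
        (P : Subgroup R) ≤ T := by
      letI : MulDistribMulAction S T := MulDistribMulAction.compHom T (restrictAct act T hTa)
      obtain ⟨PT, hPT⟩ := Coprime.Action.exists_invariant_sylow (A := S) (G := T)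
        (hcopS T.card_subgroup_dvd_card) (Or.inl inferInstance) q
      have hcard : Nat.card ((PT : Subgroup T).map T.subtype) =
          q ^ (Nat.card R).factorization q := by
        rw [Subgroup.card_map_of_injective T.subtype_injective, PT.card_eq_multiplicity,
          ← T.card_mul_index,
          Nat.factorization_mul Nat.card_pos.ne' Subgroup.index_ne_zero_of_finite,
          Finsupp.add_apply, Nat.factorization_eq_zero_of_not_dvd hTidx, add_zero]
      refine ⟨Sylow.ofCard _ hcard, ?_, ?_⟩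
      · rw [Sylow.coe_ofCard]
        rintro s _ ⟨z, hz, rfl⟩
        exact ⟨_, hPT s z hz, rfl⟩
      · rw [Sylow.coe_ofCard]
        exact Subgroup.map_subtype_le _
    -- `Q` lies in the inertia group
    have hyT : (y : R) ∈ T := by
      letI : MulDistribMulAction S R := MulDistribMulAction.compHom R act
      obtain ⟨e, he, heQ⟩ := Coprime.Action.exists_conj_invariant_sylow (A := S) (G := R)
        (hcopS dvd_rfl) (Or.inl inferInstance) Q P
        (fun s z hz => show act s z ∈ _ by rw [hQfix s z hz]; exact hz) hP.1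
      obtain ⟨z, hz, m, hm, hym⟩ := hquot e⁻¹ (fun s => by rw [map_inv, show act s e = e from he s])
        y y.2
      have : (y : R) = e * z * e⁻¹ * (e * m * e⁻¹) := by
        rw [inv_inv] at hym
        calc (y : R) = e * (e⁻¹ * y * e) * e⁻¹ := by group
          _ = _ := by rw [hym]; group
      rw [this]
      refine T.mul_mem (hP.2 ?_) (hNT ((inferInstance : N.Normal).conj_mem m hm e))
      rw [← heQ, Coprime.mem_conj_smul]
      simpa [mul_assoc] using hz
    let γ' : Cfsg.IrrCharacter C :=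
      ⟨_, Basic.isIrrCharacter_comp (actQ y).toMonoidHom (actQ y).surjective γ.2⟩
    have h1 : mult C.subtype θ γ' = mult C.subtype θ γ :=
      Glauberman.mult_twist C.subtype (MulAut.conjNormal (H := N) (y : R)) (actQ y)
        (fun _ => rfl) (fun g => by
          have h2 := congrFun ((mem_inertia N).1 hyT) g
          exact h2.symm)
        (fun _ => rfl)
    exact congrFun (congrArg Subtype.val
      (Glauberman.corr_unique hS hpN hfix hθ (h1.symm ▸ hm) hm : γ' = γ)) a
  intro x hx
  obtain ⟨y, hy, m, hm, he⟩ := hquot c hc x hx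
  have hmC : (⟨m, hm⟩ : N) ∈ C := (hCmem _).2 fun s => by
    have h1 : (m : R) = y⁻¹ * (c * x * c⁻¹) := by rw [he]; group
    show act s m = m
    rw [h1, map_mul, map_mul, map_mul, map_inv, map_inv, hQfix s y hy, hc s, hQfix s x hx]
  have h := act_eq_of_forall_inv actQ (hcopQ.coprime_dvd_left C.card_subgroup_dvd_card) hinvQ
    ⟨y, hy⟩ ⟨⟨m, hm⟩, hmC⟩
  have hcomm : Commute y m := by
    have h1 : y * m * y⁻¹ = m := congrArg (fun a : C => ((a : N) : R)) h
    show y * m = m * y
    exact mul_inv_eq_iff_eq_mul.1 h1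
  have hxQ : x ^ Nat.card (Q : Subgroup R) = 1 :=
    congrArg Subtype.val (pow_card_eq_one' (x := (⟨x, hx⟩ : (Q : Subgroup R))))
  have hyQ : y ^ Nat.card (Q : Subgroup R) = 1 :=
    congrArg Subtype.val (pow_card_eq_one' (x := (⟨y, hy⟩ : (Q : Subgroup R))))
  have hmN : m ^ Nat.card N = 1 := congrArg Subtype.val (pow_card_eq_one' (x := (⟨m, hm⟩ : N)))
  have hm1 : m = 1 := by
    have h1 : m ^ Nat.card (Q : Subgroup R) = 1 := by
      have h2 : (c * x * c⁻¹) ^ Nat.card (Q : Subgroup R) = 1 := by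
        rw [conj_pow, hxQ, mul_one, mul_inv_cancel]
      rwa [he, hcomm.mul_pow, hyQ, one_mul] at h2
    have h3 := pow_gcd_eq_one.2 ⟨hmN, h1⟩
    rwa [hcopQ.gcd_eq_one, pow_one] at h3
  rw [he, hm1, mul_one]
  exact hy

/-- A `p`-group acts on a `q`-solvable `p'`-group and fixes a Sylow `q`-subgroup `Q`; if all
invariant characters have degree prime to `q`, the fixed points normalise `Q`. -/
theorem normalizes {p q : ℕ} [Fact p.Prime] [Fact q.Prime] {R : Type u} [Group R] [Finite R]
    {S : Type v} [Group S] [Finite S] (act : S →* MulAut R) (hS : IsPGroup p S)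
    (hpR : ¬ p ∣ Nat.card R) (hq : Cfsg.IsPSolvable q R) (Q : Sylow q R)
    (hQ : ∀ s, ∀ x ∈ (Q : Subgroup R), act s x = x)
    (hdeg : ∀ θ : Cfsg.IrrCharacter R, Inv act (θ : R → ℂ) →
      ¬ q ∣ Cfsg.charDegree (θ : R → ℂ))
    {c : R} (hc : ∀ s, act s c = c) {x : R} (hx : x ∈ (Q : Subgroup R)) :
    c * x * c⁻¹ ∈ (Q : Subgroup R) :=
  normalizes_aux p q _ act le_rfl hS hpR hq Q hQ hdeg c hc x hx

/-- Under the same hypotheses `Q` is the only invariant Sylow `q`-subgroup. -/
theorem eq_of_invariant {p q : ℕ} [Fact p.Prime] [Fact q.Prime] {R : Type u} [Group R] [Finite R]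
    {S : Type v} [Group S] [Finite S] (act : S →* MulAut R) (hS : IsPGroup p S)
    (hpR : ¬ p ∣ Nat.card R) (hq : Cfsg.IsPSolvable q R) (Q : Sylow q R)
    (hQ : ∀ s, ∀ x ∈ (Q : Subgroup R), act s x = x)
    (hdeg : ∀ θ : Cfsg.IrrCharacter R, Inv act (θ : R → ℂ) →
      ¬ q ∣ Cfsg.charDegree (θ : R → ℂ))
    (P : Sylow q R) (hP : ∀ s, ∀ x ∈ (P : Subgroup R), act s x ∈ (P : Subgroup R)) :
    (P : Subgroup R) = Q := by
  haveI : Group.IsSolvable S := by haveI := hS.isNilpotent; infer_instance
  letI : MulDistribMulAction S R := MulDistribMulAction.compHom R act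
  have hcop : (Nat.card S).Coprime (Nat.card R) := by
    obtain ⟨k, hk⟩ := IsPGroup.iff_card.1 hS
    rw [hk]
    exact Nat.Coprime.pow_left k ((Fact.out : p.Prime).coprime_iff_not_dvd.2 hpR)
  obtain ⟨e, he, heQ⟩ := Coprime.Action.exists_conj_invariant_sylow (A := S) (G := R)
    hcop (Or.inl inferInstance) Q P
    (fun s z hz => show act s z ∈ _ by rw [hQ s z hz]; exact hz) hP
  refine Subgroup.eq_of_le_of_card_ge ?_ ?_
  · rw [← heQ]
    rintro _ ⟨z, hz, rfl⟩
    exact normalizes act hS hpR hq Q hQ hdeg (fun s => he s) hz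
  · rw [P.card_eq_multiplicity, Q.card_eq_multiplicity]

end Cfsg.Agent.Lib.Chars82.CoprimeQDegree
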