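import Cfsg.Agent.Lib.Chars82.CoprimeQDegree
import Cfsg.Agent.Lib.Chars82.ConstrainedBlock
import Cfsg.Agent.Lib.BC78.CoprimeFix
import Cfsg.Agent.Lib.RelGlauberman.Main
import Cfsg.Agent.Lib.Clifford.Basic
import Cfsg.Agent.Lib.Characters.Linear

/-!
# `p'`-degree characters of `q'`-degree in groups solvable for both primes

If every character trivial on `O_{p'}` of degree prime to `p` has degree prime to `q`, and
symmetrically, then `q` does not divide the index of `O_{p'}`.
-/

set_option autoImplicit false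

namespace Cfsg.Agent.Lib.Chars82.CrossDegrees

open Cfsg.Agent.Lib.Characters Cfsg.Agent.Lib.Clifford.Basic
open Cfsg.Agent.Lib.RelGlauberman
open Cfsg.Agent.Lib.Glauberman (Inv)

universe u v w

/-- A `p`-group and a coprime group act on an abelian `p`-group by commuting automorphisms. If
every linear character fixed by the first is fixed by the second, the second acts trivially. -/
theorem act_eq_of_fixed_characters {p : ℕ} [Fact p.Prime] {V : Type u} [CommGroup V] [Finite V]
    {S : Type v} [Group S] {Q : Type w} [Group Q] [Finite Q] (a : S →* MulAut V)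
    (b : Q →* MulAut V) (hS : IsPGroup p S) (hV : IsPGroup p V)
    (hQ : ¬ p ∣ Nat.card Q) (hab : ∀ s x v, a s (b x v) = b x (a s v))
    (h : ∀ lam : V →* ℂˣ, (∀ s v, lam (a s v) = lam v) → ∀ x v, lam (b x v) = lam v)
    (x : Q) (v : V) : b x v = v := by
  classical
  letI := Fintype.ofFinite Q
  have hpp : p.Prime := Fact.out
  set n := Nat.card Q with hn
  let τ : V →* V :=
    MonoidHom.mk' (fun v => ∏ y : Q, b y v) fun v w => by
      simp only [map_mul, Finset.prod_mul_distrib]
  have hτb : ∀ y v, b y (τ v) = τ v := fun y v => by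
    show b y (∏ z : Q, b z v) = ∏ z : Q, b z v
    rw [map_prod]
    exact Fintype.prod_equiv (Equiv.mulLeft y) _ _ fun z => by simp
  have hτb' : ∀ y v, τ (b y v) = τ v := fun y v => by
    show (∏ z : Q, b z (b y v)) = ∏ z : Q, b z v
    exact Fintype.prod_equiv (Equiv.mulRight y) _ _ fun z => by simp
  have hτa : ∀ s v, a s (τ v) = τ (a s v) := fun s v => by
    show a s (∏ z : Q, b z v) = ∏ z : Q, b z (a s v)
    rw [map_prod]
    exact Finset.prod_congr rfl fun z _ => hab s z v
  let σ : V →* V := MonoidHom.mk' (fun v => v ^ n / τ v) fun v w => by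
    simp only [map_mul, mul_pow, mul_div_mul_comm]
  have hσa : ∀ s v, a s (σ v) = σ (a s v) := fun s v => by
    show a s (v ^ n / τ v) = (a s v) ^ n / τ (a s v)
    rw [map_div, map_pow, hτa]
  have hσb : ∀ y v, b y (σ v) = σ (b y v) := fun y v => by
    show b y (v ^ n / τ v) = (b y v) ^ n / τ (b y v)
    rw [map_div, map_pow, hτb, hτb']
  set J := σ.range with hJ
  have hJa : ∀ s, ∀ j ∈ J, a s j ∈ J := by
    rintro s _ ⟨v, rfl⟩; exact ⟨a s v, (hσa s v).symm⟩
  have hJb : ∀ y, ∀ j ∈ J, b y j ∈ J := by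
    rintro y _ ⟨v, rfl⟩; exact ⟨b y v, (hσb y v).symm⟩
  have hJbot : J = ⊥ := by
    by_contra hne
    let a' := restrictAct a J hJa
    letI : MulAction S (J →* ℂˣ) :=
      { smul := fun s ψ => ψ.comp (a' s⁻¹).toMonoidHom
        one_smul := fun ψ => MonoidHom.ext fun j => by
          show ψ (a' 1⁻¹ j) = ψ j
          rw [inv_one, map_one]; rfl
        mul_smul := fun s t ψ => MonoidHom.ext fun j => by
          show ψ (a' (s * t)⁻¹ j) = ψ (a' t⁻¹ (a' s⁻¹ j))
          rw [mul_inv_rev, map_mul]; rfl }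
    haveI : Finite (J →* ℂˣ) := Nat.finite_of_card_ne_zero (by
      rw [CommGroup.card_monoidHom_of_hasEnoughRootsOfUnity J ℂ]; exact Nat.card_pos.ne')
    have hdvd : p ∣ Nat.card (J →* ℂˣ) := by
      rw [CommGroup.card_monoidHom_of_hasEnoughRootsOfUnity J ℂ]
      obtain ⟨k, hk⟩ := IsPGroup.iff_card.1 (hV.to_subgroup J)
      rw [hk]
      refine dvd_pow_self p fun hk0 => hne (J.eq_bot_of_card_eq ?_)
      rw [hk, hk0, pow_zero]
    obtain ⟨ψ, hψ, hψ1⟩ := hS.exists_fixed_point_of_prime_dvd_card_of_fixed_point (J →* ℂˣ) hdvd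
      (a := 1) (fun s => MonoidHom.ext fun j => rfl)
    have hψa : ∀ s j, ψ (a' s j) = ψ j := fun s j => by
      have h1 := DFunLike.congr_fun (hψ s⁻¹) j
      change ψ (a' s⁻¹⁻¹ j) = ψ j at h1
      rwa [inv_inv] at h1
    have hlam := h (ψ.comp σ.rangeRestrict) fun s v => by
      show ψ (σ.rangeRestrict (a s v)) = ψ (σ.rangeRestrict v)
      rw [show σ.rangeRestrict (a s v) = a' s (σ.rangeRestrict v) from Subtype.ext (hσa s v).symm]
      exact hψa s _
    have hψb : ∀ y j, ψ (restrictAct b J hJb y j) = ψ j := by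
      rintro y ⟨_, v, rfl⟩
      rw [show restrictAct b J hJb y ⟨σ v, v, rfl⟩ = σ.rangeRestrict (b y v) from
        Subtype.ext (hσb y v)]
      exact hlam y v
    apply hψ1
    refine MonoidHom.ext fun j => ?_
    have hprod : (∏ y : Q, restrictAct b J hJb y j) = 1 := by
      obtain ⟨_, v, rfl⟩ := j
      refine Subtype.ext ?_
      rw [Subgroup.val_finset_prod, Subgroup.coe_one]
      show (∏ y : Q, b y (σ v)) = 1
      show τ (v ^ n / τ v) = 1
      rw [map_div, map_pow, show τ (τ v) = τ v ^ n from ?_, div_self']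
      show (∏ y : Q, b y (τ v)) = τ v ^ n
      simp only [hτb, Finset.prod_const, Finset.card_univ, hn, Nat.card_eq_fintype_card]
    have hjn : ψ j ^ n = 1 := by
      have h1 := congrArg ψ hprod
      rw [map_prod, map_one] at h1
      simpa only [hψb, Finset.prod_const, Finset.card_univ, hn, Nat.card_eq_fintype_card] using h1
    obtain ⟨k, hk⟩ := IsPGroup.iff_card.1 (hV.to_subgroup J)
    have hjp : ψ j ^ p ^ k = 1 := by rw [← map_pow, ← hk, pow_card_eq_one', map_one]
    have h2 := pow_gcd_eq_one.2 ⟨hjn, hjp⟩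
    rw [((hpp.coprime_iff_not_dvd.2 hQ).symm.pow_right k).gcd_eq_one, pow_one] at h2
    rw [h2]
    rfl
  have hfix : ∀ w : V, w ^ n = τ w := fun w => by
    have h1 : σ w ∈ J := ⟨w, rfl⟩
    rw [hJbot, Subgroup.mem_bot] at h1
    exact div_eq_one.1 h1
  have h1 : b x v ^ n = v ^ n := by rw [hfix, hfix, hτb']
  have h2 : (b x v / v) ^ n = 1 := by rw [div_pow, h1, div_self']
  obtain ⟨k, hk⟩ := hV (b x v / v)
  have h3 := pow_gcd_eq_one.2 ⟨h2, hk⟩
  rw [((hpp.coprime_iff_not_dvd.2 hQ).symm.pow_right k).gcd_eq_one, pow_one] at h3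
  exact div_eq_one.1 h3

/-- The relative index in a normal subgroup divides the index. -/
theorem relIndex_dvd_index {H : Type u} [Group H] [Finite H] (T R : Subgroup H) [R.Normal] :
    T.relIndex R ∣ T.index := by
  have e : T.relIndex R * R.index = R.relIndex T * T.index := by
    rw [← Subgroup.inf_relIndex_right T R, ← Subgroup.inf_relIndex_right R T,
      Subgroup.relIndex_mul_index inf_le_right, Subgroup.relIndex_mul_index inf_le_right,
      inf_comm]
  obtain ⟨k, hk⟩ := Subgroup.relIndex_dvd_index_of_normal (H := R) (K := T)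
  rw [hk, mul_left_comm] at e
  refine ⟨k, ?_⟩
  exact (Nat.eq_of_mul_eq_mul_left (Nat.pos_of_ne_zero Subgroup.index_ne_zero_of_finite) e).symm

/-- Conjugation of a Sylow subgroup on a normal subgroup. -/
def conjOn {M : Type u} [Group M] (R P : Subgroup M) [R.Normal] : P →* MulAut R :=
  (MulAut.conjNormal (H := R)).comp P.subtype

/-- If all characters of degree prime to `p` have degree prime to `q`, so do the characters of a
normal `p'`-subgroup invariant under a Sylow `p`-subgroup. -/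
theorem not_dvd_degree_of_inv {M : Type u} [Group M] [Finite M] {p q : ℕ} [Fact p.Prime]
    (P : Sylow p M) (R : Subgroup M) [hRn : R.Normal] (hpR : ¬ p ∣ Nat.card R)
    (hM : ∀ χ : Cfsg.IrrCharacter M, ¬ p ∣ Cfsg.charDegree (χ : M → ℂ) →
      ¬ q ∣ Cfsg.charDegree (χ : M → ℂ))
    (θ : Cfsg.IrrCharacter R) (hθ : Inv (conjOn R (P : Subgroup M)) (θ : R → ℂ)) :
    ¬ q ∣ Cfsg.charDegree (θ : R → ℂ) := by
  classical
  letI := Fintype.ofFinite M
  have hpp : p.Prime := Fact.out
  set H := R ⊔ (P : Subgroup M) with hH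
  have hRH : R ≤ H := le_sup_left
  let N : Subgroup H := R.subgroupOf H
  letI := Fintype.ofFinite H
  letI := Fintype.ofFinite N
  letI := Fintype.ofFinite R
  let e : N ≃* R := Subgroup.subgroupOfEquivOfLe hRH
  let θN : Cfsg.IrrCharacter N :=
    ⟨_, Basic.isIrrCharacter_comp e.toMonoidHom e.surjective θ.2⟩
  obtain ⟨d, hd, hdd, hdeg⟩ := Degree.exists_degree_dvd θ
  have hθd : Cfsg.charDegree (θ : R → ℂ) = d := by
    rw [Cfsg.charDegree, hdeg, Complex.natCast_re, Nat.floor_natCast]
  have hpd : ¬ p ∣ d := fun h => hpR (h.trans hdd)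
  obtain ⟨m, hm⟩ : ∃ m, N.index = p ^ m := by
    obtain ⟨k, hk⟩ := IsPGroup.iff_card.1 P.2
    have : N.index ∣ Nat.card (P : Subgroup M) := by
      show R.relIndex H ∣ _
      rw [hH, Subgroup.relIndex_sup_left]
      exact Subgroup.relIndex_dvd_card _ _
    obtain ⟨i, -, hi⟩ := (Nat.dvd_prime_pow hpp).1 (hk ▸ this)
    exact ⟨i, hi⟩
  have hcardN : ¬ p ∣ Nat.card N := by rwa [Nat.card_congr e.toEquiv]
  have hinvN : ∀ g : H, BC78.Clifford.conjIrr N θN g = θN := by
    have hle : H ≤ inertia R (θ : R → ℂ) := by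
      rw [hH]
      refine sup_le (le_inertia R (Basic.isClassFunction_irr θ)) fun g hg => funext fun r => ?_
      exact hθ ⟨g, hg⟩ r
    intro g
    refine Subtype.ext (funext fun r => ?_)
    exact congrFun (hle g.2) (e r)
  have hθN1 : (θN : N → ℂ) 1 = d := by
    show (θ : R → ℂ) (e 1) = d
    rw [map_one, hdeg]
  have hdegN : BC78.CoprimeFix.deg θN = d := by
    rw [BC78.CoprimeFix.deg, Cfsg.charDegree, hθN1, Complex.natCast_re, Nat.floor_natCast]
  obtain ⟨η, hη⟩ := BC78.CoprimeFix.exists_extension N hm hcardN θN hinvN (hdegN ▸ hpd)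
  have hη1 : (η : H → ℂ) 1 = d := by rw [← hθN1, ← hη 1]; rfl
  have hind := Induced.Character.isCharacter_indFun H (Basic.isCharacter_irr η)
  have hn : Cfsg.indFun H (η : H → ℂ) 1 = ((H.index * d : ℕ) : ℂ) := by
    rw [Induced.Basic.indFun_one, hη1, Nat.cast_mul]
  obtain ⟨χ, hχ, hχp⟩ := BC78.CoprimeFix.exists_constituent_not_dvd hind hn (fun h => by
    rcases (Nat.Prime.dvd_mul hpp).1 h with h | h
    · exact P.not_dvd_index (h.trans (Subgroup.index_dvd_of_le le_sup_right))
    · exact hpd h)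
  have hχq := hM χ hχp
  have h1 : Cfsg.classInner (fun x : H => (χ : M → ℂ) x) η ≠ 0 := by
    refine classInner_ne_zero_symm ?_
    rwa [← Induced.Basic.frobenius_reciprocity _ _ (Basic.isClassFunction_irr χ)]
  have h2 : Cfsg.classInner (((χ : M → ℂ) ∘ H.subtype) ∘ N.subtype) θN ≠ 0 :=
    classInner_comp_ne_zero N.subtype (Basic.isCharacter_comp H.subtype (Basic.isCharacter_irr χ))
      h1 (by
        rw [show (η : H → ℂ) ∘ N.subtype = (θN : N → ℂ) from funext hη, Basic.classInner_self_irr]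
        exact one_ne_zero)
  have h3 : Cfsg.classInner (fun r : R => (χ : M → ℂ) r) θ ≠ 0 := by
    rw [show Cfsg.classInner (fun r : R => (χ : M → ℂ) r) (θ : R → ℂ) =
      Cfsg.classInner ((fun r : R => (χ : M → ℂ) r) ∘ e) ((θ : R → ℂ) ∘ e) from
      (RelGlauberman.classInner_comp_surjective (π := e.toMonoidHom) e.surjective _ _).symm]
    exact h2
  obtain ⟨m', hm'⟩ := Basic.exists_classInner_nat
    (Basic.isCharacter_comp R.subtype (Basic.isCharacter_irr χ)) (Basic.isCharacter_irr θ)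
  have h4 := clifford_degree R χ.2 θ h3
  rw [show (fun r : R => (χ : M → ℂ) r) = (χ : M → ℂ) ∘ R.subtype from rfl, hm', hdeg,
    ← Nat.cast_mul, ← Nat.cast_mul] at h4
  rw [Cfsg.charDegree, h4, Complex.natCast_re, Nat.floor_natCast] at hχq
  rw [hθd]
  exact fun h => hχq (h.mul_left _)

/-- The setting of a complement `M` of an abelian normal `p`-subgroup `V`: a Sylow `q`-subgroup of
`R` centralised by a Sylow `p`-subgroup acts trivially on `V`. -/
theorem sylow_acts_trivially {M : Type u} [Group M] [Finite M] {p q : ℕ} [Fact p.Prime]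
    [Fact q.Prime] (P : Sylow p M) (R : Subgroup M) [hRn : R.Normal]
    (hpR : ¬ p ∣ Nat.card R) (hqs : Cfsg.IsPSolvable q R) (Q : Sylow q R) (hpq : p ≠ q)
    (hPQ : ∀ g ∈ (P : Subgroup M), ∀ x ∈ (Q : Subgroup R), g * (x : M) = x * g)
    (hM : ∀ χ : Cfsg.IrrCharacter M, ¬ p ∣ Cfsg.charDegree (χ : M → ℂ) →
      ¬ q ∣ Cfsg.charDegree (χ : M → ℂ))
    {V : Type u} [CommGroup V] [Finite V] (hV : IsPGroup p V) (act : M →* MulAut V)
    (hlin : ∀ (lam : V →* ℂˣ) (T : Subgroup M), (∀ m, m ∈ T ↔ ∀ v, lam (act m v) = lam v) →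
      (P : Subgroup M) ≤ T → ¬ q ∣ T.index)
    (x : R) (hx : x ∈ (Q : Subgroup R)) (v : V) : act x v = v := by
  classical
  have hpp : p.Prime := Fact.out
  let cP := conjOn R (P : Subgroup M)
  have hQfix : ∀ s, ∀ x ∈ (Q : Subgroup R), cP s x = x := fun s x hx => Subtype.ext (by
    show (s : M) * (x : M) * (s : M)⁻¹ = x
    rw [hPQ s s.2 x hx, mul_inv_cancel_right])
  have hdeg : ∀ θ : Cfsg.IrrCharacter R, Inv cP (θ : R → ℂ) →
      ¬ q ∣ Cfsg.charDegree (θ : R → ℂ) := fun θ hθ => not_dvd_degree_of_inv P R hpR hM θ hθ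
  let b : (Q : Subgroup R) →* MulAut V := (act.comp R.subtype).comp (Q : Subgroup R).subtype
  refine act_eq_of_fixed_characters (act.comp (P : Subgroup M).subtype) b P.2 hV ?_ ?_ ?_ ⟨x, hx⟩ v
  · obtain ⟨k, hk⟩ := IsPGroup.iff_card.1 Q.2
    rw [hk]
    exact fun h => hpq ((Nat.prime_dvd_prime_iff_eq hpp Fact.out).1 (hpp.dvd_of_dvd_pow h))
  · intro s y w
    show (act s * act ((y : R) : M)) w = (act ((y : R) : M) * act s) w
    rw [← map_mul, ← map_mul, hPQ s s.2 y y.2]
  intro lam hlam
  let T : Subgroup M :=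
    { carrier := {m | ∀ w, lam (act m w) = lam w}
      one_mem' := fun w => by rw [map_one]; rfl
      mul_mem' := fun {a c} ha hc w => by rw [map_mul, MulAut.mul_apply, ha, hc]
      inv_mem' := fun {a} ha w => by
        have h1 := ha (act a⁻¹ w)
        rwa [← MulAut.mul_apply, ← map_mul, mul_inv_cancel, map_one, MulAut.one_apply, eq_comm]
          at h1 }
  have hPT : (P : Subgroup M) ≤ T := fun s hs w => hlam ⟨s, hs⟩ w
  have hTidx : ¬ q ∣ (T.subgroupOf R).index := fun h =>
    hlin lam T (fun _ => Iff.rfl) hPT (h.trans (relIndex_dvd_index T R))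
  have hTa : ∀ s, ∀ z ∈ T.subgroupOf R, cP s z ∈ T.subgroupOf R := fun s z hz => by
    show (s : M) * (z : M) * (s : M)⁻¹ ∈ T
    exact T.mul_mem (T.mul_mem (hPT s.2) hz) (T.inv_mem (hPT s.2))
  haveI : Group.IsSolvable (P : Subgroup M) := by haveI := P.2.isNilpotent; infer_instance
  letI : MulDistribMulAction (P : Subgroup M) (T.subgroupOf R) :=
    MulDistribMulAction.compHom _ (restrictAct cP _ hTa)
  obtain ⟨P', hP'⟩ := Coprime.Action.exists_invariant_sylow (A := (P : Subgroup M))
    (G := T.subgroupOf R) (by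
      obtain ⟨k, hk⟩ := IsPGroup.iff_card.1 P.2
      rw [hk]
      exact Nat.Coprime.pow_left k (hpp.coprime_iff_not_dvd.2
        fun h => hpR (h.trans (T.subgroupOf R).card_subgroup_dvd_card))) (Or.inl inferInstance) q
  have hcard : Nat.card ((P' : Subgroup (T.subgroupOf R)).map (T.subgroupOf R).subtype) =
      q ^ (Nat.card R).factorization q := by
    rw [Subgroup.card_map_of_injective (T.subgroupOf R).subtype_injective,
      P'.card_eq_multiplicity, ← (T.subgroupOf R).card_mul_index,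
      Nat.factorization_mul Nat.card_pos.ne' Subgroup.index_ne_zero_of_finite, Finsupp.add_apply,
      Nat.factorization_eq_zero_of_not_dvd hTidx, add_zero]
  have hQT : (Q : Subgroup R) ≤ T.subgroupOf R := by
    rw [← CoprimeQDegree.eq_of_invariant cP P.2 hpR hqs Q hQfix hdeg (Sylow.ofCard _ hcard)
      (by
        rw [Sylow.coe_ofCard]
        rintro s _ ⟨z, hz, rfl⟩
        exact ⟨_, hP' s z hz, rfl⟩), Sylow.coe_ofCard]
    exact Subgroup.map_subtype_le _
  exact fun y w => hQT y.2 w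

/-- The hypothesis on degrees. -/
def Cross (p q : ℕ) (G : Type u) [Group G] : Prop :=
  ∀ χ : Cfsg.IrrCharacter G,
    (∀ g ∈ Cfsg.pPrimeCore p G, (χ : G → ℂ) g = (χ : G → ℂ) 1) →
    ¬ p ∣ Cfsg.charDegree (χ : G → ℂ) → ¬ q ∣ Cfsg.charDegree (χ : G → ℂ)

theorem cross_of_surjective {G : Type u} [Group G] [Finite G] {H : Type u} [Group H]
    {p q : ℕ} (f : G →* H) (hf : Function.Surjective f) (h : Cross p q G) : Cross p q H := by
  intro χ hχ hd
  have h1 := h ⟨_, Basic.isIrrCharacter_comp f hf χ.2⟩ (fun g hg => by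
    show (χ : H → ℂ) (f g) = (χ : H → ℂ) (f 1)
    rw [map_one]
    exact hχ _ (Cores.map_pPrimeCore_le f hf (Subgroup.mem_map_of_mem f hg)))
    (by simpa [Cfsg.charDegree] using hd)
  simpa [Cfsg.charDegree] using h1

theorem index_aux : ∀ (n : ℕ) {G : Type u} [Group G] [Finite G] (p q : ℕ) [Fact p.Prime]
    [Fact q.Prime], Nat.card G ≤ n → p ≠ q → Cfsg.IsPSolvable p G → Cfsg.IsPSolvable q G →
    Cross p q G → Cross q p G → ¬ q ∣ (Cfsg.pPrimeCore p G).index := by
  intro n
  induction n with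
  | zero =>
    intro G _ _ _ _ _ _ hn
    exact absurd hn (by have := Nat.card_pos (α := G); omega)
  | succ n ih =>
  intro G _ _ p q _ _ hn hpq hps hqs hp hq
  classical
  have hpp : p.Prime := Fact.out
  have hqq : q.Prime := Fact.out
  set A := Cfsg.pPrimeCore p G with hAdef
  by_cases hA : A ≠ ⊥
  · have hlt : Nat.card (G ⧸ A) ≤ n := by
      have h2 : 1 < Nat.card A := A.one_lt_card_iff_ne_bot.2 hA
      have h3 : Nat.card (G ⧸ A) < Nat.card G := by
        rw [A.card_eq_card_quotient_mul_card_subgroup]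
        exact lt_mul_of_one_lt_right Nat.card_pos h2
      omega
    have h := ih p q hlt hpq (PSolvable.isPSolvable_quotient hps A)
      (PSolvable.isPSolvable_quotient hqs A)
      (cross_of_surjective _ (QuotientGroup.mk'_surjective A) hp)
      (cross_of_surjective _ (QuotientGroup.mk'_surjective A) hq)
    rwa [PSolvable.pPrimeCore_quotient_eq_bot A rfl, Subgroup.index_bot] at h
  push Not at hA
  rw [hA, Subgroup.index_bot]
  intro hqG
  -- a minimal normal subgroup
  obtain ⟨L, -, hL⟩ := Finite.exists_le_minimal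
    (p := fun S : Subgroup G => S.Normal ∧ S ≠ ⊥) (a := ⊤) ⟨inferInstance, fun h => by
      rw [← Subgroup.card_top (G := G), h, Subgroup.card_bot] at hqG
      exact hqq.not_dvd_one hqG⟩
  haveI := hL.1.1
  have hmin : ∀ K : Subgroup G, K.Normal → K ≤ L → K = ⊥ ∨ K = L := fun K hK hKL =>
    or_iff_not_imp_left.2 fun hne => le_antisymm hKL (hL.2 ⟨hK, hne⟩ hKL)
  have hLp : IsPGroup p L := by
    refine (PSolvable.minimal_normal_isPGroup_or_coprime hps L hmin).resolve_right fun h => ?_
    exact hL.1.2 (le_bot_iff.1 (hA ▸ Cores.le_pPrimeCore h))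
  obtain ⟨k, hk⟩ := IsPGroup.iff_card.1 hLp
  haveI hLnt : Nontrivial L := (L.nontrivial_iff_ne_bot).2 hL.1.2
  have hcomm : ∀ a c : L, a * c = c * a := by
    haveI := Cores.normal_map_subtype L (Subgroup.center L)
    have hz : (Subgroup.center L).map L.subtype = L := by
      refine (hmin _ inferInstance (Subgroup.map_subtype_le _)).resolve_left fun h => ?_
      rw [Subgroup.map_eq_bot_iff_of_injective _ L.subtype_injective] at h
      exact (hLp.bot_lt_center).ne' h
    intro a c
    obtain ⟨a', ha', he⟩ := hz.ge a.2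
    rw [← Subtype.ext he]
    exact (Subgroup.mem_center_iff.1 ha' c).symm
  letI : CommGroup L := { (inferInstance : Group L) with mul_comm := hcomm }
  have hqL : ¬ q ∣ Nat.card L := fun h => by
    rw [hk] at h
    exact hpq ((Nat.prime_dvd_prime_iff_eq hqq hpp).1 (hqq.dvd_of_dvd_pow h)).symm
  have hltL : Nat.card (G ⧸ L) ≤ n := by
    have h2 : 1 < Nat.card L := L.one_lt_card_iff_ne_bot.2 hL.1.2
    have h3 : Nat.card (G ⧸ L) < Nat.card G := by
      rw [L.card_eq_card_quotient_mul_card_subgroup]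
      exact lt_mul_of_one_lt_right Nat.card_pos h2
    omega
  let f := QuotientGroup.mk' L
  have hf : Function.Surjective f := QuotientGroup.mk'_surjective L
  have hRbar := ih p q hltL hpq (PSolvable.isPSolvable_quotient hps L)
    (PSolvable.isPSolvable_quotient hqs L) (cross_of_surjective f hf hp)
    (cross_of_surjective f hf hq)
  set R : Subgroup G := (Cfsg.pPrimeCore p (G ⧸ L)).comap f with hR
  have hLR : L ≤ R := by
    rw [hR]; refine le_trans ?_ (Subgroup.ker_le_comap f _); rw [QuotientGroup.ker_mk']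
  have hrel : L.relIndex R = Nat.card (Cfsg.pPrimeCore p (G ⧸ L)) := by
    rw [← Subgroup.relIndex_bot_left]
    conv_lhs => rw [show L = (⊥ : Subgroup (G ⧸ L)).comap f by
      rw [MonoidHom.comap_bot, QuotientGroup.ker_mk']]
    rw [hR, Subgroup.relIndex_comap, Subgroup.map_comap_eq_self_of_surjective hf]
  haveI := hLp.isNilpotent
  obtain ⟨R₁, hR₁R, hsup, hcard, hN⟩ := ConstrainedBlock.exists_sup_normalizer_complement hLR
    inferInstance (by
      rw [hk, hrel]; exact (Cores.pPrimeCore_coprime p).symm.pow_left k)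
  set M := Subgroup.normalizer (R₁ : Set G) with hMdef
  -- `M` is a complement of `L`
  have hLM : L ⊓ M = ⊥ := by
    have hnorm : (L ⊓ M).Normal := by
      refine ⟨fun x hx g => ?_⟩
      obtain ⟨l, hl, m, hm, rfl⟩ := Subgroup.mem_sup_of_normal_left.1
        (hN ▸ Subgroup.mem_top g : g ∈ L ⊔ M)
      have h1 : m * x * m⁻¹ ∈ L ⊓ M :=
        ⟨Subgroup.Normal.conj_mem inferInstance x hx.1 m,
          M.mul_mem (M.mul_mem hm hx.2) (M.inv_mem hm)⟩
      have h2 : l * m * x * (l * m)⁻¹ = m * x * m⁻¹ := by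
        have := congrArg Subtype.val (hcomm ⟨l, hl⟩ ⟨m * x * m⁻¹, h1.1⟩)
        simp only [Subgroup.coe_mul] at this
        calc l * m * x * (l * m)⁻¹ = l * (m * x * m⁻¹) * l⁻¹ := by group
          _ = _ := by rw [this, mul_inv_cancel_right]
      rwa [h2]
    refine (hmin _ hnorm inf_le_left).resolve_right fun h => ?_
    have hMtop : M = ⊤ := by
      rw [eq_top_iff, ← hN]; exact sup_le (inf_eq_left.1 h) le_rfl
    haveI : R₁.Normal := Subgroup.normalizer_eq_top_iff.1 hMtop
    have h1 : R₁ ≤ ⊥ := hA ▸ Cores.le_pPrimeCore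
      (by rw [hcard, hrel]; exact Cores.pPrimeCore_coprime p)
    have h2 : Nat.card (Cfsg.pPrimeCore p (G ⧸ L)) = 1 := by
      rw [← hrel, ← hcard, le_bot_iff.1 h1, Subgroup.card_bot]
    rw [Subgroup.eq_bot_of_card_eq _ h2, Subgroup.index_bot] at hRbar
    rw [L.card_eq_card_quotient_mul_card_subgroup] at hqG
    rcases (Nat.Prime.dvd_mul hqq).1 hqG with h | h
    · exact hRbar h
    · exact hqL h
  obtain ⟨π, hπM, hπL⟩ : ∃ π : G →* M, (∀ m : M, π m = m) ∧ ∀ g, π g = 1 ↔ g ∈ L := by
    let j : M →* G ⧸ L := f.comp M.subtype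
    have hj : Function.Bijective j := by
      constructor
      · refine (MonoidHom.ker_eq_bot_iff j).1 ((Subgroup.eq_bot_iff_forall _).2 fun m hm => ?_)
        have : (m : G) ∈ L ⊓ M := ⟨(QuotientGroup.eq_one_iff _).1 hm, m.2⟩
        rw [hLM, Subgroup.mem_bot] at this
        exact Subtype.ext this
      · intro y
        obtain ⟨g, rfl⟩ := hf y
        obtain ⟨l, hl, m, hm, rfl⟩ := Subgroup.mem_sup_of_normal_left.1
          (hN ▸ Subgroup.mem_top g : g ∈ L ⊔ M)
        refine ⟨⟨m, hm⟩, ?_⟩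
        show f m = f (l * m)
        rw [map_mul, show f l = 1 from (QuotientGroup.eq_one_iff l).2 hl, one_mul]
    let e := MulEquiv.ofBijective j hj
    refine ⟨e.symm.toMonoidHom.comp f, fun m => e.symm_apply_apply m, fun g => ?_⟩
    show e.symm (f g) = 1 ↔ _
    rw [← QuotientGroup.eq_one_iff g]
    exact ⟨fun h => e.symm.injective (h.trans (map_one e.symm).symm),
      fun h => (congrArg e.symm h).trans (map_one e.symm)⟩
  have hπs : Function.Surjective π := fun m => ⟨m, hπM m⟩
  have hcardM : Nat.card M * Nat.card L = Nat.card G := by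
    have hker : π.ker = L := Subgroup.ext hπL
    rw [← π.ker.card_mul_index, Subgroup.index_ker,
      MonoidHom.range_eq_top.2 hπs, Subgroup.card_top, mul_comm, hker]
  have hltM : Nat.card M ≤ n := by
    have h2 : 1 < Nat.card L := L.one_lt_card_iff_ne_bot.2 hL.1.2
    have h3 : Nat.card M < Nat.card G := by
      rw [← hcardM]; exact lt_mul_of_one_lt_right Nat.card_pos h2
    omega
  have hpsM := PSolvable.isPSolvable_subgroup hps M
  have hqsM := PSolvable.isPSolvable_subgroup hqs M
  have hcp := cross_of_surjective π hπs hp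
  have hcq := cross_of_surjective π hπs hq
  have hR'idx := ih p q hltM hpq hpsM hqsM hcp hcq
  have hB'idx := ih q p hltM hpq.symm hqsM hpsM hcq hcp
  set R' := Cfsg.pPrimeCore p M with hR'
  set B' := Cfsg.pPrimeCore q M with hB'
  have hpR' : ¬ p ∣ Nat.card R' := Cores.not_dvd_card_pPrimeCore p
  obtain ⟨P⟩ : Nonempty (Sylow p M) := inferInstance
  have hPB : (P : Subgroup M) ≤ B' := by
    intro x hx
    obtain ⟨i, hi⟩ := P.2 ⟨x, hx⟩
    have h1 : (x : M ⧸ B') ^ p ^ i = 1 := by
      rw [← QuotientGroup.mk_pow, show x ^ p ^ i = 1 from congrArg Subtype.val hi]; rfl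
    have h2 : (x : M ⧸ B') ^ Nat.card (M ⧸ B') = 1 := pow_card_eq_one'
    have h3 := pow_gcd_eq_one.2 ⟨h1, h2⟩
    rw [← Subgroup.index_eq_card,
      (Nat.Coprime.pow_left i (hpp.coprime_iff_not_dvd.2 hB'idx)).gcd_eq_one, pow_one] at h3
    exact (QuotientGroup.eq_one_iff x).1 h3
  -- an invariant Sylow subgroup of `R'`, centralised by `P`
  haveI : Group.IsSolvable (P : Subgroup M) := by haveI := P.2.isNilpotent; infer_instance
  letI : MulDistribMulAction (P : Subgroup M) R' :=
    MulDistribMulAction.compHom _ (conjOn R' (P : Subgroup M))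
  obtain ⟨Q, hQ⟩ := Coprime.Action.exists_invariant_sylow (A := (P : Subgroup M)) (G := R') (by
      obtain ⟨i, hi⟩ := IsPGroup.iff_card.1 P.2
      rw [hi]
      exact Nat.Coprime.pow_left i (hpp.coprime_iff_not_dvd.2 hpR')) (Or.inl inferInstance) q
  have hPQ : ∀ g ∈ (P : Subgroup M), ∀ x ∈ (Q : Subgroup R'), g * (x : M) = x * g := by
    intro g hg x hx
    have h1 := hQ ⟨g, hg⟩ x hx
    set z : R' := conjOn R' (P : Subgroup M) ⟨g, hg⟩ x * x⁻¹ with hz
    have hzQ : z ∈ (Q : Subgroup R') := mul_mem h1 (inv_mem hx)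
    have hzv : (z : M) = g * x * g⁻¹ * (x : M)⁻¹ := rfl
    have hzB : (z : M) ∈ B' := by
      rw [hzv, show g * (x : M) * g⁻¹ * (x : M)⁻¹ = g * ((x : M) * g⁻¹ * (x : M)⁻¹) by group]
      exact B'.mul_mem (hPB hg) (Subgroup.Normal.conj_mem inferInstance _ (B'.inv_mem (hPB hg)) _)
    obtain ⟨i, hi⟩ := Q.2 ⟨z, hzQ⟩
    have h2 : (z : M) ^ q ^ i = 1 :=
      congrArg (fun w : (Q : Subgroup R') => ((w : R') : M)) hi
    have h3 : (z : M) ^ Nat.card B' = 1 :=
      congrArg Subtype.val (pow_card_eq_one' (x := (⟨(z : M), hzB⟩ : B')))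
    have h4 := pow_gcd_eq_one.2 ⟨h2, h3⟩
    rw [((Cores.pPrimeCore_coprime q).symm.pow_left i).gcd_eq_one, pow_one, hzv,
      mul_inv_eq_one, mul_inv_eq_iff_eq_mul] at h4
    exact h4
  let act : M →* MulAut L := (MulAut.conjNormal (H := L)).comp M.subtype
  have hactval : ∀ (m : M) (l : L), ((act m l : L) : G) = (m : G) * l * (m : G)⁻¹ := fun _ _ => rfl
  have hdecomp : ∀ g : G, g * (π g : G)⁻¹ ∈ L := fun g => by
    rw [← hπL, map_mul, map_inv, hπM, mul_inv_cancel]
  -- conjugation on `L` factors through `π`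
  have hconj : ∀ (g : G) (l : L), MulAut.conjNormal g l = act (π g) l := by
    intro g l
    refine Subtype.ext ?_
    rw [hactval, MulAut.conjNormal_apply]
    set a : G := g * (π g : G)⁻¹ with ha
    have haL : a ∈ L := hdecomp g
    have h2 := congrArg Subtype.val (hcomm ⟨a, haL⟩ (act (π g) l))
    simp only [Subgroup.coe_mul, hactval] at h2
    calc g * (l : G) * g⁻¹ = a * ((π g : G) * l * (π g : G)⁻¹) * a⁻¹ := by rw [ha]; group
      _ = _ := by rw [h2, mul_inv_cancel_right]
  have hM' : ∀ χ : Cfsg.IrrCharacter M, ¬ p ∣ Cfsg.charDegree (χ : M → ℂ) →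
      ¬ q ∣ Cfsg.charDegree (χ : M → ℂ) := by
    intro χ hχ
    have h1 := hp ⟨_, Basic.isIrrCharacter_comp π hπs χ.2⟩ (fun g hg => by
      rw [← hAdef, hA, Subgroup.mem_bot] at hg; rw [hg])
      (by simpa [Cfsg.charDegree] using hχ)
    simpa [Cfsg.charDegree] using h1
  have hlin : ∀ (lam : L →* ℂˣ) (T : Subgroup M), (∀ m, m ∈ T ↔ ∀ v, lam (act m v) = lam v) →
      (P : Subgroup M) ≤ T → ¬ q ∣ T.index := by
    intro lam T hTmem hPT
    letI := Fintype.ofFinite G
    letI := Fintype.ofFinite L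
    let θ : Cfsg.IrrCharacter L := Linear.linChar lam
    set TG := T.comap π with hTG
    letI := Fintype.ofFinite TG
    have hLT : L ≤ TG := fun l hl => by
      rw [hTG, Subgroup.mem_comap, (hπL l).2 hl]; exact T.one_mem
    have hinert : TG = inertia L (θ : L → ℂ) := by
      ext g
      rw [hTG, Subgroup.mem_comap, hTmem, mem_inertia]
      constructor
      · intro h
        funext l
        show (lam (MulAut.conjNormal g l) : ℂ) = (lam l : ℂ)
        rw [hconj, h]
      · intro h l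
        refine Units.ext ?_
        have h1 := congrFun h l
        change (lam (MulAut.conjNormal g l) : ℂ) = (lam l : ℂ) at h1
        rwa [hconj] at h1
    let lext : TG →* ℂˣ := MonoidHom.mk' (fun t => lam ⟨_, hdecomp t⟩) fun s t => by
      have h1 : (⟨_, hdecomp (s * t : TG)⟩ : L) =
          ⟨_, hdecomp s⟩ * act (π s) ⟨_, hdecomp t⟩ := by
        refine Subtype.ext ?_
        show ((s : G) * t) * (π ((s : G) * t) : G)⁻¹ =
          (s : G) * (π s : G)⁻¹ * ((π s : G) * ((t : G) * (π t : G)⁻¹) * (π s : G)⁻¹)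
        rw [map_mul, Subgroup.coe_mul]
        group
      rw [h1, map_mul, (hTmem (π s)).1 s.2]
    let ψ : Cfsg.IrrCharacter TG := Linear.linChar lext
    have hres : (ψ : TG → ℂ) ∘ Subgroup.inclusion hLT = (θ : L → ℂ) := by
      funext l
      show (lam ⟨_, hdecomp (l : G)⟩ : ℂ) = (lam l : ℂ)
      congr 2
      refine Subtype.ext ?_
      show (l : G) * (π (l : G) : G)⁻¹ = l
      rw [(hπL l).2 l.2, Subgroup.coe_one, inv_one, mul_one]
    obtain ⟨χ, hχ, -, -⟩ := RelGlauberman.correspondence L θ TG hLT hinert ψ (by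
      rw [hres, Basic.classInner_self_irr]; exact one_ne_zero)
    have hdeg : Cfsg.charDegree (χ : G → ℂ) = T.index := by
      rw [Cfsg.charDegree, ← hχ, Induced.Basic.indFun_one,
        show (ψ : TG → ℂ) 1 = 1 by simp [ψ, Linear.linChar_apply], mul_one,
        Complex.natCast_re, Nat.floor_natCast, hTG, Subgroup.index_comap_of_surjective T hπs]
    rw [← hdeg]
    refine hp χ (fun g hg => ?_) ?_
    · rw [← hAdef, hA, Subgroup.mem_bot] at hg; rw [hg]
    · rw [hdeg]
      exact fun h => P.not_dvd_index (h.trans (Subgroup.index_dvd_of_le hPT))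
  have htriv := sylow_acts_trivially P R' hpR' (PSolvable.isPSolvable_subgroup hqsM R') Q hpq hPQ
    hM' hLp act hlin
  -- the kernel of the action on `R'` is normal in `G`
  set K : Subgroup M := act.ker ⊓ R' with hK
  haveI hKn : (K.map M.subtype).Normal := by
    refine ⟨?_⟩
    rintro _ ⟨y, hy, rfl⟩ g
    have hy' : π g * y * (π g)⁻¹ ∈ K := Subgroup.Normal.conj_mem inferInstance y hy _
    refine ⟨_, hy', ?_⟩
    set a : G := g * (π g : G)⁻¹ with ha
    have hfix := congrArg Subtype.val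
      (DFunLike.congr_fun (MonoidHom.mem_ker.1 hy'.1) ⟨a, hdecomp g⟩)
    rw [hactval] at hfix
    simp only [MulAut.one_apply] at hfix
    show ((π g * y * (π g)⁻¹ : M) : G) = g * (y : G) * g⁻¹
    set z : G := ((π g * y * (π g)⁻¹ : M) : G) with hz
    have h3 : g * (y : G) * g⁻¹ = a * z * a⁻¹ := by
      rw [ha, hz, Subgroup.coe_mul, Subgroup.coe_mul, Subgroup.coe_inv]; group
    rw [h3, ← mul_inv_eq_iff_eq_mul.1 hfix, mul_inv_cancel_right]
  have hKbot : K = ⊥ := by
    have h1 : K.map M.subtype ≤ ⊥ := hA ▸ Cores.le_pPrimeCore (by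
      rw [Subgroup.card_map_of_injective M.subtype_injective]
      exact (Cores.pPrimeCore_coprime p).coprime_dvd_left (Subgroup.card_dvd_of_le inf_le_right))
    rwa [le_bot_iff, Subgroup.map_eq_bot_iff_of_injective _ M.subtype_injective] at h1
  have hQbot : (Q : Subgroup R') = ⊥ := (Subgroup.eq_bot_iff_forall _).2 fun x hx => by
    have h1 : (x : M) ∈ K := ⟨MonoidHom.mem_ker.2 (MulEquiv.ext fun l => htriv x hx l), x.2⟩
    rw [hKbot, Subgroup.mem_bot] at h1
    exact Subtype.ext h1
  have hqR' : ¬ q ∣ Nat.card R' := by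
    intro h
    have h1 := Q.not_dvd_index
    rw [hQbot, Subgroup.index_bot] at h1
    exact h1 h
  rw [← hcardM, ← R'.card_mul_index] at hqG
  rcases (Nat.Prime.dvd_mul hqq).1 hqG with h | h
  · rcases (Nat.Prime.dvd_mul hqq).1 h with h | h
    · exact hqR' h
    · exact hR'idx h
  · exact hqL h

/-- Under the two hypotheses on degrees, `q` does not divide the index of `O_{p'}`. -/
theorem not_dvd_index {G : Type u} [Group G] [Finite G] {p q : ℕ} [Fact p.Prime] [Fact q.Prime]
    (hpq : p ≠ q) (hps : Cfsg.IsPSolvable p G) (hqs : Cfsg.IsPSolvable q G)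
    (hp : Cross p q G) (hq : Cross q p G) : ¬ q ∣ (Cfsg.pPrimeCore p G).index :=
  index_aux _ p q le_rfl hpq hps hqs hp hq

end Cfsg.Agent.Lib.Chars82.CrossDegrees
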