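import Cfsg.Agent.Lib.Characters.Indicator

/-!
A real irreducible character containing the trivial character of some subgroup with odd
multiplicity has Frobenius-Schur indicator one: the invariant skew form of a character with
indicator minus one is nondegenerate on the fixed space of every subgroup.
-/

set_option autoImplicit false

namespace Cfsg.Agent.Lib.Chars82.FixedSpaceIndicator

open Cfsg.Agent.Lib
open scoped Kronecker ComplexConjugate

universe u

variable {G : Type u} [Group G] [Fintype G]

/-- Odd multiplicity of the trivial character of a subgroup forces indicator `1`. -/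
theorem indicator_eq_one_of_odd_fixed (χ : Cfsg.IrrCharacter G)
    (hreal : ∀ g, ((χ : G → ℂ) g).im = 0) (H : Subgroup G) [Fintype H] {r : ℕ}
    (hr : (Nat.card H : ℂ)⁻¹ * ∑ x : H, (χ : G → ℂ) x = r) (hodd : Odd r) :
    (Nat.card G : ℂ)⁻¹ * ∑ s : G, (χ : G → ℂ) (s * s) = 1 := by
  classical
  rcases (Characters.Indicator.indicator_spec χ).1 hreal with h | h
  · exact h
  exfalso
  obtain ⟨n, ρ, hρ, hχ⟩ := Characters.Basic.exists_rep χ
  set M : G →* Matrix (Fin n) (Fin n) ℂ :=
    (LinearMap.toMatrixAlgEquiv' (R := ℂ) (n := Fin n)).toAlgHom.toMonoidHom.comp ρ with hMdef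
  have hM : ∀ g, ρ.character g = (M g).trace := fun g =>
    LinearMap.trace_eq_matrix_trace ℂ (Pi.basisFun ℂ (Fin n)) (ρ g)
  set P : Matrix (Fin n × Fin n) (Fin n × Fin n) ℂ :=
    (Nat.card G : ℂ)⁻¹ • ∑ g : G, M g ⊗ₖ M g with hP
  have hfix : ∀ g : G, (M g ⊗ₖ M g) * P = P := by
    intro g
    rw [hP, mul_smul_comm, Finset.mul_sum]
    congr 1
    exact Fintype.sum_equiv (Equiv.mulLeft g) _ _ fun x => by simp [← Matrix.mul_kronecker_mul]
  have htr : P.trace = 1 := by
    have h1 := Characters.Basic.classInner_self_irr χ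
    rw [Cfsg.classInner] at h1
    rw [hP, Matrix.trace_smul, Matrix.trace_sum, smul_eq_mul, ← h1]
    congr 1
    refine Finset.sum_congr rfl fun g _ => ?_
    rw [Matrix.trace_kronecker, ← hM, hχ, Complex.conj_eq_iff_im.mpr (hreal g)]
  have hswap : ∑ a, P a a.swap = -1 := by
    rw [← h, ← hχ]
    simp only [hP, Matrix.smul_apply, Matrix.sum_apply, smul_eq_mul, ← Finset.mul_sum]
    rw [Finset.sum_comm]
    congr 1
    refine Finset.sum_congr rfl fun g _ => ?_
    rw [hM, map_mul, Matrix.trace, Fintype.sum_prod_type]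
    simp [Matrix.kronecker_apply, Matrix.mul_apply]
  obtain ⟨b, hb⟩ : ∃ b : Fin n × Fin n, P b b - P b.swap b ≠ 0 := by
    by_contra hno
    have h0 : ∀ b : Fin n × Fin n, P b b - P b.swap b = 0 := fun b => not_not.1 fun hb => hno ⟨b, hb⟩
    have h1 : ∑ b : Fin n × Fin n, (P b b - P b.swap b) = 0 := Finset.sum_eq_zero fun b _ => h0 b
    have h2 : ∑ b : Fin n × Fin n, P b.swap b = -1 := by
      rw [← hswap]
      exact Fintype.sum_equiv (Equiv.prodComm (Fin n) (Fin n)) _ _ fun a => by simp
    have h3 : ∑ b : Fin n × Fin n, P b b = 1 := htr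
    rw [Finset.sum_sub_distrib, h3, h2] at h1
    norm_num at h1
  set U : Matrix (Fin n) (Fin n) ℂ := Matrix.of fun i j => P (i, j) b - P (j, i) b with hU
  have hUne : U ≠ 0 := fun h0 => hb (by
    have h4 := congrFun (congrFun h0 b.1) b.2
    simpa [hU, Prod.swap] using h4)
  have hUT : U.transpose = -U := by
    ext i j
    simp [hU]
  have hinvU : ∀ g, M g * U * (M g).transpose = U := by
    intro g
    ext i j
    have e1 : ∀ i j, P (i, j) b = ∑ k, ∑ l, M g i k * M g j l * P (k, l) b := by
      intro i j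
      conv_lhs => rw [← hfix g]
      rw [Matrix.mul_apply, Fintype.sum_prod_type]
      simp [Matrix.kronecker_apply]
    have e2 : P (j, i) b = ∑ k, ∑ l, M g i k * M g j l * P (l, k) b := by
      rw [e1 j i, Finset.sum_comm]
      simp only [mul_comm (M g j _) (M g i _)]
    have e3 : (M g * U * (M g).transpose) i j = ∑ k, ∑ l, M g i k * M g j l * U k l := by
      simp only [Matrix.mul_apply, Matrix.transpose_apply, Finset.sum_mul]
      rw [Finset.sum_comm]
      exact Finset.sum_congr rfl fun k _ => Finset.sum_congr rfl fun l _ => by ring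
    rw [e3]
    simp only [hU, Matrix.of_apply, mul_sub, Finset.sum_sub_distrib]
    rw [← e1 i j, ← e2]
  -- the range is invariant
  have hMinv : ∀ g, (M g).transpose * (M g⁻¹).transpose = 1 := fun g => by
    rw [← Matrix.transpose_mul, ← map_mul, inv_mul_cancel, map_one, Matrix.transpose_one]
  let T : Subrepresentation ρ :=
    ⟨LinearMap.range (Matrix.toLin' U), fun g v hv => by
      obtain ⟨x, rfl⟩ := hv
      refine ⟨(M g⁻¹).transpose.mulVec x, ?_⟩
      have h5 : M g * U = U * (M g⁻¹).transpose := by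
        calc M g * U = M g * U * ((M g).transpose * (M g⁻¹).transpose) := by rw [hMinv, mul_one]
          _ = U * (M g⁻¹).transpose := by rw [← mul_assoc, hinvU]
      have h6 : ρ g = Matrix.toLin' (M g) := by
        simp [hMdef, LinearMap.toMatrixAlgEquiv', Matrix.toLin'_toMatrix']
      rw [h6, Matrix.toLin'_apply, Matrix.toLin'_apply, Matrix.toLin'_apply, Matrix.mulVec_mulVec,
        Matrix.mulVec_mulVec, h5]⟩
  have hTtop : LinearMap.range (Matrix.toLin' U) = ⊤ := by
    rcases eq_bot_or_eq_top T with hT | hT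
    · exfalso
      apply hUne
      have h7 : LinearMap.range (Matrix.toLin' U) = ⊥ := congrArg Subrepresentation.toSubmodule hT
      exact (LinearEquiv.map_eq_zero_iff _).mp (LinearMap.range_eq_bot.1 h7)
    · exact congrArg Subrepresentation.toSubmodule hT
  have hdet : U.det ≠ 0 := by
    rw [← LinearMap.det_toLin']
    exact ((LinearMap.isUnit_iff_isUnit_det _).1
      ((Module.End.isUnit_iff _).2 ⟨LinearMap.injective_iff_surjective.2 (LinearMap.range_eq_top.1 hTtop),
        LinearMap.range_eq_top.1 hTtop⟩)).ne_zero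
  -- the averaging idempotent of `H` and the form it carries
  set E : Matrix (Fin n) (Fin n) ℂ := (Nat.card H : ℂ)⁻¹ • ∑ x : H, M x with hE
  have hMx : ∀ g, M g * U = U * (M g⁻¹).transpose := fun g => by
    calc M g * U = M g * U * ((M g).transpose * (M g⁻¹).transpose) := by rw [hMinv, mul_one]
      _ = U * (M g⁻¹).transpose := by rw [← mul_assoc, hinvU]
  have hEU : E * U = U * E.transpose := by
    rw [hE, Matrix.smul_mul, Finset.sum_mul, Matrix.transpose_smul, Matrix.transpose_sum,
      Matrix.mul_smul, Finset.mul_sum]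
    congr 1
    refine Fintype.sum_equiv (Equiv.inv H) _ _ fun x => ?_
    rw [hMx, Equiv.inv_apply, InvMemClass.coe_inv]
  have hEE : E * E = E := by
    have hH : (Nat.card H : ℂ) ≠ 0 := Nat.cast_ne_zero.mpr Nat.card_pos.ne'
    have h1 : ∀ y : H, M y * (∑ x : H, M x) = ∑ x : H, M x := fun y => by
      rw [Finset.mul_sum]
      exact Fintype.sum_equiv (Equiv.mulLeft y) _ _ fun x => by simp
    rw [hE, Matrix.smul_mul, Matrix.mul_smul, smul_smul, Finset.sum_mul,
      Finset.sum_congr rfl fun y _ => h1 y, Finset.sum_const, Finset.card_univ,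
      ← Nat.cast_smul_eq_nsmul ℂ, smul_smul, Fintype.card_eq_nat_card, mul_assoc,
      inv_mul_cancel₀ hH, mul_one]
  have hproj : LinearMap.IsProj (LinearMap.range (Matrix.toLin' E)) (Matrix.toLin' E) := by
    refine ⟨fun x => LinearMap.mem_range_self _ x, fun x hx => ?_⟩
    obtain ⟨y, rfl⟩ := hx
    rw [← LinearMap.comp_apply, ← Matrix.toLin'_mul, hEE]
  have hfin : Module.finrank ℂ (LinearMap.range (Matrix.toLin' E)) = r := by
    have h1 := hproj.trace
    rw [LinearMap.trace_eq_matrix_trace ℂ (Pi.basisFun ℂ (Fin n)),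
      ← Matrix.toLin_eq_toLin', LinearMap.toMatrix_toLin, hE, Matrix.trace_smul,
      Matrix.trace_sum, smul_eq_mul] at h1
    have h2 : ∑ x : H, (M (x : G)).trace = ∑ x : H, (χ : G → ℂ) x :=
      Finset.sum_congr rfl fun x _ => by rw [← hM, hχ]
    rw [h2, hr] at h1
    exact_mod_cast h1.symm
  let e := (Module.finBasisOfFinrankEq ℂ _ hfin).equivFun
  let f : (Fin n → ℂ) →ₗ[ℂ] (Fin r → ℂ) := e.toLinearMap ∘ₗ (Matrix.toLin' E).rangeRestrict
  let g : (Fin r → ℂ) →ₗ[ℂ] (Fin n → ℂ) :=
    (LinearMap.range (Matrix.toLin' E)).subtype ∘ₗ e.symm.toLinearMap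
  set Y := LinearMap.toMatrix' f with hY
  set X := LinearMap.toMatrix' g with hX
  have hXY : X * Y = E := by
    rw [hX, hY, ← LinearMap.toMatrix'_comp]
    conv_rhs => rw [← LinearMap.toMatrix'_toLin' E]
    congr 1
    refine LinearMap.ext fun v => ?_
    simp [f, g]
  have hYX : Y * X = 1 := by
    rw [hX, hY, ← LinearMap.toMatrix'_comp, ← LinearMap.toMatrix'_id]
    congr 1
    refine LinearMap.ext fun v => ?_
    show e ((Matrix.toLin' E).rangeRestrict (e.symm v : Fin n → ℂ)) = v
    have h1 : (Matrix.toLin' E).rangeRestrict (e.symm v : Fin n → ℂ) = e.symm v :=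
      Subtype.ext (hproj.map_id _ (e.symm v).2)
    rw [h1, LinearEquiv.apply_symm_apply]
  set A := Y * U * Y.transpose with hA
  have hAT : A.transpose = -A := by
    rw [hA, Matrix.transpose_mul, Matrix.transpose_mul, Matrix.transpose_transpose, hUT,
      Matrix.neg_mul, Matrix.mul_neg, Matrix.mul_assoc]
  have hAi : A * (X.transpose * U⁻¹ * X) = 1 := by
    have hUi : U * U⁻¹ = 1 := Matrix.mul_nonsing_inv U (Ne.isUnit hdet)
    calc A * (X.transpose * U⁻¹ * X) = Y * (U * (X * Y).transpose) * U⁻¹ * X := by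
          rw [hA, Matrix.transpose_mul]; simp only [Matrix.mul_assoc]
      _ = (Y * E) * (U * U⁻¹) * X := by rw [hXY, ← hEU]; simp only [Matrix.mul_assoc]
      _ = (Y * X) * (Y * X) := by rw [hUi, Matrix.mul_one, ← hXY]; simp only [Matrix.mul_assoc]
      _ = 1 := by rw [hYX, mul_one]
  have hdetA : A.det ≠ 0 := fun h0 => by
    have := congrArg Matrix.det hAi
    rw [Matrix.det_mul, h0, zero_mul, Matrix.det_one] at this
    exact zero_ne_one this
  have h8 := congrArg Matrix.det hAT
  rw [Matrix.det_transpose, Matrix.det_neg, Fintype.card_fin, hodd.neg_one_pow] at h8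
  exact hdetA (by linear_combination h8 / 2)

end Cfsg.Agent.Lib.Chars82.FixedSpaceIndicator
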