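import Cfsg.Agent.Lib.BC77.FongBlocks
import Cfsg.Agent.Lib.BlockOverCore.Main
import Cfsg.Agent.Lib.BC78.CoprimeFix
import Cfsg.Agent.Lib.Brauer.DegreeRatio
import Cfsg.Agent.Lib.BlocksChars5.Restrict
import Cfsg.Agent.Lib.RelGlauberman.Basic
import Cfsg.Agent.Lib.PSolvable.HallHigman
import Cfsg.Prelude.Def_Local

/-!
# Heights in p-solvable groups

A character in a block with defect group `P` of a p-solvable group has height at most
`ν_p (#P / #Z(P))`.
-/

set_option autoImplicit false
set_option linter.style.haveILetI false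

namespace Cfsg.Agent.Lib.Chars82.HeightCentre

open Cfsg.Agent.Lib Cfsg.Agent.Lib.Characters.Basic Cfsg.Agent.Lib.Clifford.Basic

universe u

variable {G : Type u} [Group G] {p : ℕ} [Fact p.Prime]

theorem index_center_congr {H K : Type*} [Group H] [Group K] (e : H ≃* K) :
    (Subgroup.center H).index = (Subgroup.center K).index := by
  have h : Subgroup.center H = (Subgroup.center K).comap (e : H →* K) := by
    ext x
    simp only [Subgroup.mem_comap, Subgroup.mem_center_iff, MonoidHom.coe_coe]
    refine ⟨fun h k => ?_, fun h k => e.injective (by simpa using h (e k))⟩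
    obtain ⟨y, rfl⟩ := e.surjective k
    rw [← map_mul, ← map_mul, h]
  rw [h, Subgroup.index_comap_of_surjective (f := (e : H →* K)) _ e.surjective]

/-- An irreducible character over an invariant character of degree prime to `p` of a normal
`p'`-subgroup with abelian `p`-power index has degree prime to `p`. -/
theorem not_dvd_degree [Fintype G] (N : Subgroup G) [hN : N.Normal] [Fintype N] {m : ℕ}
    (hidx : N.index = p ^ m) (hNp : ¬ p ∣ Nat.card N)
    (hab : ∀ a b : G ⧸ N, a * b = b * a)
    (θ : Cfsg.IrrCharacter N) (hinv : ∀ g, conjC N g θ = (θ : N → ℂ))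
    (η : Cfsg.IrrCharacter G) (hη : Cfsg.classInner (fun n : N => (η : G → ℂ) n) θ ≠ 0) :
    ¬ p ∣ Cfsg.charDegree (η : G → ℂ) := by
  have hθ : ¬ p ∣ Cfsg.charDegree (θ : N → ℂ) := fun h =>
    hNp (h.trans (BlocksChars5.Basic.degree_dvd_card θ))
  obtain ⟨χ, hχ⟩ := BC78.CoprimeFix.exists_extension N hidx hNp θ
    (fun g => Subtype.ext (hinv g)) hθ
  letI := Fintype.ofFinite (G ⧸ N)
  obtain ⟨-, -, hsur⟩ := RelGlauberman.gallagher_quot (π := QuotientGroup.mk' N) N
    (QuotientGroup.mk'_surjective N) (QuotientGroup.ker_mk' N) hχ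
  obtain ⟨β, hβ⟩ := hsur η hη
  have h1 : (η : G → ℂ) 1 = (θ : N → ℂ) 1 := by
    have := RelGlauberman.twist_restrict N (π := QuotientGroup.mk' N)
      (QuotientGroup.ker_mk' N) hχ β 1
    rw [← congrFun hβ, OneMemClass.coe_one] at this
    rw [this]; simp [BlocksChars5.Basic.degree_eq_one_of_comm β hab]
  rw [BlocksChars5.Basic.charDegree_congr h1]
  exact hθ

/-- The invariant case. -/
theorem factorization_degree_le [Fintype G] (hsolv : Cfsg.IsPSolvable p G) (N : Subgroup G)
    [hN : N.Normal] [Fintype N] (hNeq : N = Cfsg.pPrimeCore p G)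
    (θ : Cfsg.IrrCharacter N) (hinv : ∀ g, conjC N g θ = (θ : N → ℂ))
    (χ : Cfsg.IrrCharacter G) (hχ : Cfsg.classInner (fun n : N => (χ : G → ℂ) n) θ ≠ 0)
    (P : Sylow p G) :
    (Cfsg.charDegree (χ : G → ℂ)).factorization p ≤
      (Subgroup.center (P : Subgroup G)).index.factorization p := by
  classical
  have hpp : p.Prime := Fact.out
  have hcop : (Nat.card N).Coprime p := hNeq ▸ PSolvable.card_pPrimeCore_coprime
  have hNp : ¬ p ∣ Nat.card N := hpp.coprime_iff_not_dvd.1 hcop.symm
  set q := QuotientGroup.mk' N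
  set O := Cfsg.pCore p (G ⧸ N) with hO
  have hOc : Subgroup.centralizer (O : Set (G ⧸ N)) ≤ O :=
    PSolvable.centralizer_pCore_le (PSolvable.isPSolvable_quotient hsolv N)
      (PSolvable.pPrimeCore_quotient_eq_bot N hNeq)
  let Pb : Sylow p (G ⧸ N) := P.mapSurjective (f := q) (QuotientGroup.mk'_surjective N)
  haveI hOn : O.Normal := by rw [hO]; infer_instance
  have hOP : O ≤ (P : Subgroup G).map q := by
    have hOp : IsPGroup p O := hO ▸ PSolvable.isPGroup_pCore
    exact IsPGroup.le_sylow_of_normal hOp Pb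
  let A : Subgroup (G ⧸ N) := (Subgroup.center O).map O.subtype
  haveI hAn : A.Normal := ConjAct.normal_of_characteristic_of_normal
  have hAab : ∀ a ∈ A, ∀ b ∈ A, a * b = b * a := by
    rintro _ ⟨a, ha, rfl⟩ _ ⟨b, _, rfl⟩
    exact congrArg Subtype.val (Subgroup.mem_center_iff.1 ha b).symm
  let f : (P : Subgroup G) →* G ⧸ N := q.comp (P : Subgroup G).subtype
  have hf : Function.Injective f := by
    rw [injective_iff_map_eq_one]
    intro x hx
    have hxN : (x : G) ∈ N := (QuotientGroup.eq_one_iff _).1 hx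
    have hd : Disjoint (P : Subgroup G) N := by
      obtain ⟨k, hk⟩ := IsPGroup.iff_card.1 P.2
      exact (Subgroup.disjoint_of_coprime_natCard
        (hk.symm ▸ Nat.Coprime.pow_left k hcop.symm))
    exact Subtype.ext (Subgroup.disjoint_def.1 hd x.2 hxN)
  have hZA : (Subgroup.center (P : Subgroup G)).map f ≤ A := by
    rintro _ ⟨z, hz, rfl⟩
    have hc : f z ∈ Subgroup.centralizer (O : Set (G ⧸ N)) := by
      rw [Subgroup.mem_centralizer_iff]
      intro y hy
      obtain ⟨w, hw, rfl⟩ := hOP hy
      have h := congrArg f (Subgroup.mem_center_iff.1 hz ⟨w, hw⟩)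
      simpa [f] using h
    refine ⟨⟨f z, hOc hc⟩, Subgroup.mem_center_iff.2 fun y => Subtype.ext ?_, rfl⟩
    exact Subgroup.mem_centralizer_iff.1 hc y y.2
  set M : Subgroup G := A.comap q with hM
  have hNM : N ≤ M := QuotientGroup.le_comap_mk' N A
  haveI hMn : M.Normal := hAn.comap q
  letI := Fintype.ofFinite M
  obtain ⟨η, hη⟩ := exists_constituent_restrict M χ.2
  let N' : Subgroup M := N.subgroupOf M
  haveI hN'n : N'.Normal := hN.subgroupOf M
  letI := Fintype.ofFinite N'
  let ι : N' ≃* N := Subgroup.subgroupOfEquivOfLe hNM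
  -- every constituent on `M` lies over `θ`
  obtain ⟨θ', hθ'⟩ := exists_constituent_restrict N' η.2
  have hθ0 : Cfsg.classInner ((fun n : N' => (χ : G → ℂ) ((n : M) : G))) θ' ≠ 0 :=
    BC78.CoprimeFix.inner_ne_zero_comp N'.subtype
      (isCharacter_comp M.subtype (isCharacter_irr χ)) η (isCharacter_irr θ') hη hθ'
  let θN : Cfsg.IrrCharacter N :=
    ⟨_, isIrrCharacter_comp ι.symm.toMonoidHom ι.symm.surjective θ'.2⟩
  have hθN : Cfsg.classInner (fun n : N => (χ : G → ℂ) n) θN ≠ 0 := by
    have e : Cfsg.classInner (fun n : N => (χ : G → ℂ) n) θN =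
        Cfsg.classInner (fun n : N' => (χ : G → ℂ) ((n : M) : G)) θ' := by
      simp only [Cfsg.classInner]
      rw [Nat.card_congr ι.toEquiv]
      congr 1
      exact (Fintype.sum_equiv ι.toEquiv _ _ fun n => by
        simp only [θN, Function.comp_apply, MulEquiv.coe_toMonoidHom]
        rfl).symm
    rwa [e]
  obtain ⟨g, hg⟩ := exists_conj_of_constituents N χ.2 hχ hθN
  have heq : (θN : N → ℂ) = θ := by rw [← hg, hinv]
  have hinv' : ∀ x, conjC N' x θ' = (θ' : N' → ℂ) := by
    intro x
    funext n
    have h : ∀ k : N', (θ' : N' → ℂ) k = (θ : N → ℂ) (ι k) := fun k => by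
      rw [← heq]; simp [θN]
    rw [conjC_apply, h, h]
    exact congrFun (hinv (x : G)) (ι n)
  obtain ⟨k, hk⟩ : ∃ k, Nat.card A = p ^ k :=
    IsPGroup.iff_card.1 ((hO ▸ (PSolvable.isPGroup_pCore : IsPGroup p (Cfsg.pCore p (G ⧸ N)))).to_le
      (Subgroup.map_subtype_le _))
  have hidx : N'.index = p ^ k := by
    have h := Subgroup.relIndex_ker (K := M) q
    rw [QuotientGroup.ker_mk', hM,
      Subgroup.map_comap_eq_self_of_surjective (QuotientGroup.mk'_surjective N) A] at h
    rw [← hk]
    exact h
  have hab : ∀ a b : M ⧸ N', a * b = b * a := by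
    intro a b
    induction a using QuotientGroup.induction_on with
    | H a =>
    induction b using QuotientGroup.induction_on with
    | H b =>
    rw [← QuotientGroup.mk_mul, ← QuotientGroup.mk_mul, QuotientGroup.eq,
      Subgroup.mem_subgroupOf]
    have h := hAab _ a.2 _ b.2
    rw [← map_mul, ← map_mul] at h
    exact QuotientGroup.eq.1 h
  have hηp : ¬ p ∣ Cfsg.charDegree (η : M → ℂ) :=
    not_dvd_degree N' hidx (by rwa [Nat.card_congr ι.toEquiv]) hab θ' hinv' η hθ'
  obtain ⟨e, he, hedvd⟩ := BlocksChars5.Restrict.ratio_dvd_nat M χ η hη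
  have he0 : e ≠ 0 := fun h => by
    rw [h, zero_mul] at he
    exact (BlocksChars5.Basic.degree_pos χ).ne' he
  rw [he, Nat.factorization_mul he0 (BlocksChars5.Basic.degree_pos η).ne', Finsupp.add_apply,
    Nat.factorization_eq_zero_of_not_dvd hηp, add_zero]
  have h1 : e.factorization p ≤ M.index.factorization p :=
    (Nat.factorization_le_iff_dvd he0 Subgroup.index_ne_zero_of_finite).2 hedvd p
  refine h1.trans ?_
  have hMA : M.index = A.index :=
    Subgroup.index_comap_of_surjective (f := q) A (QuotientGroup.mk'_surjective N)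
  rw [hMA]
  have h2 : Nat.card (Subgroup.center (P : Subgroup G)) ∣ Nat.card A := by
    rw [← Subgroup.card_map_of_injective (f := f) hf]
    exact Subgroup.card_dvd_of_le hZA
  have h3 : (Nat.card (P : Subgroup G)).factorization p =
      (Nat.card (G ⧸ N)).factorization p := by
    have e1 : Nat.card (P : Subgroup G) = Nat.card (Pb : Subgroup (G ⧸ N)) := by
      have hr : f.range = (Pb : Subgroup (G ⧸ N)) := by
        rw [MonoidHom.range_comp, Subgroup.range_subtype]; rfl
      rw [← hr]
      exact Nat.card_congr (MonoidHom.ofInjective hf).toEquiv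
    rw [e1, Pb.card_eq_multiplicity, Nat.factorization_pow, Finsupp.smul_apply,
      hpp.factorization_self, smul_eq_mul, mul_one]
  have h5 : (Nat.card (G ⧸ N)).factorization p =
      (Nat.card A).factorization p + A.index.factorization p := by
    rw [← Subgroup.card_mul_index A, Nat.factorization_mul Nat.card_pos.ne'
      Subgroup.index_ne_zero_of_finite, Finsupp.add_apply]
  have h6 : (Nat.card (P : Subgroup G)).factorization p =
      (Nat.card (Subgroup.center (P : Subgroup G))).factorization p +
        (Subgroup.center (P : Subgroup G)).index.factorization p := by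
    rw [← Subgroup.card_mul_index (Subgroup.center (P : Subgroup G)),
      Nat.factorization_mul Nat.card_pos.ne'
      Subgroup.index_ne_zero_of_finite, Finsupp.add_apply]
  have h7 := (Nat.factorization_le_iff_dvd Nat.card_pos.ne' Nat.card_pos.ne').2 h2 p
  omega

theorem height_le_aux : ∀ (n : ℕ) {G : Type u} [Group G] [Finite G], Nat.card G ≤ n →
    Cfsg.IsPSolvable p G → ∀ (M : Ideal Cfsg.AlgInt), Cfsg.IsPModular p M →
    ∀ (B : Set (Cfsg.IrrCharacter G)), Cfsg.IsPBlock M B →
    ∀ (P : Subgroup G), Cfsg.IsDefectGroup p M B P → ∀ χ : Cfsg.IrrCharacter G, χ ∈ B →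
      Cfsg.blockHeight p B (χ : G → ℂ) ≤ (Subgroup.center P).index.factorization p := by
  classical
  intro n
  induction n with
  | zero => intro G _ _ h; exact absurd h (by simp [Nat.card_pos.ne'])
  | succ n ih =>
    intro G _ _ hn hsolv M hMp B hB P hP χ hχ
    haveI := hMp.2.1
    letI := Fintype.ofFinite G
    let N := Cfsg.pPrimeCore p G
    letI := Fintype.ofFinite N
    have hNp : ¬ p ∣ Nat.card N :=
      (Fact.out : p.Prime).coprime_iff_not_dvd.1 (PSolvable.card_pPrimeCore_coprime).symm
    obtain ⟨θ, hθ⟩ := exists_constituent_restrict N χ.2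
    let b : Set (Cfsg.IrrCharacter N) := Cfsg.blockOf M (θ : N → ℂ)
    have hb : Cfsg.IsPBlock M b := ⟨θ, rfl⟩
    have hbθ : θ ∈ b := Blocks.mem_blockOf_self θ
    have hsing : ∀ η ∈ b, η = θ := fun η hη =>
      BlockOverCore.FullDefect.eq_of_sameBlock N hMp hNp hη
    set T := inertia N (θ : N → ℂ) with hT
    by_cases hTop : T = ⊤
    · have hinv : ∀ g, conjC N g θ = (θ : N → ℂ) := fun g => by
        rw [← mem_inertia, ← hT, hTop]; exact Subgroup.mem_top g
      have hcent : Subgroup.centralizer ((Cfsg.pCore p (G ⧸ N) : Subgroup (G ⧸ N)) :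
          Set (G ⧸ N)) ≤ Cfsg.pCore p (G ⧸ N) :=
        PSolvable.centralizer_pCore_le (PSolvable.isPSolvable_quotient hsolv N)
          (PSolvable.pPrimeCore_quotient_eq_bot N rfl)
      obtain ⟨B₁, hB₁, hmem, -, hdef⟩ :=
        BlockOverCore.Main.exists_block hMp N hNp hcent θ hinv
      have he : B = B₁ := by
        rw [Blocks.isPBlock_eq_blockOf hB hχ,
          Blocks.isPBlock_eq_blockOf hB₁ ((hmem χ).2 hθ)]
      obtain ⟨S, rfl⟩ := hdef P (he ▸ hP)
      exact (Nat.sub_le _ _).trans
        (factorization_degree_le hsolv N rfl θ hinv χ hθ S)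
    · letI := Fintype.ofFinite T
      have hNT : N ≤ T := le_inertia (N := N) (isClassFunction_irr θ)
      have hstab : BC77.Fong.IsStab N b T :=
        { le := hNT
          stable := fun g hg η hη => by
            rw [hsing η hη]
            have e : BrauerMap.Normal.conjIrr N g θ = θ := Subtype.ext (funext fun m =>
              (BrauerMap.Normal.conjIrr_apply N g θ m).trans (congrFun hg m))
            rw [e]; exact hbθ
          disjoint := fun g hg η hη hmem => hg (by
            have e := hsing _ hmem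
            rw [hsing η hη] at e
            exact funext fun m => (BrauerMap.Normal.conjIrr_apply N g θ m).symm.trans
              (congrFun (congrArg Subtype.val e) m)) }
      obtain ⟨ψ, hψ, hup⟩ := BC77.Fong.exists_up_eq N b T hstab χ hbθ hθ
      let B' : Set (Cfsg.IrrCharacter T) := Cfsg.blockOf M (ψ : T → ℂ)
      have hB' : Cfsg.IsPBlock M B' := ⟨ψ, rfl⟩
      have hψB : ψ ∈ B' := Blocks.mem_blockOf_self ψ
      have hind := BC77.Fong.isInducedBlock_up N b T hb hstab hB' hψB hψ
      rw [hup, ← Blocks.isPBlock_eq_blockOf hB hχ] at hind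
      obtain ⟨D, hD⟩ := Blocks.exists_isDefectGroup (p := p) hB'
      have hDB := BC77.Fong.isDefectGroup_map N b T hMp hb hstab hB' ⟨ψ, hψB, hψ⟩ hind hD
      obtain ⟨x, hx⟩ := Blocks.isDefectGroup_conj hMp hB hDB hP
      have hcard : Nat.card T ≤ n := by
        have := Subgroup.card_mul_index T
        have hi : T.index ≠ 1 := fun h => hTop (Subgroup.index_eq_one.1 h)
        have hi0 : T.index ≠ 0 := Subgroup.index_ne_zero_of_finite
        have hpos : 0 < Nat.card T := Nat.card_pos
        nlinarith [Nat.lt_of_le_of_ne (Nat.one_le_iff_ne_zero.2 hi0) (Ne.symm hi)]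
      have h := ih hcard (PSolvable.isPSolvable_subgroup hsolv T) M hMp B' hB' D hD ψ hψB
      rw [← hup, BC77.Fong.blockHeight_up N b T hb hstab hB' ⟨ψ, hψB, hψ⟩ hind ψ hψ]
      refine h.trans (le_of_eq ?_)
      rw [← hx]
      exact congrArg (fun k => k.factorization p) (index_center_congr
        ((D.equivMapOfInjective _ T.subtype_injective).trans
          ((D.map T.subtype).equivMapOfInjective _ (MulAut.conj x).injective)))

end Cfsg.Agent.Lib.Chars82.HeightCentre
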