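import Cfsg.Agent.Lib.Characters.Indicator
import Cfsg.Agent.Lib.BrauerMap.Inflation
import Cfsg.Agent.Lib.Characters.Linear

/-!
# Real classes of a quotient by a normal subgroup of odd order

Every real class of the quotient lifts to a real class; if all real characters are inflated from
the quotient, the lift is unique, so the subgroup has no nontrivial real element.
-/

set_option autoImplicit false

namespace Cfsg.Agent.Lib.Chars82.RealLift

open Cfsg.Agent.Lib.Characters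

universe u

variable {G : Type u} [Group G] [Finite G]

/-- A real element of a quotient by a normal subgroup of odd order has a real preimage. -/
theorem exists_real_lift (M : Subgroup G) [M.Normal] (hodd : Odd (Nat.card M)) (z : G ⧸ M)
    (hz : IsConj z z⁻¹) : ∃ g : G, (g : G ⧸ M) = z ∧ IsConj g g⁻¹ := by
  classical
  haveI : Fact (Nat.Prime 2) := ⟨Nat.prime_two⟩
  obtain ⟨c, hc⟩ := isConj_iff.1 hz
  obtain ⟨y₀, rfl⟩ := QuotientGroup.mk_surjective c
  -- pass to a `2`-element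
  set o := orderOf y₀ with ho
  have ho0 : o ≠ 0 := (orderOf_pos y₀).ne'
  set m := o / 2 ^ o.factorization 2 with hm
  have hmodd : Odd m := by
    rw [← Nat.not_even_iff_odd, even_iff_two_dvd]
    exact fun h => absurd ((Nat.coprime_ordCompl Nat.prime_two ho0).eq_one_of_dvd h) (by norm_num)
  set y := y₀ ^ m with hy
  set a := o.factorization 2 with ha
  have hy2 : y ^ 2 ^ a = 1 := by
    rw [hy, ← pow_mul, mul_comm, hm, Nat.mul_div_cancel' (Nat.ordProj_dvd o 2), ho,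
      pow_orderOf_eq_one]
  have hcy : (y : G ⧸ M) * z * (y : G ⧸ M)⁻¹ = z⁻¹ := by
    have hsq : (y₀ : G ⧸ M) ^ 2 * z * ((y₀ : G ⧸ M) ^ 2)⁻¹ = z := by
      rw [pow_two, mul_inv_rev, show (y₀ : G ⧸ M) * y₀ * z * ((y₀ : G ⧸ M)⁻¹ * (y₀ : G ⧸ M)⁻¹) =
        (y₀ : G ⧸ M) * ((y₀ : G ⧸ M) * z * (y₀ : G ⧸ M)⁻¹) * (y₀ : G ⧸ M)⁻¹ by group, hc,
        ← conj_inv, hc, inv_inv]
    obtain ⟨j, hj⟩ := hmodd
    have hpow : ∀ i : ℕ, ((y₀ : G ⧸ M) ^ 2) ^ i * z * (((y₀ : G ⧸ M) ^ 2) ^ i)⁻¹ = z := by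
      intro i
      induction i with
      | zero => simp
      | succ i ih =>
        rw [pow_succ, mul_inv_rev]
        calc ((y₀ : G ⧸ M) ^ 2) ^ i * (y₀ : G ⧸ M) ^ 2 * z *
              (((y₀ : G ⧸ M) ^ 2)⁻¹ * (((y₀ : G ⧸ M) ^ 2) ^ i)⁻¹)
            = ((y₀ : G ⧸ M) ^ 2) ^ i * ((y₀ : G ⧸ M) ^ 2 * z * ((y₀ : G ⧸ M) ^ 2)⁻¹) *
              (((y₀ : G ⧸ M) ^ 2) ^ i)⁻¹ := by group
          _ = z := by rw [hsq, ih]
    rw [hy, hj, QuotientGroup.mk_pow, pow_succ', pow_mul, mul_inv_rev]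
    calc (y₀ : G ⧸ M) * ((y₀ : G ⧸ M) ^ 2) ^ j * z *
          ((((y₀ : G ⧸ M) ^ 2) ^ j)⁻¹ * (y₀ : G ⧸ M)⁻¹)
        = (y₀ : G ⧸ M) * (((y₀ : G ⧸ M) ^ 2) ^ j * z * (((y₀ : G ⧸ M) ^ 2) ^ j)⁻¹) *
          (y₀ : G ⧸ M)⁻¹ := by group
      _ = z⁻¹ := by rw [hpow, hc]
  -- a permutation of the coset of `2`-power order
  let X := {g : G // (g : G ⧸ M) = z}
  letI := Fintype.ofFinite X
  have hmem : ∀ g : X, ((y * (g : G)⁻¹ * y⁻¹ : G) : G ⧸ M) = z := by
    intro g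
    rw [QuotientGroup.mk_mul, QuotientGroup.mk_mul, QuotientGroup.mk_inv, QuotientGroup.mk_inv,
      g.2, ← conj_inv, hcy, inv_inv]
  let φ : X → X := fun g => ⟨_, hmem g⟩
  have hiter : ∀ (i : ℕ) (g : X),
      ((φ^[2 * i] g : X) : G) = y ^ (2 * i) * (g : G) * (y ^ (2 * i))⁻¹ := by
    intro i
    induction i with
    | zero => intro g; simp
    | succ i ih =>
      intro g
      rw [show 2 * (i + 1) = 2 * i + 2 by ring, Function.iterate_add_apply, ih]
      show y ^ (2 * i) * (y * (y * (g : G)⁻¹ * y⁻¹)⁻¹ * y⁻¹) * (y ^ (2 * i))⁻¹ = _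
      rw [pow_add, pow_two]
      group
  have hper : ∀ g : X, φ^[2 ^ (a + 1)] g = g := fun g => by
    refine Subtype.ext ?_
    rw [pow_succ', hiter, pow_mul' y 2, hy2, one_pow, one_mul, inv_one, mul_one]
  let σ : Equiv.Perm X :=
    { toFun := φ
      invFun := φ^[2 ^ (a + 1) - 1]
      left_inv := fun g => by
        rw [← Function.iterate_succ_apply, Nat.succ_eq_add_one,
          Nat.sub_add_cancel Nat.one_le_two_pow]
        exact hper g
      right_inv := fun g => by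
        rw [← Function.iterate_succ_apply' φ, Nat.succ_eq_add_one,
          Nat.sub_add_cancel Nat.one_le_two_pow]
        exact hper g }
  have hσ : σ ^ 2 ^ (a + 1) = 1 := Equiv.ext fun g => by
    rw [← Equiv.Perm.iterate_eq_pow]
    exact hper g
  obtain ⟨x, rfl⟩ := QuotientGroup.mk_surjective z
  have hcard : ¬ 2 ∣ Fintype.card X := by
    let e : M ≃ X :=
      { toFun := fun m => ⟨x * m, by
          rw [QuotientGroup.mk_mul, (QuotientGroup.eq_one_iff (m : G)).2 m.2, mul_one]⟩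
        invFun := fun g => ⟨x⁻¹ * g, QuotientGroup.eq.1 g.2.symm⟩
        left_inv := fun m => Subtype.ext (by simp)
        right_inv := fun g => Subtype.ext (by simp) }
    rw [← Nat.card_eq_fintype_card, ← Nat.card_congr e, ← even_iff_two_dvd,
      Nat.not_even_iff_odd]
    exact hodd
  obtain ⟨g, hg⟩ := Equiv.Perm.exists_fixed_point_of_prime hcard hσ
  refine ⟨g, g.2, isConj_iff.2 ⟨y, ?_⟩⟩
  have h1 : y * (g : G)⁻¹ * y⁻¹ = g := congrArg Subtype.val hg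
  rw [← conj_inv, inv_eq_iff_eq_inv] at h1
  exact h1

/-- If every real character is trivial on a normal subgroup `M` of odd order, the only real
element of `M` is the identity. -/
theorem eq_one_of_real (M : Subgroup G) [M.Normal] (hodd : Odd (Nat.card M))
    (hker : ∀ χ : Cfsg.IrrCharacter G, (∀ g : G, ((χ : G → ℂ) g).im = 0) →
      ∀ m ∈ M, (χ : G → ℂ) m = (χ : G → ℂ) 1)
    {m : G} (hm : m ∈ M) (hreal : IsConj m m⁻¹) : m = 1 := by
  classical
  let f := QuotientGroup.mk' M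
  have hf : Function.Surjective f := QuotientGroup.mk'_surjective M
  let R := {χ : Cfsg.IrrCharacter G // ∀ g : G, ((χ : G → ℂ) g).im = 0}
  let R' := {χ : Cfsg.IrrCharacter (G ⧸ M) // ∀ g : G ⧸ M, ((χ : G ⧸ M → ℂ) g).im = 0}
  let inf : R' → R := fun χ =>
    ⟨⟨_, Basic.isIrrCharacter_comp f hf χ.1.2⟩, fun g => χ.2 (f g)⟩
  have hsur : Function.Surjective inf := by
    intro χ
    obtain ⟨φ, hφ⟩ := Cfsg.Agent.Lib.BrauerMap.Inflation.exists_infl f hf χ.1
      fun g hg => hker χ.1 χ.2 g ((QuotientGroup.eq_one_iff g).1 hg)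
    refine ⟨⟨φ, fun z => ?_⟩, Subtype.ext hφ⟩
    obtain ⟨g, rfl⟩ := hf z
    have h := χ.2 g
    rw [← hφ] at h
    exact h
  let C := {c : ConjClasses G // ∀ g : G, ConjClasses.mk g = c → IsConj g g⁻¹}
  let C' := {c : ConjClasses (G ⧸ M) // ∀ g : G ⧸ M, ConjClasses.mk g = c → IsConj g g⁻¹}
  have hmap : ∀ c : C, ∀ z : G ⧸ M, ConjClasses.mk z = ConjClasses.map f c.1 →
      IsConj z z⁻¹ := by
    rintro ⟨c, hc⟩ z hz
    obtain ⟨g, rfl⟩ := ConjClasses.mk_surjective c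
    have h1 : IsConj z (f g) := ConjClasses.mk_eq_mk_iff_isConj.1 hz
    obtain ⟨d, hd⟩ := isConj_iff.1 h1
    obtain ⟨e, he⟩ := isConj_iff.1 (f.map_isConj (hc g rfl))
    refine h1.trans (isConj_iff.2 ⟨d⁻¹ * e, ?_⟩)
    calc d⁻¹ * e * f g * (d⁻¹ * e)⁻¹ = d⁻¹ * (e * f g * e⁻¹) * d := by group
      _ = d⁻¹ * (f g⁻¹) * d := by rw [he]
      _ = z⁻¹ := by rw [map_inv, ← hd]; group
  let Φ : C → C' := fun c => ⟨ConjClasses.map f c.1, hmap c⟩
  have hΦ : Function.Surjective Φ := by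
    rintro ⟨c, hc⟩
    obtain ⟨z, rfl⟩ := ConjClasses.mk_surjective c
    obtain ⟨g, hg, hgr⟩ := exists_real_lift M hodd z (hc z rfl)
    refine ⟨⟨ConjClasses.mk g, fun x hx => ?_⟩, Subtype.ext (congrArg ConjClasses.mk hg)⟩
    obtain ⟨d, hd⟩ := isConj_iff.1 (ConjClasses.mk_eq_mk_iff_isConj.1 hx)
    obtain ⟨e, he⟩ := isConj_iff.1 hgr
    refine isConj_iff.2 ⟨d⁻¹ * e * d, ?_⟩
    calc d⁻¹ * e * d * x * (d⁻¹ * e * d)⁻¹ = d⁻¹ * (e * (d * x * d⁻¹) * e⁻¹) * d := by group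
      _ = d⁻¹ * g⁻¹ * d := by rw [hd, he]
      _ = x⁻¹ := by rw [← hd]; group
  have hle : Nat.card C ≤ Nat.card C' := by
    rw [← Indicator.card_real_irr, ← Indicator.card_real_irr]
    exact Nat.card_le_card_of_surjective inf hsur
  have hbij := (Nat.bijective_iff_surjective_and_card Φ).2
    ⟨hΦ, le_antisymm hle (Nat.card_le_card_of_surjective Φ hΦ)⟩
  let cm : C := ⟨ConjClasses.mk m, fun x hx => by
    obtain ⟨d, hd⟩ := isConj_iff.1 (ConjClasses.mk_eq_mk_iff_isConj.1 hx)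
    obtain ⟨e, he⟩ := isConj_iff.1 hreal
    refine isConj_iff.2 ⟨d⁻¹ * e * d, ?_⟩
    calc d⁻¹ * e * d * x * (d⁻¹ * e * d)⁻¹ = d⁻¹ * (e * (d * x * d⁻¹) * e⁻¹) * d := by group
      _ = d⁻¹ * m⁻¹ * d := by rw [hd, he]
      _ = x⁻¹ := by rw [← hd]; group⟩
  let c1 : C := ⟨ConjClasses.mk 1, fun x hx => by
    rw [isConj_one_left.1 (ConjClasses.mk_eq_mk_iff_isConj.1 hx), inv_one]⟩
  have h : Φ cm = Φ c1 := Subtype.ext (by
    show ConjClasses.mk (f m) = ConjClasses.mk (f 1)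
    rw [show f m = 1 from (QuotientGroup.eq_one_iff m).2 hm, map_one])
  exact isConj_one_left.1 (ConjClasses.mk_eq_mk_iff_isConj.1 (congrArg Subtype.val (hbij.1 h)))

end Cfsg.Agent.Lib.Chars82.RealLift
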