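import Cfsg.Agent.Lib.Chars82.RealChars
import Cfsg.Agent.Lib.RelGlauberman.Main
import Cfsg.Agent.Lib.BrauerMap.Inflation
import Cfsg.Agent.Lib.Cores.Basic

/-!
# Real irreducible characters of degree prime to `p`

If all real irreducible characters of `G` have degree prime to `p`, `G/O^{2'}(G)` is a `p`-group and
the subgroup generated by the `p`-elements is solvable, then a Sylow `p`-subgroup is normal.
-/

set_option autoImplicit false

namespace Cfsg.Agent.Lib.Chars82.RealPrime

open scoped ComplexConjugate commutatorElement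
open Cfsg.Agent.Lib.Characters Cfsg.Agent.Lib.Clifford.Basic

universe u

/-! ## The subgroup generated by the `p`-elements -/

/-- The subgroup generated by the `p`-elements. -/
def pGen (p : ℕ) (G : Type u) [Group G] : Subgroup G :=
  Subgroup.closure {g : G | ∃ k : ℕ, orderOf g = p ^ k}

theorem mem_pGen {p : ℕ} {G : Type u} [Group G] {g : G} {k : ℕ} (h : orderOf g = p ^ k) :
    g ∈ pGen p G := Subgroup.subset_closure ⟨k, h⟩

theorem sylow_le_pGen {p : ℕ} [Fact p.Prime] {G : Type u} [Group G] (P : Sylow p G) :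
    (P : Subgroup G) ≤ pGen p G := fun x hx => by
  obtain ⟨k, hk⟩ := IsPGroup.iff_orderOf.1 P.2 ⟨x, hx⟩
  exact mem_pGen (k := k) (by rw [← hk, ← Subgroup.orderOf_coe])

instance pGen_normal (p : ℕ) (G : Type u) [Group G] : (pGen p G).Normal := by
  refine ⟨fun x hx g => ?_⟩
  suffices h : pGen p G ≤ (pGen p G).comap (MulAut.conj g).toMonoidHom from h hx
  refine (Subgroup.closure_le _).2 fun y ⟨k, hk⟩ => ?_
  exact mem_pGen (k := k) (by rw [← hk]; exact (MulAut.conj g).orderOf_eq y)

theorem map_pGen {p : ℕ} [Fact p.Prime] {G : Type u} [Group G] [Finite G] {H : Type u} [Group H]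
    (f : G →* H) (hf : Function.Surjective f) : (pGen p G).map f = pGen p H := by
  refine le_antisymm ?_ ?_
  · rw [Subgroup.map_le_iff_le_comap]
    refine (Subgroup.closure_le _).2 fun x ⟨k, hk⟩ => ?_
    obtain ⟨i, -, hi⟩ := (Nat.dvd_prime_pow (Fact.out : p.Prime)).1 (hk ▸ orderOf_map_dvd f x)
    exact mem_pGen hi
  · refine (Subgroup.closure_le _).2 fun y ⟨k, hk⟩ => ?_
    obtain ⟨g, rfl⟩ := hf y
    set m := orderOf g with hm
    set r := m / p ^ m.factorization p with hr
    have hm0 : m ≠ 0 := (orderOf_pos g).ne'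
    have hrp : (p ^ k).Coprime r := Nat.Coprime.pow_left k (Nat.coprime_ordCompl Fact.out hm0)
    have h1 : orderOf (g ^ r) = p ^ m.factorization p := by
      have hr0 : r ≠ 0 := (Nat.ordCompl_pos p hm0).ne'
      rw [orderOf_pow, Nat.gcd_eq_right (Nat.ordCompl_dvd m p)]
      exact Nat.div_div_self (Nat.ordProj_dvd m p) hm0
    have h2 : (f g) ^ r ∈ (pGen p G).map f := ⟨g ^ r, mem_pGen h1, map_pow f g r⟩
    obtain ⟨s, hs⟩ := exists_pow_eq_self_of_coprime (x := f g) (n := r) (hk ▸ hrp.symm)
    show f g ∈ _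
    rw [← hs]
    exact Subgroup.pow_mem _ h2 s

theorem map_subtype_pGen_le {p : ℕ} {G : Type u} [Group G] (K : Subgroup G) :
    (pGen p K).map K.subtype ≤ pGen p G := by
  rw [Subgroup.map_le_iff_le_comap]
  refine (Subgroup.closure_le _).2 fun x ⟨k, hk⟩ => ?_
  exact mem_pGen (k := k) (by rw [← hk]; exact Subgroup.orderOf_coe x)

/-- A subgroup containing all `p`-elements has the same generated subgroup. -/
theorem map_subtype_pGen {p : ℕ} {G : Type u} [Group G] {K : Subgroup G} (h : pGen p G ≤ K) :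
    (pGen p K).map K.subtype = pGen p G := by
  refine le_antisymm (map_subtype_pGen_le K) ((Subgroup.closure_le _).2 fun x ⟨k, hk⟩ => ?_)
  exact ⟨⟨x, h (mem_pGen hk)⟩, mem_pGen (k := k) (by rw [← hk, ← Subgroup.orderOf_coe]), rfl⟩

theorem pGen_self (p : ℕ) (G : Type u) [Group G] : pGen p (pGen p G) = ⊤ := by
  apply Subgroup.map_injective (Subgroup.subtype_injective (pGen p G))
  rw [map_subtype_pGen le_rfl, ← MonoidHom.range_eq_map, Subgroup.range_subtype]

theorem odd_index_pGen_two (G : Type u) [Group G] [Finite G] : Odd (pGen 2 G).index := by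
  haveI : Fact (Nat.Prime 2) := ⟨Nat.prime_two⟩
  obtain ⟨P⟩ : Nonempty (Sylow 2 G) := inferInstance
  rw [← Nat.not_even_iff_odd, even_iff_two_dvd]
  exact fun h => P.not_dvd_index (h.trans (Subgroup.index_dvd_of_le (sylow_le_pGen P)))

theorem isSolvable_pGen_map {p : ℕ} [Fact p.Prime] {G : Type u} [Group G] [Finite G] {H : Type u}
    [Group H] (f : G →* H) (hf : Function.Surjective f) (h : Group.IsSolvable (pGen p G)) :
    Group.IsSolvable (pGen p H) := by
  rw [← map_pGen f hf]
  exact Group.isSolvable_of_surjective (f := f.subgroupMap (pGen p G))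
    (f.subgroupMap_surjective _)

theorem isSolvable_pGen_subgroup {p : ℕ} {G : Type u} [Group G] (K : Subgroup G)
    (h : Group.IsSolvable (pGen p G)) : Group.IsSolvable (pGen p K) :=
  Group.isSolvable_of_isSolvable_injective
    (f := (K.subtype.comp (pGen p K).subtype).codRestrict (pGen p G)
      fun x => map_subtype_pGen_le K ⟨x, x.2, rfl⟩)
    fun a b hab => Subtype.ext (Subtype.ext (congrArg (fun z : pGen p G => (z : G)) hab :))

/-! ## The hypothesis on real characters -/

/-- All real irreducible characters have degree prime to `p`. -/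
def RealPPrime (p : ℕ) (G : Type u) [Group G] : Prop :=
  ∀ χ : Cfsg.IrrCharacter G, (∀ g : G, ((χ : G → ℂ) g).im = 0) →
    ¬ p ∣ Cfsg.charDegree (χ : G → ℂ)

theorem RealPPrime.of_surjective {p : ℕ} {G : Type u} [Group G] {H : Type u}
    [Group H] (h : RealPPrime p G) (f : G →* H) (hf : Function.Surjective f) : RealPPrime p H := by
  intro χ hχ
  have h1 := h ⟨_, Basic.isIrrCharacter_comp f hf χ.2⟩ fun g => hχ (f g)
  simpa [Cfsg.charDegree] using h1

/-- The constituents of a real character in a normal subgroup of odd index are real. -/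
theorem real_constituent {G : Type u} [Group G] [Fintype G] (K : Subgroup G) [K.Normal] [Fintype K]
    (hodd : Odd K.index) {χ : Cfsg.IrrCharacter G} (hχ : ∀ g : G, ((χ : G → ℂ) g).im = 0)
    {θ : Cfsg.IrrCharacter K} (hθ : Cfsg.classInner (fun k : K => (χ : G → ℂ) k) θ ≠ 0) :
    ∀ k : K, ((θ : K → ℂ) k).im = 0 := by
  have h : Cfsg.classInner (fun k : K => (χ : G → ℂ) k) (Linear.conjChar θ : K → ℂ) ≠ 0 := by
    rw [show Cfsg.classInner (fun k : K => (χ : G → ℂ) k) (Linear.conjChar θ : K → ℂ) =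
      conj (Cfsg.classInner (fun k : K => (χ : G → ℂ) k) (θ : K → ℂ)) from ?_]
    · exact fun h0 => hθ ((map_eq_zero _).1 h0)
    simp only [Cfsg.classInner, Linear.conjChar_apply, map_mul, map_inv₀, map_natCast, map_sum,
      Complex.conj_conj]
    simp only [fun k : K => Complex.conj_eq_iff_im.mpr (hχ (k : G))]
  obtain ⟨g, hg⟩ := exists_conj_of_constituents K χ.2 hθ h
  exact (RealChars.real_fixed_of_conj K hodd (θ := θ) (g := g) fun k => by
    rw [hg, Linear.conjChar_apply]).2

theorem RealPPrime.of_odd_index {p : ℕ} {G : Type u} [Group G] [Finite G] (h : RealPPrime p G)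
    (K : Subgroup G) [K.Normal] (hodd : Odd K.index) : RealPPrime p K := by
  intro θ hθ
  letI := Fintype.ofFinite G
  letI := Fintype.ofFinite K
  obtain ⟨χ, hχ, hm, -, -⟩ := RealChars.existsUnique_real_over K hodd θ hθ
  obtain ⟨d, hd⟩ := Basic.exists_degree (Basic.isCharacter_irr θ)
  obtain ⟨m, hm'⟩ := Basic.exists_classInner_nat
    (Basic.isCharacter_comp K.subtype (Basic.isCharacter_irr χ)) (Basic.isCharacter_irr θ)
  have h1 := clifford_degree K χ.2 θ hm
  rw [show (fun k : K => (χ : G → ℂ) k) = (χ : G → ℂ) ∘ K.subtype from rfl, hm', hd,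
    ← Nat.cast_mul, ← Nat.cast_mul] at h1
  have h2 := h χ hχ
  rw [Cfsg.charDegree, h1, Complex.natCast_re, Nat.floor_natCast] at h2
  rw [Cfsg.charDegree, hd, Complex.natCast_re, Nat.floor_natCast]
  exact fun h3 => h2 (h3.mul_left _)

/-! ## A real monomial character over an inverted linear character -/

/-- A linear character `λ` of a complemented abelian normal subgroup, inverted by an element of the
complement, lies under a real character whose degree is the length of its orbit. -/
theorem exists_real_over_linear {G : Type u} [Group G] [Finite G] (N : Subgroup G) [hNn : N.Normal]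
    (H : Subgroup G) (hNH : N ⊓ H = ⊥) (htop : N ⊔ H = ⊤)
    (hcomm : ∀ a b : N, a * b = b * a) (lam : N →* ℂˣ) {h : G} (hh : h ∈ H)
    (hinv : ∀ n : N, lam (MulAut.conjNormal h n) = (lam n)⁻¹) :
    ∃ χ : Cfsg.IrrCharacter G, (∀ g : G, ((χ : G → ℂ) g).im = 0) ∧
      Cfsg.charDegree (χ : G → ℂ) =
        (inertia N (Linear.linChar lam : N → ℂ)).index := by
  classical
  letI := Fintype.ofFinite G
  letI := Fintype.ofFinite N
  have hex : ∀ g : G, ∃ n : N, ∃ k ∈ H, (n : G) * k = g := fun g => by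
    obtain ⟨n, hn, k, hk, e⟩ := Subgroup.mem_sup_of_normal_left.1
      (htop ▸ Subgroup.mem_top g : g ∈ N ⊔ H)
    exact ⟨⟨n, hn⟩, k, hk, e⟩
  have huniq : ∀ {a b : N} {k l : G}, k ∈ H → l ∈ H → (a : G) * k = b * l → a = b := by
    intro a b k l hk hl e
    have h1 : ((b : G))⁻¹ * a = l * k⁻¹ := by
      calc ((b : G))⁻¹ * a = (b : G)⁻¹ * (a * k) * k⁻¹ := by group
        _ = _ := by rw [e]; group
    have h2 : ((b : G))⁻¹ * a ∈ N ⊓ H :=
      ⟨N.mul_mem (N.inv_mem b.2) a.2, h1 ▸ H.mul_mem hl (H.inv_mem hk)⟩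
    rw [hNH, Subgroup.mem_bot, inv_mul_eq_one] at h2
    exact Subtype.ext h2.symm
  choose nP kP hkP hnk using hex
  set T := inertia N (Linear.linChar lam : N → ℂ) with hT
  letI := Fintype.ofFinite T
  have hNT : N ≤ T := le_inertia N (Basic.isClassFunction_irr _)
  have hTmem : ∀ g : G, g ∈ T ↔ ∀ n : N, lam (MulAut.conjNormal g n) = lam n := by
    intro g
    rw [hT, mem_inertia]
    constructor
    · intro e n
      exact Units.ext (congrFun e n)
    · intro e
      funext n
      exact congrArg Units.val (e n)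
  have hkT : ∀ g ∈ T, kP g ∈ T := fun g hg => by
    have : kP g = ((nP g : N) : G)⁻¹ * g := by
      rw [eq_inv_mul_iff_mul_eq]; exact hnk g
    rw [this]
    exact T.mul_mem (T.inv_mem (hNT (nP g).2)) hg
  let lext : T →* ℂˣ := MonoidHom.mk' (fun t => lam (nP (t : G))) fun s t => by
    have e : nP ((s * t : T) : G) = nP (s : G) * MulAut.conjNormal (kP (s : G)) (nP (t : G)) := by
      refine huniq (hkP ((s * t : T) : G)) (H.mul_mem (hkP (s : G)) (hkP (t : G))) ?_
      rw [hnk, Subgroup.coe_mul, Subgroup.coe_mul, MulAut.conjNormal_apply]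
      conv_lhs => rw [← hnk (s : G), ← hnk (t : G)]
      group
    rw [e, map_mul, (hTmem _).1 (hkT _ s.2)]
  let ψ : Cfsg.IrrCharacter T := Linear.linChar lext
  have hres : (ψ : T → ℂ) ∘ Subgroup.inclusion hNT = (Linear.linChar lam : N → ℂ) := by
    funext n
    show (lam (nP (n : G)) : ℂ) = (lam n : ℂ)
    rw [huniq (hkP (n : G)) H.one_mem (show (nP (n : G) : G) * kP (n : G) = n * 1 by rw [hnk, mul_one])]
  obtain ⟨χ, hχ, -, -⟩ := RelGlauberman.correspondence N (Linear.linChar lam) T hNT hT ψ (by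
    rw [hres, Basic.classInner_self_irr]; exact one_ne_zero)
  -- `h` normalises `T` and sends the extension to its inverse
  have hTh : ∀ t : G, t ∈ T → h * t * h⁻¹ ∈ T := by
    intro t ht
    rw [hTmem]
    intro n
    obtain ⟨m, rfl⟩ := (MulAut.conjNormal (H := N) h).surjective n
    rw [show MulAut.conjNormal (h * t * h⁻¹) (MulAut.conjNormal h m) =
      MulAut.conjNormal h (MulAut.conjNormal t m) by
        rw [← MulAut.mul_apply, ← map_mul, ← MulAut.mul_apply, ← map_mul, inv_mul_cancel_right],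
      hinv, hinv, (hTmem t).1 ht]
  have hTh' : ∀ t : G, h * t * h⁻¹ ∈ T → t ∈ T := by
    intro t ht
    have hmap : T.map (MulAut.conj h).toMonoidHom = T := by
      refine Subgroup.eq_of_le_of_card_ge ?_
        (Subgroup.card_map_of_injective (MulAut.conj h).injective).ge
      rintro _ ⟨y, hy, rfl⟩
      exact hTh y hy
    obtain ⟨y, hy, e⟩ := hmap.ge ht
    have : y = t := (MulAut.conj h).injective e
    rwa [← this]
  have hext : ∀ (t : G) (ht : t ∈ T), (ψ : T → ℂ) ⟨h * t * h⁻¹, hTh t ht⟩ =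
      conj ((ψ : T → ℂ) ⟨t, ht⟩) := by
    intro t ht
    show (lam (nP (h * t * h⁻¹)) : ℂ) = conj (lam (nP t) : ℂ)
    rw [huniq (hkP (h * t * h⁻¹)) (H.mul_mem (H.mul_mem hh (hkP t)) (H.inv_mem hh))
      (show (nP (h * t * h⁻¹) : G) * kP (h * t * h⁻¹) =
        (MulAut.conjNormal h (nP t) : N) * (h * kP t * h⁻¹) by
          rw [hnk, MulAut.conjNormal_apply]
          conv_lhs => rw [← hnk t]
          group), hinv, Units.val_inv_eq_inv_val]
    have hpow : (lam (nP t) : ℂ) ^ Nat.card N = 1 := by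
      rw [← Units.val_pow_eq_pow_val, ← map_pow, pow_card_eq_one', map_one, Units.val_one]
    exact Complex.inv_eq_conj (Complex.norm_eq_one_of_pow_eq_one hpow Nat.card_pos.ne')
  refine ⟨χ, fun g => Complex.conj_eq_iff_im.1 ?_, ?_⟩
  · have h1 : conj ((χ : G → ℂ) g) = (χ : G → ℂ) (h * g * h⁻¹) := by
      rw [← hχ, Induced.Basic.indFun_apply, Induced.Basic.indFun_apply, map_mul, map_inv₀,
        map_natCast, map_sum]
      congr 1
      refine Fintype.sum_bijective (fun x : G => h * x * h⁻¹)
        (MulAut.conj h).bijective _ _ fun x => ?_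
      have e : (h * x * h⁻¹)⁻¹ * (h * g * h⁻¹) * (h * x * h⁻¹) = h * (x⁻¹ * g * x) * h⁻¹ := by
        group
      by_cases hx : x⁻¹ * g * x ∈ T
      · rw [dif_pos hx, dif_pos (e ▸ hTh _ hx), ← hext _ hx]
        exact congrArg _ (Subtype.ext e.symm)
      · rw [dif_neg hx, dif_neg (fun hy => hx (hTh' _ (e ▸ hy))), map_zero]
    rw [h1]
    exact Basic.isClassFunction_irr χ g h
  · rw [Cfsg.charDegree, ← hχ, Induced.Basic.indFun_one,
      show (ψ : T → ℂ) 1 = 1 by simp [ψ, Linear.linChar_apply], mul_one, Complex.natCast_re,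
      Nat.floor_natCast]

/-! ## The Sylow subgroup is normal -/

theorem normal_sylow_aux : ∀ (n : ℕ) {G : Type u} [Group G] [Finite G] (p : ℕ) [Fact p.Prime],
    Nat.card G ≤ n → Group.IsSolvable (pGen p G) → RealPPrime p G →
    (∃ a, (pGen 2 G).index = p ^ a) → ∀ P : Sylow p G, (P : Subgroup G).Normal := by
  intro n
  induction n with
  | zero => intro G _ _ _ _ hn; exact absurd hn (by have := Nat.card_pos (α := G); omega)
  | succ n ih =>
  intro G _ _ p _ hn hsolv hreal hidx P
  classical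
  haveI : Fact (Nat.Prime 2) := ⟨Nat.prime_two⟩
  have hpp : p.Prime := Fact.out
  set K := pGen 2 G with hK
  have hquot : ∀ N : Subgroup G, ∀ [N.Normal], N ≠ ⊥ →
      ((P : Subgroup G).map (QuotientGroup.mk' N)).Normal := by
    intro N _ hN
    have hlt : Nat.card (G ⧸ N) ≤ n := by
      have h2 : 1 < Nat.card N := N.one_lt_card_iff_ne_bot.2 hN
      have h3 : Nat.card (G ⧸ N) < Nat.card G := by
        rw [N.card_eq_card_quotient_mul_card_subgroup]
        exact lt_mul_of_one_lt_right Nat.card_pos h2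
      omega
    have hf := QuotientGroup.mk'_surjective N
    have := ih p hlt (isSolvable_pGen_map _ hf hsolv) (hreal.of_surjective _ hf) (by
      obtain ⟨a, ha⟩ := hidx
      obtain ⟨i, -, hi⟩ := (Nat.dvd_prime_pow hpp).1
        (ha ▸ Subgroup.index_map_dvd K hf)
      rw [map_pGen _ hf] at hi
      exact ⟨i, hi⟩) (P.mapSurjective hf)
    rwa [Sylow.coe_mapSurjective] at this
  by_cases hO : Cfsg.pCore p G ≠ ⊥
  · have := (hquot _ hO).comap (QuotientGroup.mk' (Cfsg.pCore p G))
    rwa [Subgroup.comap_map_eq, QuotientGroup.ker_mk',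
      sup_eq_left.2 (Cores.pCore_le_sylow P)] at this
  push Not at hO
  by_cases hK0 : K = ⊥
  · have hP : IsPGroup p G := by
      obtain ⟨a, ha⟩ := hidx
      rw [hK0, Subgroup.index_bot] at ha
      exact IsPGroup.of_card ha
    have : (P : Subgroup G) = ⊤ := by
      have h1 := P.is_maximal' (hP.to_subgroup ⊤) le_top
      exact h1.symm
    rw [this]
    infer_instance
  obtain ⟨N, hNK, hN⟩ := Finite.exists_le_minimal
    (p := fun S : Subgroup G => S.Normal ∧ S ≠ ⊥) (a := K) ⟨inferInstance, hK0⟩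
  haveI := hN.1.1
  have hmin : ∀ S : Subgroup G, S.Normal → S ≤ N → S = ⊥ ∨ S = N := fun S hS hSN =>
    or_iff_not_imp_left.2 fun hne => le_antisymm hSN (hN.2 ⟨hS, hne⟩ hSN)
  -- when `N` meets the subgroup generated by `p`-elements it is abelian
  have hcomm : ∀ y ∈ N, y ≠ 1 → y ∈ pGen p G → ∀ a b : N, a * b = b * a := by
    intro y hy hy1 hyL
    have hle : N ≤ pGen p G := by
      refine ((hmin (N ⊓ pGen p G) inferInstance inf_le_left).resolve_left fun h => hy1 ?_).ge.trans
        inf_le_right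
      have : y ∈ N ⊓ pGen p G := ⟨hy, hyL⟩
      rwa [h, Subgroup.mem_bot] at this
    haveI hNs : Group.IsSolvable N :=
      Group.isSolvable_of_isSolvable_injective (f := Subgroup.inclusion hle)
        (Subgroup.inclusion_injective hle)
    haveI : Nontrivial N := N.nontrivial_iff_ne_bot.2 hN.1.2
    haveI := Cores.normal_map_subtype N (commutator N)
    have hlt : commutator N < ⊤ := Group.IsSolvable.commutator_lt_top_of_nontrivial N
    have h0 : (commutator N).map N.subtype = ⊥ := by
      refine (hmin _ inferInstance (Subgroup.map_subtype_le _)).resolve_right fun h => hlt.ne ?_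
      apply Subgroup.map_injective N.subtype_injective
      rw [h, ← MonoidHom.range_eq_map, Subgroup.range_subtype]
    rw [Subgroup.map_eq_bot_iff_of_injective _ N.subtype_injective] at h0
    intro a b
    have h1 : ⁅a, b⁆ ∈ commutator N := by
      rw [commutator_def]
      exact Subgroup.commutator_mem_commutator (Subgroup.mem_top a) (Subgroup.mem_top b)
    rw [h0, Subgroup.mem_bot] at h1
    exact commutatorElement_eq_one_iff_mul_comm.1 h1
  have hpN : ¬ p ∣ Nat.card N := by
    intro hdvd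
    obtain ⟨y, hy⟩ := exists_prime_orderOf_dvd_card' p hdvd
    have hab := hcomm y y.2 (fun h => hpp.ne_one (by
      rw [← hy, show y = 1 from Subtype.ext h, orderOf_one]))
      (mem_pGen (k := 1) (by rw [pow_one, Subgroup.orderOf_coe, hy]))
    obtain ⟨S⟩ : Nonempty (Sylow p N) := inferInstance
    haveI : (S : Subgroup N).Normal := ⟨fun x hx g => by
      rwa [hab g x, mul_inv_cancel_right]⟩
    haveI : (S : Subgroup N).Characteristic := S.characteristic_of_normal ‹_›
    haveI := Cores.normal_map_subtype N (S : Subgroup N)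
    have h1 : (S : Subgroup N).map N.subtype ≤ ⊥ := hO ▸ Cores.le_pCore (S.2.map _)
    rw [le_bot_iff, Subgroup.map_eq_bot_iff_of_injective _ N.subtype_injective] at h1
    exact S.not_dvd_index (by rw [h1, Subgroup.index_bot]; exact hdvd)
  -- the Frattini argument
  set H := Subgroup.normalizer ((P : Subgroup G) : Set G) with hH
  have hPH : (P : Subgroup G) ≤ H := Subgroup.le_normalizer
  set R := ((P : Subgroup G).map (QuotientGroup.mk' N)).comap (QuotientGroup.mk' N) with hR
  haveI : R.Normal := (hquot N hN.1.2).comap _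
  have hReq : R = (P : Subgroup G) ⊔ N := by
    rw [hR, Subgroup.comap_map_eq, QuotientGroup.ker_mk']
  have htop : N ⊔ H = ⊤ := by
    have hPR : (P : Subgroup G) ≤ R := hReq ▸ le_sup_left
    have h1 := Sylow.normalizer_sup_eq_top (P.subtype hPR)
    rw [Sylow.coe_subtype, Subgroup.subgroupOf_map_subtype, inf_eq_left.2 hPR] at h1
    rw [eq_top_iff, ← h1, hReq]
    exact sup_le le_sup_right (sup_le (hPH.trans le_sup_right) le_sup_left)
  by_cases hPN : ∀ x ∈ (P : Subgroup G), ∀ y ∈ N, x * y = y * x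
  · rw [← Subgroup.normalizer_eq_top_iff, eq_top_iff, ← htop]
    refine sup_le (fun y hy => ?_) le_rfl
    refine Subgroup.centralizer_le_normalizer _ ?_
    exact Subgroup.mem_centralizer_iff.2 fun x hx => hPN x hx y hy
  push Not at hPN
  obtain ⟨x, hx, y, hy, hxy⟩ := hPN
  have hab : ∀ a b : N, a * b = b * a := by
    refine hcomm (x * y * x⁻¹ * y⁻¹) ?_ ?_ ?_
    · exact N.mul_mem (Subgroup.Normal.conj_mem inferInstance y hy x) (N.inv_mem hy)
    · rw [Ne, mul_inv_eq_one, mul_inv_eq_iff_eq_mul]; exact hxy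
    · have hxL := sylow_le_pGen P hx
      rw [show x * y * x⁻¹ * y⁻¹ = x * (y * x⁻¹ * y⁻¹) by group]
      exact (pGen p G).mul_mem hxL
        (Subgroup.Normal.conj_mem inferInstance _ ((pGen p G).inv_mem hxL) y)
  have hCbot : ∀ z ∈ N, (∀ x ∈ (P : Subgroup G), x * z = z * x) → z = 1 := by
    have hCn : (N ⊓ Subgroup.centralizer ((P : Subgroup G) : Set G)).Normal := by
      refine ⟨fun z hz g => ?_⟩
      obtain ⟨a, ha, k, hk, rfl⟩ := Subgroup.mem_sup_of_normal_left.1
        (htop ▸ Subgroup.mem_top g : g ∈ N ⊔ H)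
      have h1 : k * z * k⁻¹ ∈ N ⊓ Subgroup.centralizer ((P : Subgroup G) : Set G) := by
        refine ⟨Subgroup.Normal.conj_mem inferInstance z hz.1 k,
          Subgroup.mem_centralizer_iff.2 fun w hw => ?_⟩
        have hw' : k⁻¹ * w * k ∈ (P : Subgroup G) :=
          (Subgroup.mem_normalizer_iff''.1 hk w).1 hw
        have := Subgroup.mem_centralizer_iff.1 hz.2 _ hw'
        calc w * (k * z * k⁻¹) = k * ((k⁻¹ * w * k) * z) * k⁻¹ := by group
          _ = _ := by rw [this]; group
      have h2 : a * k * z * (a * k)⁻¹ = k * z * k⁻¹ := by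
        have := congrArg Subtype.val (hab ⟨a, ha⟩ ⟨k * z * k⁻¹, h1.1⟩)
        simp only [Subgroup.coe_mul] at this
        calc a * k * z * (a * k)⁻¹ = a * (k * z * k⁻¹) * a⁻¹ := by group
          _ = _ := by rw [this, mul_inv_cancel_right]
      rwa [h2]
    intro z hz hzP
    have hmem : z ∈ N ⊓ Subgroup.centralizer ((P : Subgroup G) : Set G) :=
      ⟨hz, Subgroup.mem_centralizer_iff.2 hzP⟩
    rcases hmin _ hCn inf_le_left with h | h
    · rwa [h, Subgroup.mem_bot] at hmem
    · exact absurd (Subgroup.mem_centralizer_iff.1 (h.ge hy).2 x hx) hxy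
  have hNH : N ⊓ H = ⊥ := by
    rw [Subgroup.eq_bot_iff_forall]
    intro z hz
    refine hCbot z hz.1 fun w hw => ?_
    have h1 : w * z * w⁻¹ * z⁻¹ ∈ N :=
      N.mul_mem (Subgroup.Normal.conj_mem inferInstance z hz.1 w) (N.inv_mem hz.1)
    have h2 : w * z * w⁻¹ * z⁻¹ ∈ (P : Subgroup G) := by
      rw [show w * z * w⁻¹ * z⁻¹ = w * (z * w⁻¹ * z⁻¹) by group]
      exact Subgroup.mul_mem _ hw ((Subgroup.mem_normalizer_iff.1 hz.2 _).1 (inv_mem hw))
    obtain ⟨i, hi⟩ := P.2 ⟨_, h2⟩
    have e1 : (w * z * w⁻¹ * z⁻¹) ^ p ^ i = 1 := congrArg Subtype.val hi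
    have e2 : (w * z * w⁻¹ * z⁻¹) ^ Nat.card N = 1 :=
      congrArg Subtype.val (pow_card_eq_one' (x := (⟨_, h1⟩ : N)))
    have e3 := pow_gcd_eq_one.2 ⟨e1, e2⟩
    rw [(Nat.Coprime.pow_left i (hpp.coprime_iff_not_dvd.2 hpN)).gcd_eq_one, pow_one,
      mul_inv_eq_one, mul_inv_eq_iff_eq_mul] at e3
    exact e3
  letI : CommGroup N := { (inferInstance : Group N) with mul_comm := hab }
  -- a nontrivial linear character inverted in `H`
  have hsep : ∀ n : N, n ≠ 1 → ∃ μ : N →* ℂˣ, μ n ≠ 1 := fun n hn1 =>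
    CommGroup.exists_apply_ne_one_of_hasEnoughRootsOfUnity N ℂ hn1
  obtain ⟨lam, hlam, h, hh, hinv⟩ : ∃ lam : N →* ℂˣ, lam ≠ 1 ∧ ∃ h ∈ H,
      ∀ m : N, lam (MulAut.conjNormal h m) = (lam m)⁻¹ := by
    by_cases hA : ∃ h ∈ H, (∃ i, orderOf h = 2 ^ i) ∧ MulAut.conjNormal (H := N) h ≠ 1
    · obtain ⟨h, hh, ⟨i, hi⟩, hne⟩ := hA
      obtain ⟨j, hj, hj'⟩ : ∃ j, MulAut.conjNormal (H := N) (h ^ 2 ^ j) ≠ 1 ∧
          MulAut.conjNormal (H := N) (h ^ 2 ^ (j + 1)) = 1 := by
        by_contra hcon
        push Not at hcon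
        have hall : ∀ j, MulAut.conjNormal (H := N) (h ^ 2 ^ j) ≠ 1 := by
          intro j
          induction j with
          | zero => simpa using hne
          | succ j ih => exact hcon j ih
        exact hall i (by rw [← hi, pow_orderOf_eq_one, map_one])
      set s := MulAut.conjNormal (H := N) (h ^ 2 ^ j) with hs
      have hs2 : ∀ m, s (s m) = m := fun m => by
        rw [← MulAut.mul_apply, hs, ← map_mul, ← pow_add, ← two_mul, ← pow_succ', hj']; rfl
      obtain ⟨m, hm⟩ : ∃ m, s m ≠ m := by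
        by_contra hcon
        push Not at hcon
        exact hj (MulEquiv.ext hcon)
      obtain ⟨μ, hμ⟩ := hsep (s m / m) fun e => hm (div_eq_one.1 e)
      refine ⟨μ / μ.comp s.toMonoidHom, fun e => hμ ?_, h ^ 2 ^ j, H.pow_mem hh _, fun w => ?_⟩
      · have := DFunLike.congr_fun e (s m)
        simp only [MonoidHom.div_apply, MonoidHom.comp_apply, MulEquiv.coe_toMonoidHom,
          MonoidHom.one_apply, hs2, div_eq_one] at this
        rw [map_div, this, div_self']
      · show μ (s w) / μ (s (s w)) = (μ w / μ (s w))⁻¹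
        rw [hs2, inv_div]
    push Not at hA
    by_cases h2 : 2 ∣ Nat.card N
    · -- exponent two
      let sq : N →* N := powMonoidHom 2
      haveI : (sq.range.map N.subtype).Normal := by
        refine ⟨?_⟩
        rintro _ ⟨_, ⟨w, rfl⟩, rfl⟩ g
        refine ⟨sq (MulAut.conjNormal g w), ⟨_, rfl⟩, ?_⟩
        show (((MulAut.conjNormal g w) ^ 2 : N) : G) = g * ((w ^ 2 : N) : G) * g⁻¹
        rw [← map_pow, MulAut.conjNormal_apply]
      have hbot : sq.range = ⊥ := by
        rw [← Subgroup.map_eq_bot_iff_of_injective _ N.subtype_injective]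
        refine (hmin _ inferInstance (Subgroup.map_subtype_le _)).resolve_right fun e => ?_
        have hsur : Function.Surjective sq := MonoidHom.range_eq_top.1 (by
          apply Subgroup.map_injective N.subtype_injective
          rw [e, ← MonoidHom.range_eq_map, Subgroup.range_subtype])
        have hinj := Finite.injective_iff_surjective.2 hsur
        obtain ⟨w, hw⟩ := exists_prime_orderOf_dvd_card' 2 h2
        have : w = 1 := hinj (by
          show w ^ 2 = (1 : N) ^ 2
          rw [one_pow, ← hw, pow_orderOf_eq_one])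
        rw [this, orderOf_one] at hw
        exact absurd hw (by norm_num)
      obtain ⟨w, hw⟩ : ∃ w : N, w ≠ 1 :=
        haveI := N.nontrivial_iff_ne_bot.2 hN.1.2
        exists_ne 1
      obtain ⟨μ, hμ⟩ := hsep w hw
      refine ⟨μ, fun e => hμ (by rw [e]; rfl), 1, H.one_mem, fun v => ?_⟩
      rw [map_one, MulAut.one_apply, eq_inv_iff_mul_eq_one, ← map_mul]
      have : v * v = 1 := by
        have h3 : sq v ∈ sq.range := ⟨v, rfl⟩
        rw [hbot, Subgroup.mem_bot] at h3
        rw [← pow_two]; exact h3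
      rw [this, map_one]
    -- otherwise `N` is a direct factor of odd order of `K`
    exfalso
    have hKN : ∀ g ∈ K, ∀ a : N, MulAut.conjNormal g a = a := by
      intro g hg a
      suffices hle : K ≤ (MulAut.conjNormal (H := N)).ker by
        rw [MonoidHom.mem_ker.1 (hle hg)]; rfl
      refine (Subgroup.closure_le _).2 fun z ⟨i, hi⟩ => ?_
      obtain ⟨c, hc, k, hk, rfl⟩ := Subgroup.mem_sup_of_normal_left.1
        (htop ▸ Subgroup.mem_top z : z ∈ N ⊔ H)
      have hcN : MulAut.conjNormal (H := N) c = 1 := MulEquiv.ext fun b => Subtype.ext (by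
        rw [MulAut.conjNormal_apply]
        have := congrArg Subtype.val (hab ⟨c, hc⟩ b)
        simp only [Subgroup.coe_mul] at this
        rw [this, mul_inv_cancel_right]; rfl)
      have hk2 : ∃ j, orderOf k = 2 ^ j := by
        have h1 : k ^ 2 ^ i ∈ N ⊓ H := by
          refine ⟨?_, H.pow_mem hk _⟩
          refine (QuotientGroup.eq_one_iff (N := N) (k ^ 2 ^ i)).1 ?_
          rw [QuotientGroup.mk_pow,
            show (k : G ⧸ N) = ((c * k : G) : G ⧸ N) by
              rw [QuotientGroup.mk_mul, (QuotientGroup.eq_one_iff c).2 hc, one_mul],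
            ← QuotientGroup.mk_pow, ← hi, pow_orderOf_eq_one]
          rfl
        rw [hNH, Subgroup.mem_bot] at h1
        obtain ⟨j, -, hj⟩ := (Nat.dvd_prime_pow Nat.prime_two).1 (orderOf_dvd_of_pow_eq_one h1)
        exact ⟨j, hj⟩
      show MulAut.conjNormal (H := N) (c * k) = 1
      rw [map_mul, hcN, one_mul, hA k hk hk2]
    have hex : ∀ g : G, ∃ c : N, (c : G)⁻¹ * g ∈ H := fun g => by
      obtain ⟨c, hc, k, hk, rfl⟩ := Subgroup.mem_sup_of_normal_left.1
        (htop ▸ Subgroup.mem_top g : g ∈ N ⊔ H)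
      exact ⟨⟨c, hc⟩, by simpa using hk⟩
    choose π hπ using hex
    have hun : ∀ (g : G) (c : N), (c : G)⁻¹ * g ∈ H → π g = c := by
      intro g c hc
      have h1 : (c : G)⁻¹ * (π g : G) ∈ N ⊓ H := by
        refine ⟨N.mul_mem (N.inv_mem c.2) (π g).2, ?_⟩
        rw [show (c : G)⁻¹ * (π g : G) = ((c : G)⁻¹ * g) * ((π g : G)⁻¹ * g)⁻¹ by group]
        exact H.mul_mem hc (H.inv_mem (hπ g))
      rw [hNH, Subgroup.mem_bot, inv_mul_eq_one] at h1
      exact Subtype.ext h1.symm
    let f : K →* N := MonoidHom.mk' (fun g => π (g : G)) fun a b => by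
      refine hun _ _ ?_
      have e := congrArg Subtype.val (hKN _ a.2 (π (b : G)))
      rw [MulAut.conjNormal_apply] at e
      have : ((π (a : G) * π (b : G) : N) : G)⁻¹ * ((a * b : K) : G) =
          ((π (a : G) : G)⁻¹ * a) * ((π (b : G) : G)⁻¹ * b) := by
        rw [Subgroup.coe_mul, Subgroup.coe_mul, mul_inv_rev]
        calc (π (b : G) : G)⁻¹ * (π (a : G) : G)⁻¹ * ((a : G) * b)
            = ((a : G) * (π (b : G) : G) * (a : G)⁻¹)⁻¹ * (π (a : G) : G)⁻¹ * ((a : G) * b) := by
              rw [e]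
          _ = ((π (a : G) : G) * ((a : G) * (π (b : G) : G) * (a : G)⁻¹))⁻¹ * ((a : G) * b) := by
              group
          _ = (((a : G) * (π (b : G) : G) * (a : G)⁻¹) * (π (a : G) : G))⁻¹ * ((a : G) * b) := by
              rw [e]
              have := congrArg Subtype.val (hab (π (a : G)) (π (b : G)))
              simp only [Subgroup.coe_mul] at this
              rw [this]
          _ = _ := by group
      rw [this]
      exact H.mul_mem (hπ _) (hπ _)
    have hf : f = 1 := by
      refine MonoidHom.eq_of_eqOn_dense (s := {g : K | ∃ i, orderOf g = 2 ^ i}) ?_ ?_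
      · exact pGen_self 2 G
      · rintro g ⟨i, hi⟩
        have h1 : f g ^ 2 ^ i = 1 := by rw [← map_pow, ← hi, pow_orderOf_eq_one, map_one]
        have h2' : f g ^ Nat.card N = 1 := pow_card_eq_one'
        have h3 := pow_gcd_eq_one.2 ⟨h1, h2'⟩
        rwa [(Nat.Coprime.pow_left i (Nat.prime_two.coprime_iff_not_dvd.2 h2)).gcd_eq_one,
          pow_one] at h3
    apply hN.1.2
    rw [Subgroup.eq_bot_iff_forall]
    intro c hc
    have h1 : π c = ⟨c, hc⟩ := hun c ⟨c, hc⟩ (by simp)
    have h4 : π c = 1 := DFunLike.congr_fun hf ⟨c, hNK hc⟩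
    exact congrArg Subtype.val (h1.symm.trans h4)
  -- its orbit has length divisible by `p`
  obtain ⟨χ, hχ, hdeg⟩ := exists_real_over_linear N H hNH htop hab lam hh hinv
  have hp := hreal χ hχ
  rw [hdeg] at hp
  set T := inertia N (Linear.linChar lam : N → ℂ) with hT
  exfalso
  apply hlam
  obtain ⟨S⟩ : Nonempty (Sylow p T) := inferInstance
  have hcard : Nat.card ((S : Subgroup T).map T.subtype) = p ^ (Nat.card G).factorization p := by
    rw [Subgroup.card_map_of_injective T.subtype_injective, S.card_eq_multiplicity,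
      ← T.card_mul_index, Nat.factorization_mul Nat.card_pos.ne'
      Subgroup.index_ne_zero_of_finite, Finsupp.add_apply,
      Nat.factorization_eq_zero_of_not_dvd hp, add_zero]
  obtain ⟨g, hg⟩ := MulAction.exists_smul_eq G P (Sylow.ofCard _ hcard)
  obtain ⟨c, hc, k, hk, rfl⟩ := Subgroup.mem_sup_of_normal_left.1
    (htop ▸ Subgroup.mem_top g : g ∈ N ⊔ H)
  have hNT : N ≤ T := le_inertia N (Basic.isClassFunction_irr _)
  have hPT : ∀ w ∈ (P : Subgroup G), w ∈ T := by
    intro w hw
    have h1 : c * w * c⁻¹ ∈ T := by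
      rw [mul_smul, Sylow.smul_eq_iff_mem_normalizer.2 hk] at hg
      have h2 : c * w * c⁻¹ ∈ ((c • P : Sylow p G) : Subgroup G) := by
        rw [Sylow.coe_subgroup_smul]
        exact ⟨w, hw, rfl⟩
      rw [hg, Sylow.coe_ofCard] at h2
      exact Subgroup.map_subtype_le _ h2
    rw [show w = c⁻¹ * (c * w * c⁻¹) * c by group]
    exact T.mul_mem (T.mul_mem (T.inv_mem (hNT hc)) h1) (hNT hc)
  refine MonoidHom.ext fun m => ?_
  letI := Fintype.ofFinite (P : Subgroup G)
  let τ : N := ∏ w : (P : Subgroup G), MulAut.conjNormal (w : G) m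
  have hτ : τ = 1 := by
    refine Subtype.ext (hCbot _ τ.2 fun w hw => ?_)
    have h1 : MulAut.conjNormal w τ = τ := by
      rw [map_prod]
      exact Fintype.prod_equiv (Equiv.mulLeft ⟨w, hw⟩) _ _ fun z => by simp
    have h2 := congrArg Subtype.val h1
    rw [MulAut.conjNormal_apply, mul_inv_eq_iff_eq_mul] at h2
    exact h2
  have h1 : lam m ^ Nat.card (P : Subgroup G) = 1 := by
    have h2 := congrArg lam hτ
    rw [map_prod, map_one] at h2
    have h3 : ∀ w : (P : Subgroup G), lam (MulAut.conjNormal (w : G) m) = lam m := fun w =>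
      Units.ext (congrFun ((mem_inertia N).1 (hPT w w.2)) m)
    simpa only [h3, Finset.prod_const, Finset.card_univ, Nat.card_eq_fintype_card] using h2
  have h2 : lam m ^ Nat.card N = 1 := by rw [← map_pow, pow_card_eq_one', map_one]
  have h3 := pow_gcd_eq_one.2 ⟨h1, h2⟩
  obtain ⟨i, hi⟩ := IsPGroup.iff_card.1 P.2
  rwa [hi, (Nat.Coprime.pow_left i (hpp.coprime_iff_not_dvd.2 hpN)).gcd_eq_one, pow_one] at h3

/-- With a `p`-group on top of the subgroup generated by the `2`-elements, the Sylow subgroup is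
normal. -/
theorem normal_sylow {G : Type u} [Group G] [Finite G] {p : ℕ} [Fact p.Prime]
    (hsolv : Group.IsSolvable (pGen p G)) (hreal : RealPPrime p G)
    (hidx : ∃ a, (pGen 2 G).index = p ^ a) (P : Sylow p G) : (P : Subgroup G).Normal :=
  normal_sylow_aux _ p le_rfl hsolv hreal hidx P

end Cfsg.Agent.Lib.Chars82.RealPrime
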