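import Cfsg.Agent.Lib.Chars82.RealPrime
import Cfsg.Agent.Lib.Chars82.CrossDegrees
import Cfsg.Agent.Lib.Glauberman.Solvable
import Cfsg.Agent.Lib.RelGlauberman.Main

/-!
# Real characters of degree prime to `p` and the normaliser of a Sylow subgroup

If all real characters have degree prime to `p` and a normal subgroup `K` of odd index has a normal
Sylow `p`-subgroup, the real characters of `G` correspond to the real characters of degree prime to
`p` of `N(P)`, with degrees congruent up to sign.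
-/

set_option autoImplicit false

namespace Cfsg.Agent.Lib.Chars82.RealPrimeCorr

open scoped ComplexConjugate Pointwise
open Cfsg.Agent.Lib.Characters Cfsg.Agent.Lib.Clifford.Basic
open Cfsg.Agent.Lib.RelGlauberman
open Cfsg.Agent.Lib.Glauberman (Inv mult coe_mult mult_twist)
open Cfsg.Agent.Lib.Chars82.RealPrime (RealPPrime real_constituent)

universe u

/-- One choice of finiteness data for subgroups in this file. -/
noncomputable local instance (priority := 10000) subgroupFintype {X : Type u} [Group X] [Finite X]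
    (S : Subgroup X) : Fintype S := Fintype.ofFinite S

variable {G : Type u} [Group G] [Fintype G] {p : ℕ} [Fact p.Prime] (P : Sylow p G)

/-- The normaliser of the Sylow subgroup. -/
abbrev nor : Subgroup G := Subgroup.normalizer ((P : Subgroup G) : Set G)

/-- Two conjugates of `P` inside `T` are conjugate in `T`. -/
theorem exists_mul_mem_nor (T : Subgroup G) (hP : (P : Subgroup G) ≤ T) (g : G)
    (hg : ∀ s ∈ (P : Subgroup G), g⁻¹ * s * g ∈ T) : ∃ t ∈ T, g * t ∈ nor P := by
  have hle : ((g⁻¹ • P : Sylow p G) : Subgroup G) ≤ T := by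
    rw [Sylow.coe_subgroup_smul]
    rintro _ ⟨s, hs, rfl⟩
    show g⁻¹ * s * g⁻¹⁻¹ ∈ T
    rw [inv_inv]
    exact hg s hs
  obtain ⟨t, ht⟩ := MulAction.exists_smul_eq T (P.subtype hP) ((g⁻¹ • P).subtype hle)
  refine ⟨t, t.2, Sylow.smul_eq_iff_mem_normalizer.1 ?_⟩
  have h1 : (t : G) • P = g⁻¹ • P := by
    apply Sylow.ext
    refine Subgroup.eq_of_le_of_card_ge ?_ ?_
    · rw [Sylow.coe_subgroup_smul]
      rintro _ ⟨s, hs, rfl⟩
      have h2 : t * (⟨s, hP hs⟩ : T) * t⁻¹ ∈ ((t • P.subtype hP : Sylow p T) : Subgroup T) := by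
        rw [Sylow.coe_subgroup_smul]
        exact ⟨⟨s, hP hs⟩, hs, rfl⟩
      rw [ht, Sylow.coe_subtype] at h2
      exact h2
    · rw [(g⁻¹ • P).card_eq_multiplicity, ((t : G) • P).card_eq_multiplicity]
  rw [mul_smul, h1, smul_inv_smul]

/-- An index is congruent modulo `p` to the index inside the normaliser. -/
theorem index_modEq_nor (T : Subgroup G) (hP : (P : Subgroup G) ≤ T) :
    T.index ≡ (T.subgroupOf (nor P)).index [MOD p] := by
  letI : MulAction (P : Subgroup G) (G ⧸ T) := MulAction.compHom _ (P : Subgroup G).subtype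
  have hfix : ∀ n : nor P, ∀ s : (P : Subgroup G),
      s • (((n : G) : G ⧸ T)) = ((n : G) : G ⧸ T) := by
    intro n s
    show (((s : G) * (n : G) : G) : G ⧸ T) = _
    rw [QuotientGroup.eq]
    refine hP ?_
    have h1 := (Subgroup.mem_normalizer_iff''.1 n.2 (s : G)⁻¹).1 (inv_mem s.2)
    simpa [mul_assoc] using h1
  let ψ : nor P ⧸ T.subgroupOf (nor P) → MulAction.fixedPoints (P : Subgroup G) (G ⧸ T) :=
    Quotient.lift (fun n : nor P => ⟨((n : G) : G ⧸ T), hfix n⟩) fun a b hab => by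
      have := QuotientGroup.leftRel_apply.1 hab
      exact Subtype.ext (QuotientGroup.eq.2 this)
  have hψ : Function.Bijective ψ := by
    constructor
    · intro a b hab
      induction a using QuotientGroup.induction_on with
      | _ a =>
      induction b using QuotientGroup.induction_on with
      | _ b =>
      rw [QuotientGroup.eq]
      show (a : G)⁻¹ * (b : G) ∈ T
      exact QuotientGroup.eq.1 (congrArg Subtype.val hab)
    · rintro ⟨z, hz⟩
      obtain ⟨g, rfl⟩ := QuotientGroup.mk_surjective z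
      obtain ⟨t, ht, hn⟩ := exists_mul_mem_nor P T hP g fun s hs => by
        have h1 : (((⟨s, hs⟩ : (P : Subgroup G))⁻¹ : (P : Subgroup G)) • (g : G ⧸ T)) = (g : G ⧸ T) :=
          hz _
        have h2 : ((s⁻¹ * g : G) : G ⧸ T) = (g : G ⧸ T) := h1
        rw [QuotientGroup.eq] at h2
        simpa [mul_assoc] using h2
      refine ⟨((⟨g * t, hn⟩ : nor P) : nor P ⧸ T.subgroupOf (nor P)), Subtype.ext ?_⟩
      show ((g * t : G) : G ⧸ T) = (g : G ⧸ T)
      rw [QuotientGroup.eq]
      simpa using T.inv_mem ht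
  have h := P.2.card_modEq_card_fixedPoints (G ⧸ T)
  rw [← Nat.card_eq_of_bijective ψ hψ] at h
  exact h

variable (K : Subgroup G) [hKn : K.Normal]

/-- Two `P`-invariant conjugates differ by an element of the normaliser. -/
theorem exists_nor_conj {θ θ' : Cfsg.IrrCharacter K}
    (h : (P : Subgroup G) ≤ inertia K (θ : K → ℂ)) (h' : (P : Subgroup G) ≤ inertia K (θ' : K → ℂ))
    {x : G} (hx : conjC K x θ = (θ' : K → ℂ)) : ∃ n ∈ nor P, conjC K n θ = (θ' : K → ℂ) := by
  obtain ⟨t, ht, hn⟩ := exists_mul_mem_nor P _ h x⁻¹ fun s hs => by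
    rw [inv_inv, mem_inertia]
    have h1 : conjC K (x * s) θ = conjC K x θ := by
      rw [conjC_mul, hx]; exact (mem_inertia K).1 (h' hs)
    exact (mem_inertia K).1 ((conjC_eq_conjC_iff K (x * s) x).1 h1)
  refine ⟨t⁻¹ * x, ?_, ?_⟩
  · have := (nor P).inv_mem hn
    rwa [mul_inv_rev, inv_inv] at this
  · rw [conjC_mul, (mem_inertia K).1 ((inertia K (θ : K → ℂ)).inv_mem ht), hx]

/-- Conjugation by `P` on `K`. -/
def act : (P : Subgroup G) →* MulAut K :=
  (MulAut.conjNormal (H := K)).comp (P : Subgroup G).subtype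

theorem inv_iff (θ : K → ℂ) : Inv (act P K) θ ↔ (P : Subgroup G) ≤ inertia K θ := by
  constructor
  · intro h s hs
    rw [mem_inertia]
    funext k
    exact h ⟨s, hs⟩ k
  · intro h s k
    exact congrFun ((mem_inertia K).1 (h s.2)) k

/-- The fixed points modulo `P ∩ K`. -/
abbrev cK : Subgroup K := (nor P).subgroupOf K

/-- The part of the normaliser in `K`. -/
abbrev cN : Subgroup (nor P) := K.subgroupOf (nor P)

/-- The two descriptions of `N_K(P)`. -/
def eC : cN P K ≃* cK P K where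
  toFun x := ⟨⟨((x : nor P) : G), x.2⟩, (x : nor P).2⟩
  invFun x := ⟨⟨((x : K) : G), x.2⟩, (x : K).2⟩
  left_inv _ := rfl
  right_inv _ := rfl
  map_mul' _ _ := rfl

theorem setting (hQn : ((P : Subgroup G).subgroupOf K).Normal) :
    Setting (act P K) p ((P : Subgroup G).subgroupOf K) (cK P K) where
  isPGroup := P.2
  normal := hQn
  stable s x hx := by
    show (s : G) * (x : G) * (s : G)⁻¹ ∈ (P : Subgroup G)
    exact mul_mem (mul_mem s.2 hx) (inv_mem s.2)
  index := fun h => P.not_dvd_index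
    (h.trans (CrossDegrees.relIndex_dvd_index (P : Subgroup G) K))
  card := IsPGroup.iff_card.1 P.2.comap_subtype
  fixed x := by
    constructor
    · intro hx s
      show (s : G) * (x : G) * (s : G)⁻¹ * (x : G)⁻¹ ∈ (P : Subgroup G)
      rw [show (s : G) * (x : G) * (s : G)⁻¹ * (x : G)⁻¹ =
        (s : G) * ((x : G) * (s : G)⁻¹ * (x : G)⁻¹) by group]
      exact mul_mem s.2 ((Subgroup.mem_normalizer_iff.1 hx _).1 (inv_mem s.2))
    · intro h
      show (x : G) ∈ nor P
      refine Sylow.smul_eq_iff_mem_normalizer.1 ?_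
      apply Sylow.ext
      refine Subgroup.eq_of_le_of_card_ge ?_ ?_
      · rw [Sylow.coe_subgroup_smul]
        rintro _ ⟨s, hs, rfl⟩
        show (x : G) * s * (x : G)⁻¹ ∈ (P : Subgroup G)
        have h1 : s⁻¹ * (x : G) * s⁻¹⁻¹ * (x : G)⁻¹ ∈ (P : Subgroup G) :=
          h ⟨s⁻¹, inv_mem hs⟩
        have h2 := mul_mem hs h1
        rwa [inv_inv, show s * (s⁻¹ * (x : G) * s * (x : G)⁻¹) = (x : G) * s * (x : G)⁻¹ by group]
          at h2
      · rw [((x : G) • P).card_eq_multiplicity, P.card_eq_multiplicity]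

/-- Glauberman partners. -/
def Partner (θ : Cfsg.IrrCharacter K) (ξ : Cfsg.IrrCharacter (cK P K)) : Prop :=
  Inv (act P K) (θ : K → ℂ) ∧ InvOn (act P K) (cK P K) (ξ : cK P K → ℂ) ∧
    ¬ p ∣ mult (cK P K).subtype θ ξ

section Normal

variable (hQn : ((P : Subgroup G).subgroupOf K).Normal)
include hQn

theorem partner_unique {θ : Cfsg.IrrCharacter K} {ξ ξ' : Cfsg.IrrCharacter (cK P K)}
    (h : Partner P K θ ξ) (h' : Partner P K θ ξ') : ξ = ξ' := by
  obtain ⟨ξ₀, -, -, hu, -⟩ := (correspondence_main (setting P K hQn)).1 θ h.1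
  rw [hu ξ h.2.1 h.2.2, hu ξ' h'.2.1 h'.2.2]

theorem partner_inj {θ θ' : Cfsg.IrrCharacter K} {ξ : Cfsg.IrrCharacter (cK P K)}
    (h : Partner P K θ ξ) (h' : Partner P K θ' ξ) : θ = θ' :=
  (correspondence_main (setting P K hQn)).2.2 θ θ' ξ h.1 h'.1 h.2.1 h.2.2 h'.2.2

theorem exists_partner {θ : Cfsg.IrrCharacter K} (hθ : Inv (act P K) (θ : K → ℂ)) :
    ∃ ξ, Partner P K θ ξ ∧ ∀ d e : ℕ, (θ : K → ℂ) 1 = d → (ξ : cK P K → ℂ) 1 = e →
      (e : ZMod p) = d ∨ (e : ZMod p) = -(d : ZMod p) := by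
  obtain ⟨ξ, hξ, hm, -, hdeg⟩ := (correspondence_main (setting P K hQn)).1 θ hθ
  refine ⟨ξ, ⟨hθ, hξ, fun h => ?_⟩, hdeg⟩
  rw [← ZMod.natCast_eq_zero_iff] at h
  rcases hm with e | e <;> · rw [h] at e; revert e; simp

omit hQn in
/-- The twist of a partner pair by an element of the normaliser. -/
theorem partner_twist {θ : Cfsg.IrrCharacter K} {ξ : Cfsg.IrrCharacter (cK P K)}
    (h : Partner P K θ ξ) (n : nor P) {θ' : Cfsg.IrrCharacter K}
    {ξ' : Cfsg.IrrCharacter (cK P K)} (hθ' : conjC K (n : G) θ = (θ' : K → ℂ))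
    (hξ' : conjC (cN P K) n ((ξ : cK P K → ℂ) ∘ eC P K) = (ξ' : cK P K → ℂ) ∘ eC P K) :
    Partner P K θ' ξ' := by
  have hn : ∀ s ∈ (P : Subgroup G), (n : G) * s * (n : G)⁻¹ ∈ (P : Subgroup G) := fun s hs =>
    (Subgroup.mem_normalizer_iff.1 n.2 s).1 hs
  have hC : ∀ (m : nor P), ∀ x ∈ cK P K, MulAut.conjNormal (m : G) x ∈ cK P K := fun m x hx =>
    (nor P).mul_mem ((nor P).mul_mem m.2 hx) ((nor P).inv_mem m.2)
  let τ : cK P K ≃* cK P K :=
    restrictAct ((MulAut.conjNormal (H := K)).comp (nor P).subtype) (cK P K) hC n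
  have hval : ∀ x : cK P K, (ξ' : cK P K → ℂ) x = (ξ : cK P K → ℂ) (τ x) := fun x => by
    have h1 := congrFun hξ' ((eC P K).symm x)
    rw [Function.comp_apply, MulEquiv.apply_symm_apply] at h1
    rw [← h1, conjC_apply]
    exact congrArg (ξ : cK P K → ℂ) (Subtype.ext (Subtype.ext rfl))
  refine ⟨?_, ?_, ?_⟩
  · rw [inv_iff]
    intro s hs
    rw [mem_inertia, ← hθ', ← conjC_mul,
      show (n : G) * s = (n : G) * s * (n : G)⁻¹ * (n : G) by group, conjC_mul,
      (mem_inertia K).1 ((inv_iff P K _).1 h.1 (hn s hs))]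
  · intro s x y hy
    rw [hval, hval]
    refine h.2.1 ⟨(n : G) * s * (n : G)⁻¹, hn s s.2⟩ (τ x) (τ y) (Subtype.ext ?_)
    show (n : G) * ((y : K) : G) * (n : G)⁻¹ =
      (n : G) * (s : G) * (n : G)⁻¹ * ((n : G) * ((x : K) : G) * (n : G)⁻¹) *
        ((n : G) * (s : G) * (n : G)⁻¹)⁻¹
    rw [hy]
    show (n : G) * ((s : G) * ((x : K) : G) * (s : G)⁻¹) * (n : G)⁻¹ = _
    group
  · rw [mult_twist (cK P K).subtype (MulAut.conjNormal (H := K) (n : G)) τ (fun _ => rfl)
      (χ := θ) (β := ξ) (fun g => by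
        rw [← congrFun hθ' g, conjC_apply]
        exact congrArg (θ : K → ℂ) (Subtype.ext (MulAut.conjNormal_apply _ _).symm))
      hval]
    exact h.2.2

omit hQn in
theorem classInner_conj {X : Type u} [Group X] [Fintype X] (f g : X → ℂ) :
    Cfsg.classInner (fun x => conj (f x)) (fun x => conj (g x)) = conj (Cfsg.classInner f g) := by
  simp only [Cfsg.classInner, map_mul, map_inv₀, map_natCast, map_sum]

omit hQn in
theorem partner_conj {θ : Cfsg.IrrCharacter K} {ξ : Cfsg.IrrCharacter (cK P K)}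
    (h : Partner P K θ ξ) : Partner P K (Linear.conjChar θ) (Linear.conjChar ξ) := by
  refine ⟨fun s k => ?_, fun s x y hy => ?_, ?_⟩
  · rw [Linear.conjChar_apply, Linear.conjChar_apply, h.1 s k]
  · rw [Linear.conjChar_apply, Linear.conjChar_apply, h.2.1 s x y hy]
  · have e : mult (cK P K).subtype (Linear.conjChar θ) (Linear.conjChar ξ) =
        mult (cK P K).subtype θ ξ := by
      rw [Glauberman.mult_eq_iff _ _ _ _ |>.1]
      have h1 := congrArg conj (coe_mult (cK P K).subtype θ ξ)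
      rw [← classInner_conj, map_natCast] at h1
      rw [← h1]
      rfl
    rw [e]
    exact h.2.2

theorem real_iff {θ : Cfsg.IrrCharacter K} {ξ : Cfsg.IrrCharacter (cK P K)}
    (h : Partner P K θ ξ) :
    (∀ k, ((θ : K → ℂ) k).im = 0) ↔ ∀ x, ((ξ : cK P K → ℂ) x).im = 0 := by
  have hc := partner_conj P K h
  constructor
  · intro hr x
    have e : Linear.conjChar θ = θ := Subtype.ext (funext fun k => by
      rw [Linear.conjChar_apply]; exact Complex.conj_eq_iff_im.2 (hr k))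
    rw [e] at hc
    have h1 : Linear.conjChar ξ = ξ := partner_unique P K hQn hc h
    refine Complex.conj_eq_iff_im.1 ?_
    rw [← Linear.conjChar_apply, h1]
  · intro hr x
    have e : Linear.conjChar ξ = ξ := Subtype.ext (funext fun k => by
      rw [Linear.conjChar_apply]; exact Complex.conj_eq_iff_im.2 (hr k))
    rw [e] at hc
    have h1 : Linear.conjChar θ = θ := partner_inj P K hQn hc h
    refine Complex.conj_eq_iff_im.1 ?_
    rw [← Linear.conjChar_apply, h1]

/-- The inertia groups correspond. -/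
theorem inertia_eq {θ : Cfsg.IrrCharacter K} {ξ : Cfsg.IrrCharacter (cK P K)}
    (h : Partner P K θ ξ) :
    inertia (cN P K) ((ξ : cK P K → ℂ) ∘ eC P K) =
      (inertia K (θ : K → ℂ)).subgroupOf (nor P) := by
  ext n
  rw [Subgroup.mem_subgroupOf, mem_inertia, mem_inertia]
  constructor
  · intro hn
    let θ' : Cfsg.IrrCharacter K := ⟨_, isIrrCharacter_conjC K (n : G) θ.2⟩
    exact congrArg Subtype.val
      (partner_inj P K hQn (partner_twist P K h n (θ' := θ') rfl hn) h : θ' = θ)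
  · intro hn
    let ξe : Cfsg.IrrCharacter (cN P K) :=
      ⟨_, Basic.isIrrCharacter_comp (eC P K).toMonoidHom (eC P K).surjective ξ.2⟩
    let ξ' : Cfsg.IrrCharacter (cK P K) :=
      ⟨_, Basic.isIrrCharacter_comp (eC P K).symm.toMonoidHom (eC P K).symm.surjective
        (isIrrCharacter_conjC (cN P K) n ξe.2)⟩
    have e : conjC (cN P K) n ((ξ : cK P K → ℂ) ∘ eC P K) = (ξ' : cK P K → ℂ) ∘ eC P K := by
      funext x
      show _ = conjC (cN P K) n (ξe : cN P K → ℂ) ((eC P K).symm (eC P K x))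
      rw [MulEquiv.symm_apply_apply]
      rfl
    rw [e, (partner_unique P K hQn (partner_twist P K h n hn e) h : ξ' = ξ)]

end Normal

/-- A real character over a real character of a normal subgroup of odd index has multiplicity one
there. -/
theorem real_over_degree {X : Type u} [Group X] [Fintype X] (L : Subgroup X) [L.Normal]
    (hodd : Odd L.index) {χ : Cfsg.IrrCharacter X} (hχ : ∀ g, ((χ : X → ℂ) g).im = 0)
    {θ : Cfsg.IrrCharacter L} (hθ : ∀ k, ((θ : L → ℂ) k).im = 0)
    (h : Cfsg.classInner (fun k : L => (χ : X → ℂ) k) (θ : L → ℂ) ≠ 0) :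
    (χ : X → ℂ) 1 = ((inertia L (θ : L → ℂ)).index : ℂ) * (θ : L → ℂ) 1 := by
  obtain ⟨χ₀, -, -, hnu, huniq⟩ := RealChars.existsUnique_real_over L hodd θ hθ
  obtain rfl := huniq χ hχ h
  obtain ⟨m, hm⟩ := Basic.exists_classInner_nat
    (Basic.isCharacter_comp L.subtype (Basic.isCharacter_irr χ)) (Basic.isCharacter_irr θ)
  replace hm : Cfsg.classInner (fun k : L => (χ : X → ℂ) k) (θ : L → ℂ) = m := hm
  have e1 : ∀ {Y : Type u} [Group Y] [Fintype Y] (φ : Cfsg.IrrCharacter Y),
      (∀ g, ((φ : Y → ℂ) g).im = 0) →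
      RealChars.nu (φ : Y → ℂ) = 1 ∨ RealChars.nu (φ : Y → ℂ) = -1 := fun φ hφ =>
    (Indicator.indicator_spec φ).1 hφ
  rw [hm] at hnu
  have hm1 : m = 1 := by
    rcases e1 χ hχ with a | a <;> rcases e1 θ hθ with b | b <;> rw [a, b] at hnu
    · rw [one_mul] at hnu; exact_mod_cast hnu
    · rw [one_mul] at hnu
      exact absurd (congrArg Complex.re hnu) (by
        simp only [Complex.natCast_re, Complex.neg_re, Complex.one_re]
        have : (0 : ℝ) ≤ m := Nat.cast_nonneg m
        linarith)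
    · rw [neg_one_mul] at hnu
      exact absurd (congrArg Complex.re hnu) (by
        simp only [Complex.natCast_re, Complex.neg_re, Complex.one_re]
        have : (0 : ℝ) ≤ m := Nat.cast_nonneg m
        linarith)
    · rw [neg_one_mul, neg_inj] at hnu; exact_mod_cast hnu
  rw [clifford_degree L χ.2 θ h, hm, hm1, Nat.cast_one, one_mul]

omit [Fintype G] in
theorem charDegree_eq {χ : G → ℂ} {d : ℕ} (h : χ 1 = d) : Cfsg.charDegree χ = d := by
  rw [Cfsg.charDegree, h, Complex.natCast_re, Nat.floor_natCast]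

section Main

variable (hodd : Odd K.index) (hreal : RealPPrime p G)
include hodd hreal

/-- A real character has a real constituent fixed by `P`. -/
theorem exists_fixed_constituent {χ : Cfsg.IrrCharacter G} (hχ : ∀ g, ((χ : G → ℂ) g).im = 0) :
    ∃ θ : Cfsg.IrrCharacter K, (∀ k, ((θ : K → ℂ) k).im = 0) ∧ Inv (act P K) (θ : K → ℂ) ∧
      Cfsg.classInner (fun k : K => (χ : G → ℂ) k) (θ : K → ℂ) ≠ 0 := by
  obtain ⟨θ₀, hθ₀⟩ := exists_constituent_restrict K χ.2
  have hθ₀r := real_constituent K hodd hχ hθ₀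
  obtain ⟨d, hd⟩ := Basic.exists_degree (Basic.isCharacter_irr θ₀)
  have hdeg := real_over_degree K hodd hχ hθ₀r hθ₀
  rw [hd, ← Nat.cast_mul] at hdeg
  have hp := hreal χ hχ
  rw [charDegree_eq hdeg] at hp
  set T := inertia K (θ₀ : K → ℂ) with hT
  obtain ⟨S⟩ : Nonempty (Sylow p T) := inferInstance
  have hcard : Nat.card ((S : Subgroup T).map T.subtype) = p ^ (Nat.card G).factorization p := by
    rw [Subgroup.card_map_of_injective T.subtype_injective, S.card_eq_multiplicity,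
      ← T.card_mul_index, Nat.factorization_mul Nat.card_pos.ne'
      Subgroup.index_ne_zero_of_finite, Finsupp.add_apply,
      Nat.factorization_eq_zero_of_not_dvd (fun h => hp (h.mul_right d)), add_zero]
  obtain ⟨g, hg⟩ := MulAction.exists_smul_eq G P (Sylow.ofCard _ hcard)
  let θ : Cfsg.IrrCharacter K := ⟨_, isIrrCharacter_conjC K g θ₀.2⟩
  have hθ : Cfsg.classInner (fun k : K => (χ : G → ℂ) k) (θ : K → ℂ) ≠ 0 := by
    show Cfsg.classInner _ (conjC K g (θ₀ : K → ℂ)) ≠ 0
    rwa [classInner_restrict_conjC K (Basic.isClassFunction_irr χ)]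
  refine ⟨θ, real_constituent K hodd hχ hθ, (inv_iff P K _).2 fun s hs => ?_, hθ⟩
  have h1 : g * s * g⁻¹ ∈ T := by
    have h2 : g * s * g⁻¹ ∈ ((g • P : Sylow p G) : Subgroup G) := by
      rw [Sylow.coe_subgroup_smul]
      exact ⟨s, hs, rfl⟩
    rw [hg, Sylow.coe_ofCard] at h2
    exact Subgroup.map_subtype_le _ h2
  rw [mem_inertia]
  show conjC K s (conjC K g (θ₀ : K → ℂ)) = conjC K g (θ₀ : K → ℂ)
  rw [← conjC_mul, show g * s = g * s * g⁻¹ * g by group, conjC_mul, (mem_inertia K).1 h1]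

/-- The correspondence of real characters. -/
theorem exists_bijection (hQn : ((P : Subgroup G).subgroupOf K).Normal) :
    ∃ f : {χ : Cfsg.IrrCharacter G // ∀ g, ((χ : G → ℂ) g).im = 0} →
      {η : Cfsg.IrrCharacter (nor P) // (∀ n, ((η : nor P → ℂ) n).im = 0) ∧
        ¬ p ∣ Cfsg.charDegree (η : nor P → ℂ)},
      Function.Bijective f ∧ ∀ χ,
        ((Cfsg.charDegree ((f χ).1 : nor P → ℂ) : ZMod p) = (Cfsg.charDegree (χ.1 : G → ℂ) : ZMod p) ∨
        (Cfsg.charDegree ((f χ).1 : nor P → ℂ) : ZMod p) =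
          -(Cfsg.charDegree (χ.1 : G → ℂ) : ZMod p)) := by
  classical
  have hoddN : Odd (cN P K).index :=
    hodd.of_dvd_nat (Subgroup.relIndex_dvd_index_of_normal K (nor P))
  choose θ hθr hθi hθc using fun χ : {χ : Cfsg.IrrCharacter G // ∀ g, ((χ : G → ℂ) g).im = 0} =>
    exists_fixed_constituent P K hodd hreal χ.2
  choose ξ hξ hξd using fun χ => exists_partner P K hQn (hθi χ)
  have hξr : ∀ χ x, ((ξ χ : cK P K → ℂ) x).im = 0 := fun χ => (real_iff P K hQn (hξ χ)).1 (hθr χ)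
  let ξe : Cfsg.IrrCharacter (cK P K) → Cfsg.IrrCharacter (cN P K) := fun z =>
    ⟨_, Basic.isIrrCharacter_comp (eC P K).toMonoidHom (eC P K).surjective z.2⟩
  have hover := fun χ => RealChars.existsUnique_real_over (cN P K) hoddN (ξe (ξ χ))
    fun x => hξr χ (eC P K x)
  choose η hηr hηc hηnu hηu using hover
  have hfin : ∀ χ, ((Cfsg.charDegree (η χ : nor P → ℂ) : ZMod p) =
      (Cfsg.charDegree (χ.1 : G → ℂ) : ZMod p) ∨
      (Cfsg.charDegree (η χ : nor P → ℂ) : ZMod p) = -(Cfsg.charDegree (χ.1 : G → ℂ) : ZMod p)) ∧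
      ¬ p ∣ Cfsg.charDegree (η χ : nor P → ℂ) := by
    intro χ
    obtain ⟨d, hd⟩ := Basic.exists_degree (Basic.isCharacter_irr (θ χ))
    obtain ⟨e, he⟩ := Basic.exists_degree (Basic.isCharacter_irr (ξ χ))
    have h1 := real_over_degree K hodd χ.2 (hθr χ) (hθc χ)
    have h2 := real_over_degree (cN P K) hoddN (hηr χ) (fun x => hξr χ (eC P K x)) (hηc χ)
    rw [hd, ← Nat.cast_mul] at h1
    have he' : (ξe (ξ χ) : cN P K → ℂ) 1 = e := by
      show (ξ χ : cK P K → ℂ) (eC P K 1) = e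
      rw [map_one, he]
    rw [he', show inertia (cN P K) (ξe (ξ χ) : cN P K → ℂ) =
      (inertia K (θ χ : K → ℂ)).subgroupOf (nor P) from inertia_eq P K hQn (hξ χ),
      ← Nat.cast_mul] at h2
    have hi := (ZMod.natCast_eq_natCast_iff _ _ p).2
      (index_modEq_nor P (inertia K (θ χ : K → ℂ)) ((inv_iff P K _).1 (hθi χ)))
    have hp := hreal χ.1 χ.2
    rw [charDegree_eq h1] at hp ⊢
    rw [charDegree_eq h2, ← ZMod.natCast_eq_zero_iff, Nat.cast_mul, Nat.cast_mul, ← hi]
    rw [← ZMod.natCast_eq_zero_iff, Nat.cast_mul] at hp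
    rcases hξd χ d e hd he with hde | hde <;> rw [hde]
    · exact ⟨Or.inl rfl, hp⟩
    · rw [mul_neg]
      exact ⟨Or.inr rfl, fun h => hp (neg_eq_zero.1 h)⟩
  refine ⟨fun χ => ⟨η χ, hηr χ, (hfin χ).2⟩, ⟨?_, ?_⟩, fun χ => (hfin χ).1⟩
  · intro χ χ' h
    have he : η χ = η χ' := congrArg Subtype.val h
    obtain ⟨n, hn⟩ := exists_conj_of_constituents (cN P K) (η χ).2 (hηc χ)
      (θ := ξe (ξ χ)) (ψ := ξe (ξ χ')) (he ▸ hηc χ')
    let θ' : Cfsg.IrrCharacter K := ⟨_, isIrrCharacter_conjC K (n : G) (θ χ).2⟩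
    have h1 : θ' = θ χ' := partner_inj P K hQn (partner_twist P K (hξ χ) n (θ' := θ') rfl hn)
      (hξ χ')
    have h2 : Cfsg.classInner (fun k : K => (χ.1 : G → ℂ) k) (θ χ' : K → ℂ) ≠ 0 := by
      rw [← h1]
      show Cfsg.classInner _ (conjC K (n : G) (θ χ : K → ℂ)) ≠ 0
      rw [classInner_restrict_conjC K (Basic.isClassFunction_irr χ.1)]
      exact hθc χ
    obtain ⟨χ₀, -, -, -, hu⟩ := RealChars.existsUnique_real_over K hodd (θ χ') (hθr χ')
    exact Subtype.ext ((hu χ.1 χ.2 h2).trans (hu χ'.1 χ'.2 (hθc χ')).symm)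
  · rintro ⟨η₀, hr, hd⟩
    obtain ⟨β, hβ⟩ := exists_constituent_restrict (cN P K) η₀.2
    have hβr := real_constituent (cN P K) hoddN hr hβ
    have hdeg := real_over_degree (cN P K) hoddN hr hβr hβ
    obtain ⟨e, he⟩ := Basic.exists_degree (Basic.isCharacter_irr β)
    rw [he, ← Nat.cast_mul] at hdeg
    rw [charDegree_eq hdeg] at hd
    set T := inertia (cN P K) (β : cN P K → ℂ) with hT
    -- the normal Sylow subgroup of the normaliser lies in the inertia group
    have hPT : ∀ s : nor P, (s : G) ∈ (P : Subgroup G) → s ∈ T := by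
      intro s hs
      obtain ⟨S⟩ : Nonempty (Sylow p T) := inferInstance
      have hPn : (P : Subgroup G) ≤ nor P := Subgroup.le_normalizer
      let PN : Sylow p (nor P) := P.subtype hPn
      haveI : (PN : Subgroup (nor P)).Normal := by
        rw [Sylow.coe_subtype]
        exact Subgroup.normal_subgroupOf_of_le_normalizer le_rfl
      have hcard : Nat.card ((S : Subgroup T).map T.subtype) =
          p ^ (Nat.card (nor P)).factorization p := by
        rw [Subgroup.card_map_of_injective T.subtype_injective, S.card_eq_multiplicity,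
          ← T.card_mul_index, Nat.factorization_mul Nat.card_pos.ne'
          Subgroup.index_ne_zero_of_finite, Finsupp.add_apply,
          Nat.factorization_eq_zero_of_not_dvd (fun h => hd (h.mul_right e)), add_zero]
      haveI := (Sylow.unique_of_normal PN inferInstance)
      have h1 : Sylow.ofCard _ hcard = PN := Subsingleton.elim _ _
      have h2 : s ∈ (PN : Subgroup (nor P)) := by
        rw [Sylow.coe_subtype]; exact hs
      rw [← h1, Sylow.coe_ofCard] at h2
      exact Subgroup.map_subtype_le _ h2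
    let ξ₀ : Cfsg.IrrCharacter (cK P K) :=
      ⟨_, Basic.isIrrCharacter_comp (eC P K).symm.toMonoidHom (eC P K).symm.surjective β.2⟩
    have hξ₀ : InvOn (act P K) (cK P K) (ξ₀ : cK P K → ℂ) := by
      intro s x y hy
      have hsN : (s : G) ∈ nor P := Subgroup.le_normalizer s.2
      have h1 := congrFun ((mem_inertia (cN P K)).1 (hPT ⟨s, hsN⟩ s.2)) ((eC P K).symm x)
      rw [conjC_apply] at h1
      refine Eq.trans ?_ h1
      exact congrArg (β : cN P K → ℂ) (Subtype.ext (Subtype.ext (congrArg (fun z : K => (z : G)) hy :)))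
    obtain ⟨θ₀, hθ₀i, hm⟩ := (correspondence_main (setting P K hQn)).2.1 ξ₀ hξ₀
    have hP₀ : Partner P K θ₀ ξ₀ := ⟨hθ₀i, hξ₀, hm⟩
    have hθ₀r : ∀ k, ((θ₀ : K → ℂ) k).im = 0 :=
      (real_iff P K hQn hP₀).2 fun x => hβr ((eC P K).symm x)
    obtain ⟨χ, hχr, hχc, -, -⟩ := RealChars.existsUnique_real_over K hodd θ₀ hθ₀r
    refine ⟨⟨χ, hχr⟩, Subtype.ext (hηu _ η₀ hr ?_).symm⟩
    obtain ⟨x, hx⟩ := exists_conj_of_constituents K χ.2 hχc (hθc ⟨χ, hχr⟩)
    obtain ⟨n, hn, hnθ⟩ := exists_nor_conj P K ((inv_iff P K _).1 hθ₀i)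
      ((inv_iff P K _).1 (hθi ⟨χ, hχr⟩)) hx
    let ξ' : Cfsg.IrrCharacter (cK P K) :=
      ⟨_, Basic.isIrrCharacter_comp (eC P K).symm.toMonoidHom (eC P K).symm.surjective
        (isIrrCharacter_conjC (cN P K) ⟨n, hn⟩ β.2)⟩
    have e1 : conjC (cN P K) ⟨n, hn⟩ ((ξ₀ : cK P K → ℂ) ∘ eC P K) =
        (ξ' : cK P K → ℂ) ∘ eC P K := by
      funext z
      show conjC (cN P K) ⟨n, hn⟩ ((ξ₀ : cK P K → ℂ) ∘ eC P K) z =
        conjC (cN P K) ⟨n, hn⟩ (β : cN P K → ℂ) ((eC P K).symm (eC P K z))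
      rw [MulEquiv.symm_apply_apply]
      rfl
    have h3 : ξ' = ξ ⟨χ, hχr⟩ :=
      partner_unique P K hQn (partner_twist P K hP₀ ⟨n, hn⟩ hnθ e1) (hξ ⟨χ, hχr⟩)
    rw [← h3]
    rw [show (ξe ξ' : cN P K → ℂ) = conjC (cN P K) ⟨n, hn⟩ (β : cN P K → ℂ) from e1.symm,
      classInner_restrict_conjC (cN P K) (Basic.isClassFunction_irr η₀)]
    exact hβ

end Main

end Cfsg.Agent.Lib.Chars82.RealPrimeCorr
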